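import Mathlib
import Cfsg.Agent.Helper3.QuatInvol
import Cfsg.Agent.Lib.Cores

/-!
# Brauer–Suzuki for `Q8`: the inductive wrapper (helper95)

`card_center_of_proper_normal`: let `S ≅ Q8` be a Sylow `2`-subgroup of `G`, `O(G) = 1`, and assume
the Brauer–Suzuki statement for all groups of smaller order.  If some proper normal subgroup of
`G` contains an involution, then `|Z(G)| = 2`.
-/

set_option autoImplicit false

namespace Cfsg.Agent.Helper95.QuatInduct

open QuaternionGroup

universe u

/-! ### Facts on `QuaternionGroup 2` -/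

theorem q8_sq_eq_one (q : QuaternionGroup 2) (h : q * q = 1) : q = 1 ∨ q = a 2 := by
  revert q; decide

theorem q8_central (q : QuaternionGroup 2) (h : ∀ r : QuaternionGroup 2, r * q = q * r) :
    q = 1 ∨ q = a 2 := by
  revert q; decide

theorem q8_a2_central (r : QuaternionGroup 2) : r * a 2 = a 2 * r := by
  revert r; decide

theorem q8_a2_ne : (a 2 : QuaternionGroup 2) ≠ 1 := by decide

theorem q8_a2_sq : (a 2 : QuaternionGroup 2) * a 2 = 1 := by decide

theorem q8_pow_four (q : QuaternionGroup 2) : q ^ 4 = 1 := by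
  revert q; decide

theorem q8_card : Nat.card (QuaternionGroup 2) = 8 := by
  rw [Nat.card_eq_fintype_card, QuaternionGroup.card]

variable {G : Type u} [Group G]

/-- Data of a subgroup `S ≅ Q8`: its involution `t`. -/
structure Q8Data (S : Subgroup G) (t : G) : Prop where
  mem : t ∈ S
  ne_one : t ≠ 1
  sq : t * t = 1
  central : ∀ s ∈ S, s * t = t * s
  unique : ∀ s ∈ S, s * s = 1 → s = 1 ∨ s = t
  center : ∀ z ∈ S, (∀ s ∈ S, s * z = z * s) → z = 1 ∨ z = t
  pow_four : ∀ s ∈ S, s ^ 4 = 1
  card : Nat.card S = 8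

theorem exists_q8Data (S : Subgroup G) (e : S ≃* QuaternionGroup 2) :
    ∃ t : G, Q8Data S t := by
  refine ⟨(e.symm (a 2) : S), (e.symm (a 2)).2, ?_, ?_, ?_, ?_, ?_, ?_, ?_⟩
  · intro h
    have h1 : e.symm (a 2) = 1 := Subtype.ext h
    have := congrArg e h1
    rw [MulEquiv.apply_symm_apply, map_one] at this
    exact q8_a2_ne this
  · have : e.symm (a 2) * e.symm (a 2) = 1 := by rw [← map_mul, q8_a2_sq, map_one]
    exact congrArg Subtype.val this
  · intro s hs
    have : (⟨s, hs⟩ : S) * e.symm (a 2) = e.symm (a 2) * ⟨s, hs⟩ := by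
      apply e.injective
      rw [map_mul, map_mul, MulEquiv.apply_symm_apply]
      exact q8_a2_central _
    exact congrArg Subtype.val this
  · intro s hs hsq
    have h1 : e ⟨s, hs⟩ * e ⟨s, hs⟩ = 1 := by
      rw [← map_mul]
      have : (⟨s, hs⟩ : S) * ⟨s, hs⟩ = 1 := Subtype.ext hsq
      rw [this, map_one]
    rcases q8_sq_eq_one _ h1 with h | h
    · left
      have : (⟨s, hs⟩ : S) = 1 := by apply e.injective; rw [map_one]; exact h
      exact congrArg Subtype.val this
    · right
      have : (⟨s, hs⟩ : S) = e.symm (a 2) := by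
        apply e.injective; rw [MulEquiv.apply_symm_apply]; exact h
      exact congrArg Subtype.val this
  · intro z hz hcomm
    have h1 : ∀ r : QuaternionGroup 2, r * e ⟨z, hz⟩ = e ⟨z, hz⟩ * r := by
      intro r
      have h2 := hcomm (e.symm r : S) (e.symm r).2
      have h3 : e.symm r * ⟨z, hz⟩ = ⟨z, hz⟩ * e.symm r := Subtype.ext h2
      have := congrArg e h3
      rwa [map_mul, map_mul, MulEquiv.apply_symm_apply] at this
    rcases q8_central _ h1 with h | h
    · left
      have : (⟨z, hz⟩ : S) = 1 := by apply e.injective; rw [map_one]; exact h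
      exact congrArg Subtype.val this
    · right
      have : (⟨z, hz⟩ : S) = e.symm (a 2) := by
        apply e.injective; rw [MulEquiv.apply_symm_apply]; exact h
      exact congrArg Subtype.val this
  · intro s hs
    have : (⟨s, hs⟩ : S) ^ 4 = 1 := by
      apply e.injective; rw [map_pow, map_one]; exact q8_pow_four _
    exact congrArg Subtype.val this
  · rw [Nat.card_congr e.toEquiv, q8_card]

namespace Q8Data

variable {S : Subgroup G} {t : G} (h : Q8Data S t)

include h

theorem orderOf_t : orderOf t = 2 := by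
  apply orderOf_eq_prime
  · rw [pow_two]; exact h.sq
  · exact h.ne_one

/-- an involution of `S` equals `t`. -/
theorem eq_of_involution {s : G} (hs : s ∈ S) (ho : orderOf s = 2) : s = t := by
  have hsq : s * s = 1 := by rw [← pow_two, ← ho]; exact pow_orderOf_eq_one s
  rcases h.unique s hs hsq with h1 | h1
  · exfalso
    rw [h1, orderOf_one] at ho
    omega
  · exact h1

/-- A proper subgroup of `S` is cyclic. -/
theorem isCyclic_of_lt (D : Subgroup G) (hD : D < S) : IsCyclic D := by
  classical
  haveI : Finite S := Nat.finite_of_card_ne_zero (by rw [h.card]; norm_num)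
  haveI : Finite D := Finite.of_injective (Subgroup.inclusion hD.le) (Subgroup.inclusion_injective _)
  -- either some element has order 4 = |D| ... we use: exponent/order analysis
  have hdvd : Nat.card D ∣ 8 := by
    rw [← h.card]
    exact Subgroup.card_dvd_of_le hD.le
  have hne : Nat.card D ≠ 8 := by
    intro h8
    have : D = S := by
      apply Subgroup.eq_of_le_of_card_ge hD.le
      rw [h.card, h8]
    exact hD.ne this
  have hcases : Nat.card D = 1 ∨ Nat.card D = 2 ∨ Nat.card D = 4 := by
    have hle : Nat.card D ≤ 8 := Nat.le_of_dvd (by norm_num) hdvd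
    have hpos : 0 < Nat.card D := Nat.card_pos
    interval_cases hc : Nat.card D <;> simp_all
  rcases hcases with h1 | h2 | h4
  · haveI : Subsingleton D := (Nat.card_eq_one_iff_unique.mp h1).1
    infer_instance
  · haveI : Fact (Nat.Prime 2) := ⟨Nat.prime_two⟩
    exact isCyclic_of_prime_card h2
  · -- order 4: there is an element of order 4
    by_contra hnc
    -- every element of D squares to one
    have hall : ∀ d : D, d * d = 1 := by
      intro d
      have ho : orderOf d ∣ 4 := by
        rw [← h4]; exact orderOf_dvd_natCard d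
      have hne4 : orderOf d ≠ 4 := by
        intro h44
        exact hnc (isCyclic_of_orderOf_eq_card d (by rw [h44, h4]))
      have hle : orderOf d ≤ 4 := Nat.le_of_dvd (by norm_num) ho
      have hpos : 0 < orderOf d := orderOf_pos d
      have h12 : orderOf d ∣ 2 := by
        interval_cases ho' : orderOf d <;> simp_all
      have := orderOf_dvd_iff_pow_eq_one.mp h12
      rw [pow_two] at this
      exact this
    -- so every element of D is 1 or t: card ≤ 2
    have hsub : ∀ d : D, (d : G) = 1 ∨ (d : G) = t := by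
      intro d
      apply h.unique _ (hD.le d.2)
      have := congrArg Subtype.val (hall d)
      simpa using this
    have hle2 : Nat.card D ≤ 2 := by
      have hinj : Function.Injective (fun d : D => if (d : G) = 1 then (0 : Fin 2) else 1) := by
        intro d1 d2 hd
        apply Subtype.ext
        rcases hsub d1 with e1 | e1 <;> rcases hsub d2 with e2 | e2
        · rw [e1, e2]
        · exfalso
          simp only [e1, e2, if_true, h.ne_one, if_false] at hd
          exact absurd hd (by decide)
        · exfalso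
          simp only [e1, e2, if_true, h.ne_one, if_false] at hd
          exact absurd hd (by decide)
        · rw [e1, e2]
      have := Nat.card_le_card_of_injective _ hinj
      simpa using this
    omega

end Q8Data

section Main

variable [Finite G]

open Cfsg.Agent.Helper3.Quat

/-- every involution of `G` is conjugate to `t`. -/
theorem Q8Data.involution_conj {S : Sylow 2 G} {t : G} (h : Q8Data (S : Subgroup G) t)
    {v : G} (hv : orderOf v = 2) : ∃ g : G, g⁻¹ * v * g = t := by
  obtain ⟨g, hg⟩ := exists_conj_mem S (Subgroup.zpowers v) (isPGroup_zpowers_of_orderOf_two hv)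
  refine ⟨g, h.eq_of_involution (hg v (Subgroup.mem_zpowers v)) ?_⟩
  rw [orderOf_conj_inv, hv]

omit [Finite G] in
/-- two non-identity elements of a subgroup of order two are equal. -/
theorem eq_of_card_two {H : Subgroup G} (hH : Nat.card H = 2) {x y : G} (hx : x ∈ H) (hy : y ∈ H)
    (hx1 : x ≠ 1) (hy1 : y ≠ 1) : x = y := by
  obtain ⟨b, -, hb⟩ := (Nat.card_eq_two_iff' (1 : H)).mp hH
  have h1 : (⟨x, hx⟩ : H) = b := hb _ (fun h => hx1 (congrArg Subtype.val h))
  have h2 : (⟨y, hy⟩ : H) = b := hb _ (fun h => hy1 (congrArg Subtype.val h))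
  exact congrArg Subtype.val (h1.trans h2.symm)

/-- A normal subgroup of even order with cyclic Sylow `2`-subgroups is a `2`-group when
`O(G) = 1` (adapted from helper3's `QuatData.isPGroup_invol`). -/
theorem isPGroup_of_normal_cyclic_sylow (M : Subgroup G) (hMn : M.Normal) (Q : Sylow 2 M)
    (hcyc : IsCyclic Q) (heven : 2 ∣ Nat.card M)
    (hO : ∀ N : Subgroup G, N.Normal → Odd (Nat.card N) → N = ⊥) : IsPGroup 2 M := by
  have hmin : (Nat.card M).minFac = 2 := by
    rw [Nat.minFac_eq_two_iff]; exact heven
  have hle := IsCyclic.normalizer_le_centralizer hmin hcyc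
  obtain ⟨K, hK⟩ : ∃ K : Subgroup M, K = (MonoidHom.transferSylow Q hle).ker := ⟨_, rfl⟩
  have hKodd : Odd (Nat.card K) := by
    rw [← Nat.not_even_iff_odd, even_iff_two_dvd, hK]
    exact MonoidHom.not_dvd_card_ker_transferSylow Q hle
  have hcompl : Subgroup.IsComplement' K Q := by
    rw [hK]
    exact MonoidHom.ker_transferSylow_isComplement' Q hle
  have hKn : (K.map M.subtype).Normal := by
    constructor
    rintro _ ⟨k, hk, rfl⟩ g
    have hmem : g * (k : G) * g⁻¹ ∈ M := hMn.conj_mem _ k.2 g
    refine ⟨⟨_, hmem⟩, ?_, rfl⟩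
    have hkodd : Odd (orderOf k) := by
      have h1 : orderOf (⟨k, hk⟩ : K) ∣ Nat.card K := orderOf_dvd_natCard _
      rw [Subgroup.orderOf_mk] at h1
      exact hKodd.of_dvd_nat h1
    have ho : orderOf (⟨g * (k : G) * g⁻¹, hmem⟩ : M) = orderOf k := by
      rw [Subgroup.orderOf_mk, orderOf_conj', Subgroup.orderOf_coe]
    show (⟨g * (k : G) * g⁻¹, hmem⟩ : M) ∈ K
    rw [hK, MonoidHom.mem_ker]
    obtain ⟨z, hz⟩ : ∃ z : Q, z = MonoidHom.transferSylow Q hle ⟨g * (k : G) * g⁻¹, hmem⟩ :=
      ⟨_, rfl⟩
    rw [← hz]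
    have h1 : z ^ (orderOf k) = 1 := by
      rw [hz, ← map_pow, ← ho, pow_orderOf_eq_one, map_one]
    obtain ⟨j, hj⟩ := Q.isPGroup' z
    exact eq_one_of_pow_coprime h1 hj
      (Nat.Coprime.pow_right j (Nat.coprime_two_right.mpr hkodd))
  have hbot := hO _ hKn (by rw [Subgroup.card_subtype]; exact hKodd)
  have hKbot : K = ⊥ :=
    (Subgroup.map_eq_bot_iff_of_injective K (Subgroup.subtype_injective _)).mp hbot
  have hcard := hcompl.card_mul_card
  rw [hKbot, Subgroup.card_bot, one_mul] at hcard
  obtain ⟨j, hj⟩ := IsPGroup.iff_card.mp Q.isPGroup'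
  exact IsPGroup.of_card (n := j) (by rw [← hcard]; exact hj)

/-- `O(M) = 1` for a normal subgroup `M` of a group with `O(G) = 1`. -/
theorem oddCore_trivial_of_normal (M : Subgroup G) [hMn : M.Normal]
    (hO : ∀ N : Subgroup G, N.Normal → Odd (Nat.card N) → N = ⊥) :
    ∀ N : Subgroup M, N.Normal → Odd (Nat.card N) → N = ⊥ := by
  intro N hN hodd
  have hle : N ≤ Cfsg.pPrimeCore 2 M :=
    Cfsg.Agent.Lib.le_pPrimeCore hN (Nat.coprime_two_right.mpr hodd)
  haveI : (Cfsg.pPrimeCore 2 M).Characteristic := Cfsg.Agent.Lib.pPrimeCore_characteristic 2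
  have hn : ((Cfsg.pPrimeCore 2 M).map M.subtype).Normal :=
    ConjAct.normal_of_characteristic_of_normal
  have hc : Odd (Nat.card ((Cfsg.pPrimeCore 2 M).map M.subtype)) := by
    rw [Subgroup.card_subtype]
    exact Nat.coprime_two_right.mp (Cfsg.Agent.Lib.card_pPrimeCore_coprime 2)
  have hbot := hO _ hn hc
  have hKbot : Cfsg.pPrimeCore 2 M = ⊥ :=
    (Subgroup.map_eq_bot_iff_of_injective _ (Subgroup.subtype_injective _)).mp hbot
  rw [hKbot] at hle
  exact le_bot_iff.mp hle

/-- if the involution `t` of `S ≅ Q8` is central and `O(G) = 1`, then `|Z(G)| = 2`. -/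
theorem card_center_of_central {S : Sylow 2 G} {t : G} (h : Q8Data (S : Subgroup G) t)
    (hO : ∀ N : Subgroup G, N.Normal → Odd (Nat.card N) → N = ⊥)
    (htc : t ∈ Subgroup.center G) : Nat.card (Subgroup.center G) = 2 := by
  have hcn : ∀ z : G, z ∈ Subgroup.center G → (Subgroup.zpowers z).Normal := by
    intro z hz
    have hzc : ∀ g, g * z = z * g := Subgroup.mem_center_iff.mp hz
    constructor
    intro x hx g
    obtain ⟨k, rfl⟩ := Subgroup.mem_zpowers_iff.mp hx
    have hc : Commute g z := hzc g
    have e : g * z ^ k * g⁻¹ = z ^ k := mul_inv_eq_iff_eq_mul.mpr (hc.zpow_right k).eq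
    rw [e]
    exact Subgroup.zpow_mem _ (Subgroup.mem_zpowers _) k
  have hle : Subgroup.center G ≤ Subgroup.zpowers t := by
    intro z hz
    have hzc : ∀ g, g * z = z * g := Subgroup.mem_center_iff.mp hz
    obtain ⟨j, r', hr'odd, hN⟩ := Nat.exists_eq_two_pow_mul_odd (orderOf_pos z).ne'
    have hw : z ^ (2 ^ j) = 1 := by
      have hwc : z ^ (2 ^ j) ∈ Subgroup.center G := Subgroup.pow_mem _ hz _
      have hWodd : Odd (Nat.card (Subgroup.zpowers (z ^ (2 ^ j)))) := by
        rw [Nat.card_zpowers, orderOf_pow_of_dvd (by positivity) (hN ▸ dvd_mul_right _ _), hN,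
          Nat.mul_div_cancel_left _ (by positivity)]
        exact hr'odd
      have h1 := hO _ (hcn _ hwc) hWodd
      rw [Subgroup.zpowers_eq_bot] at h1
      exact h1
    have hz2 : IsPGroup 2 (Subgroup.zpowers z) := by
      rintro ⟨y, hy⟩
      obtain ⟨k, rfl⟩ := Subgroup.mem_zpowers_iff.mp hy
      refine ⟨j, Subtype.ext ?_⟩
      simp only [Subgroup.coe_pow, Subgroup.coe_one]
      rw [← zpow_natCast, ← zpow_mul, mul_comm, zpow_mul, zpow_natCast, hw, one_zpow]
    have hzP : z ∈ (S : Subgroup G) :=
      le_sylow_of_normal_isPGroup S _ (hcn z hz) hz2 (Subgroup.mem_zpowers z)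
    rcases h.center z hzP (fun s _ => hzc s) with rfl | rfl
    · exact one_mem _
    · exact Subgroup.mem_zpowers _
  have heq : Subgroup.center G = Subgroup.zpowers t :=
    le_antisymm hle (Subgroup.zpowers_le.mpr htc)
  rw [heq, Nat.card_zpowers, h.orderOf_t]

/-- **Inductive step.**  Let `S ≅ Q8` be a Sylow `2`-subgroup of `G` with `O(G) = 1`, assume the
Brauer–Suzuki statement for all groups of smaller order, and let `M` be a proper normal subgroup
containing an involution.  Then `|Z(G)| = 2`. -/
theorem card_center_of_proper_normal (S : Sylow 2 G) (e : (S : Subgroup G) ≃* QuaternionGroup 2)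
    (hO : ∀ N : Subgroup G, N.Normal → Odd (Nat.card N) → N = ⊥)
    (IH : ∀ (H : Type u) [Group H] [Finite H], Nat.card H < Nat.card G →
      ∀ T : Sylow 2 H, ((T : Subgroup H) ≃* QuaternionGroup 2) →
      (∀ N : Subgroup H, N.Normal → Odd (Nat.card N) → N = ⊥) →
      Nat.card (Subgroup.center H) = 2)
    (M : Subgroup G) (hMn : M.Normal) (hMt : M ≠ ⊤) {u : G} (hu : orderOf u = 2) (huM : u ∈ M) :
    Nat.card (Subgroup.center G) = 2 := by
  obtain ⟨t, h⟩ := exists_q8Data (S : Subgroup G) e
  apply card_center_of_central h hO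
  -- t ∈ M
  have htM : t ∈ M := by
    obtain ⟨g, hg⟩ := h.involution_conj hu
    rw [← hg]
    have := hMn.conj_mem u huM g⁻¹
    simpa using this
  rw [Subgroup.mem_center_iff]
  -- it suffices: every conjugate of t equals t
  suffices hconj : ∀ g : G, g * t * g⁻¹ = t by
    intro g
    have := hconj g
    rw [mul_inv_eq_iff_eq_mul] at this
    exact this
  by_cases hSM : (S : Subgroup G) ≤ M
  · -- Case (i): S ≤ M, induction on M
    haveI := hMn
    have hlt : Nat.card M < Nat.card G := by
      rcases lt_or_eq_of_le (Subgroup.card_le_card_group M) with h1 | h1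
      · exact h1
      · exact absurd ((Subgroup.card_eq_iff_eq_top M).mp h1) hMt
    let T : Sylow 2 M := S.subtype hSM
    have eT : ((T : Subgroup M)) ≃* QuaternionGroup 2 :=
      ((MulEquiv.subgroupCongr (Sylow.coe_subtype S hSM)).trans
        (Subgroup.subgroupOfEquivOfLe hSM)).trans e
    have hc := IH M hlt T eT (oddCore_trivial_of_normal M hO)
    -- an involution z in Z(M)
    haveI : Fact (Nat.Prime 2) := ⟨Nat.prime_two⟩
    obtain ⟨z, hz⟩ := exists_prime_orderOf_dvd_card' (G := Subgroup.center M) 2 (by rw [hc])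
    have hzG : orderOf ((z : M) : G) = 2 := by
      rw [Subgroup.orderOf_coe, Subgroup.orderOf_coe, hz]
    -- the image of Z(M) in G is normal of order two
    have hCn : ((Subgroup.center M).map M.subtype).Normal :=
      ConjAct.normal_of_characteristic_of_normal
    have hCc : Nat.card ((Subgroup.center M).map M.subtype) = 2 := by
      rw [Subgroup.card_subtype, hc]
    have hzC : ((z : M) : G) ∈ (Subgroup.center M).map M.subtype := ⟨z, z.2, rfl⟩
    obtain ⟨g0, hg0⟩ := h.involution_conj hzG
    have htC : t ∈ (Subgroup.center M).map M.subtype := by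
      rw [← hg0]
      have := hCn.conj_mem _ hzC g0⁻¹
      simpa using this
    intro g
    have h1 : g * t * g⁻¹ ∈ (Subgroup.center M).map M.subtype := hCn.conj_mem _ htC g
    have h2 : g * t * g⁻¹ ≠ 1 := by
      intro h3
      apply h.ne_one
      have : t = g⁻¹ * (g * t * g⁻¹) * g := by group
      rw [this, h3]; group
    exact eq_of_card_two hCc h1 htC h2 h.ne_one
  · -- Case (ii): S ⊄ M, so M has cyclic Sylow 2-subgroups
    have hD : (S : Subgroup G) ⊓ M < (S : Subgroup G) := by
      refine lt_of_le_of_ne inf_le_left ?_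
      intro heq
      exact hSM (heq ▸ inf_le_right)
    have hDcyc : IsCyclic ((S : Subgroup G) ⊓ M : Subgroup G) := h.isCyclic_of_lt _ hD
    obtain ⟨Q⟩ : Nonempty (Sylow 2 M) := inferInstance
    have hQ' : IsPGroup 2 ((Q : Subgroup M).map M.subtype) := Q.isPGroup'.map _
    obtain ⟨g, hg⟩ := exists_conj_mem S _ hQ'
    have key : ∀ q : Q, g⁻¹ * ((q : M) : G) * g ∈ (S : Subgroup G) ⊓ M := by
      intro q
      refine ⟨hg _ ⟨q.1, q.2, rfl⟩, ?_⟩
      have := hMn.conj_mem _ q.1.2 g⁻¹
      simpa using this
    let f : Q →* ((S : Subgroup G) ⊓ M : Subgroup G) :=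
      MonoidHom.mk' (fun q => ⟨g⁻¹ * ((q : M) : G) * g, key q⟩) (by
        intro q₁ q₂
        apply Subtype.ext
        simp only [Subgroup.coe_mul]
        group)
    have hf : Function.Injective f := by
      intro q₁ q₂ hq
      have h1 := congrArg Subtype.val hq
      simp only [f, MonoidHom.mk'_apply] at h1
      have h2 := mul_left_cancel (mul_right_cancel h1)
      exact Subtype.ext (Subtype.ext h2)
    have hQcyc : IsCyclic Q := isCyclic_of_injective f hf
    have heven : 2 ∣ Nat.card M := by
      have h1 : orderOf (⟨t, htM⟩ : M) ∣ Nat.card M := orderOf_dvd_natCard _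
      rwa [Subgroup.orderOf_mk, h.orderOf_t] at h1
    have hM2 : IsPGroup 2 M := isPGroup_of_normal_cyclic_sylow M hMn Q hQcyc heven hO
    have hMS : M ≤ (S : Subgroup G) := le_sylow_of_normal_isPGroup S M hMn hM2
    intro g
    apply h.eq_of_involution (hMS (hMn.conj_mem _ htM g))
    rw [orderOf_conj', h.orderOf_t]

end Main

end Cfsg.Agent.Helper95.QuatInduct
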