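import Mathlib
import Cfsg.Agent.Helper95.QuatInduct
import Cfsg.Agent.Helper20.Transfer2

/-!
# Brauer–Suzuki for `Q8`: the fused / non-fused dichotomy (helper95)

`fused_or_index_two`: if `S ≅ Q8` is a Sylow `2`-subgroup of `G`, then either all elements of order
`4` of `S` are conjugate in `G`, or `G` has a normal subgroup of index `2` (Thompson transfer,
`Cfsg.Agent.Helper20.transfer_index_two`).
-/

set_option autoImplicit false

namespace Cfsg.Agent.Helper95.QuatInduct

open QuaternionGroup

universe u

theorem q8_inv_conj (q : QuaternionGroup 2) : ∃ r : QuaternionGroup 2, r⁻¹ * q * r = q⁻¹ := by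
  revert q; decide

variable {G : Type u} [Group G]

/-- every element of `S ≅ Q8` is conjugate in `S` to its inverse. -/
theorem exists_inv_conj (S : Subgroup G) (e : S ≃* QuaternionGroup 2) {s : G} (hs : s ∈ S) :
    ∃ r ∈ S, r⁻¹ * s * r = s⁻¹ := by
  obtain ⟨r, hr⟩ := q8_inv_conj (e ⟨s, hs⟩)
  refine ⟨(e.symm r : S), (e.symm r).2, ?_⟩
  have : (e.symm r)⁻¹ * ⟨s, hs⟩ * e.symm r = (⟨s, hs⟩ : S)⁻¹ := by
    apply e.injective
    rw [map_mul, map_mul, map_inv, map_inv, MulEquiv.apply_symm_apply]
    exact hr
  exact congrArg Subtype.val this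

variable [Finite G]

/-- **Dichotomy.** Either all elements of order `4` of `S ≅ Q8` are conjugate in `G`, or `G` has a
normal subgroup of index `2`. -/
theorem fused_or_index_two (S : Sylow 2 G) (e : (S : Subgroup G) ≃* QuaternionGroup 2) :
    (∀ y ∈ (S : Subgroup G), ∀ z ∈ (S : Subgroup G), orderOf y = 4 → orderOf z = 4 →
      ∃ g : G, g⁻¹ * y * g = z) ∨ ∃ H : Subgroup G, H.Normal ∧ H.index = 2 := by
  obtain ⟨t, h⟩ := exists_q8Data (S : Subgroup G) e
  by_contra hcon
  push Not at hcon
  obtain ⟨⟨y, hy, z, hz, hoy, hoz, hyz⟩, hno⟩ := hcon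
  -- squares of elements of order four
  have hsq : ∀ w ∈ (S : Subgroup G), orderOf w = 4 → w ^ 2 = t := by
    intro w hw how
    have h1 : (w ^ 2) * (w ^ 2) = 1 := by
      rw [← pow_add]; exact h.pow_four w hw
    rcases h.unique (w ^ 2) (Subgroup.pow_mem _ hw 2) h1 with h2 | h2
    · exfalso
      have := orderOf_dvd_of_pow_eq_one h2
      rw [how] at this
      omega
    · exact h2
  have hA : (Subgroup.zpowers z).relIndex (S : Subgroup G) = 2 := by
    have hle : Subgroup.zpowers z ≤ (S : Subgroup G) := Subgroup.zpowers_le.mpr hz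
    have h1 := ((Subgroup.zpowers z).subgroupOf (S : Subgroup G)).card_mul_index
    rw [Nat.card_congr (Subgroup.subgroupOfEquivOfLe hle).toEquiv, Nat.card_zpowers, hoz,
      h.card] at h1
    show ((Subgroup.zpowers z).subgroupOf (S : Subgroup G)).index = 2
    omega
  obtain ⟨H, hHn, hHi, -⟩ := Cfsg.Agent.Helper20.transfer_index_two S (Subgroup.zpowers z) hA y hy
    (by
      intro g₀ m hm hmem
      rw [hoy] at hm
      have hm4 : m = 1 ∨ m = 2 ∨ m = 4 := by
        have hle : m ≤ 4 := Nat.le_of_dvd (by norm_num) hm
        have hpos : 0 < m := Nat.pos_of_dvd_of_pos hm (by norm_num)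
        interval_cases m
        · left; rfl
        · right; left; rfl
        · omega
        · right; right; rfl
      rcases hm4 with rfl | rfl | rfl
      · -- m = 1
        simp only [pow_one, Nat.not_even_one, iff_false]
        intro hin
        -- the conjugate has order four, so it is z or z⁻¹
        have ho : orderOf (g₀⁻¹ * y * g₀) = 4 := by
          rw [Cfsg.Agent.Helper3.Quat.orderOf_conj_inv, hoy]
        obtain ⟨k, hk⟩ := Subgroup.mem_zpowers_iff.mp hin
        -- reduce k mod 4
        have hz4 : z ^ (4 : ℤ) = 1 := by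
          have := h.pow_four z hz
          exact_mod_cast this
        have hk' : g₀⁻¹ * y * g₀ = z ^ (k % 4) := by
          rw [← hk]
          conv_lhs => rw [← Int.emod_add_mul_ediv k 4]
          rw [zpow_add, zpow_mul, hz4, one_zpow, mul_one]
        have hr0 : 0 ≤ k % 4 := Int.emod_nonneg _ (by norm_num)
        have hr4 : k % 4 < 4 := Int.emod_lt_of_pos _ (by norm_num)
        have hcases : k % 4 = 0 ∨ k % 4 = 1 ∨ k % 4 = 2 ∨ k % 4 = 3 := by omega
        rcases hcases with h0 | h1 | h2 | h3
        · rw [h0, zpow_zero] at hk'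
          rw [hk', orderOf_one] at ho
          omega
        · rw [h1, zpow_one] at hk'
          exact hyz g₀ hk'
        · rw [h2] at hk'
          have hz2 : z ^ (2 : ℤ) = t := by
            have := hsq z hz hoz
            exact_mod_cast this
          rw [hz2] at hk'
          rw [hk', h.orderOf_t] at ho
          omega
        · rw [h3] at hk'
          have hz3 : z ^ (3 : ℤ) = z⁻¹ := by
            have h4 : z ^ (3 : ℤ) * z = 1 := by
              rw [← zpow_add_one]; exact hz4
            exact eq_inv_of_mul_eq_one_left h4
          rw [hz3] at hk'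
          -- z⁻¹ is conjugate to z in S
          obtain ⟨s, -, hs⟩ := exists_inv_conj (S : Subgroup G) e hz
          apply hyz (g₀ * s⁻¹)
          have : (g₀ * s⁻¹)⁻¹ * y * (g₀ * s⁻¹) = s * (g₀⁻¹ * y * g₀) * s⁻¹ := by group
          rw [this, hk']
          have h5 : s⁻¹ * z * s = z⁻¹ := hs
          have : z = s * z⁻¹ * s⁻¹ := by rw [← h5]; group
          exact this.symm
      · -- m = 2
        rw [hsq y hy hoy] at hmem ⊢
        have ho : orderOf (g₀⁻¹ * t * g₀) = 2 := by
          rw [Cfsg.Agent.Helper3.Quat.orderOf_conj_inv, h.orderOf_t]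
        have := h.eq_of_involution hmem ho
        rw [this]
        constructor
        · intro _; exact even_two
        · intro _
          rw [← hsq z hz hoz]
          exact Subgroup.pow_mem _ (Subgroup.mem_zpowers z) 2
      · -- m = 4
        rw [h.pow_four y hy]
        constructor
        · intro _; exact ⟨2, rfl⟩
        · intro _
          have : g₀⁻¹ * 1 * g₀ = 1 := by group
          rw [this]; exact one_mem _)
  exact hno H hHn hHi

omit [Finite G] in
/-- In the non-fused case there is a proper normal subgroup containing an involution. -/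
theorem exists_proper_normal_of_index_two {S : Sylow 2 G} {t : G} (h : Q8Data (S : Subgroup G) t)
    (H : Subgroup G) (hHi : H.index = 2) :
    H ≠ ⊤ ∧ t ∈ H := by
  constructor
  · intro htop
    rw [htop, Subgroup.index_top] at hHi
    omega
  · -- t is a square
    obtain ⟨t', c, hc⟩ : ∃ t' : G, ∃ c : G, c * c = t' ∧ t' = t := by
      -- take an element of order 4?  use: S has 8 elements, not all of square one
      by_contra hcon
      push Not at hcon
      -- every element of S squares to 1, so is 1 or t: card ≤ 2
      have hsub : ∀ s : (S : Subgroup G), (s : G) = 1 ∨ (s : G) = t := by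
        intro s
        apply h.unique _ s.2
        by_contra hne
        have h1 : ((s : G) * s) * ((s : G) * s) = 1 := by
          have := h.pow_four s s.2
          rw [← this]
          simp only [pow_succ, pow_zero, one_mul, mul_assoc]
        rcases h.unique _ (Subgroup.mul_mem _ s.2 s.2) h1 with h2 | h2
        · exact hne h2
        · exact hcon _ (s : G) rfl h2
      have hle2 : Nat.card (S : Subgroup G) ≤ 2 := by
        classical
        have hinj : Function.Injective
            (fun d : (S : Subgroup G) => if (d : G) = 1 then (0 : Fin 2) else 1) := by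
          intro d1 d2 hd
          apply Subtype.ext
          rcases hsub d1 with e1 | e1 <;> rcases hsub d2 with e2 | e2
          · rw [e1, e2]
          · exfalso
            simp only [e1, e2, if_true, h.ne_one, if_false] at hd
            exact absurd hd (by decide)
          · exfalso
            simp only [e1, e2, if_true, h.ne_one, if_false] at hd
            exact absurd hd (by decide)
          · rw [e1, e2]
        have := Nat.card_le_card_of_injective _ hinj
        simpa using this
      rw [h.card] at hle2
      omega
    obtain ⟨hcc, rfl⟩ := hc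
    rw [← hcc]
    exact Subgroup.mul_self_mem_of_index_two hHi c

/-- The statement of the fused case: if all elements of order `4` of `S ≅ Q8` are conjugate in
`G` (and `O(G) = 1`), some proper normal subgroup contains an involution.  (This is what the
character theory provides: `M = ker χ₁`.) -/
def FusedCase : Prop :=
  ∀ (G : Type u) [Group G] [Finite G] (S : Sylow 2 G) (_e : (S : Subgroup G) ≃* QuaternionGroup 2),
    (∀ N : Subgroup G, N.Normal → Odd (Nat.card N) → N = ⊥) →
    (∀ y ∈ (S : Subgroup G), ∀ z ∈ (S : Subgroup G), orderOf y = 4 → orderOf z = 4 →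
      ∃ g : G, g⁻¹ * y * g = z) →
    ∃ M : Subgroup G, M.Normal ∧ M ≠ ⊤ ∧ ∃ u ∈ M, orderOf u = 2

/-- **Brauer–Suzuki for `Q8`, modulo the fused case.** -/
theorem brauer_suzuki_q8_of_fused (hF : FusedCase.{u}) :
    ∀ (n : ℕ) (G : Type u) [Group G] [Finite G], Nat.card G = n →
      ∀ S : Sylow 2 G, ((S : Subgroup G) ≃* QuaternionGroup 2) →
      (∀ N : Subgroup G, N.Normal → Odd (Nat.card N) → N = ⊥) →
      Nat.card (Subgroup.center G) = 2 := by
  intro n
  induction n using Nat.strong_induction_on with
  | _ n ih =>
    intro G _ _ hn S e hO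
    have IH : ∀ (H : Type u) [Group H] [Finite H], Nat.card H < Nat.card G →
        ∀ T : Sylow 2 H, ((T : Subgroup H) ≃* QuaternionGroup 2) →
        (∀ N : Subgroup H, N.Normal → Odd (Nat.card N) → N = ⊥) →
        Nat.card (Subgroup.center H) = 2 := by
      intro H _ _ hlt T eT hOH
      exact ih (Nat.card H) (hn ▸ hlt) H rfl T eT hOH
    rcases fused_or_index_two S e with hfus | ⟨H, hHn, hHi⟩
    · obtain ⟨M, hMn, hMt, u, huM, hu⟩ := hF G S e hO hfus
      exact card_center_of_proper_normal S e hO IH M hMn hMt hu huM
    · obtain ⟨t, h⟩ := exists_q8Data (S : Subgroup G) e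
      obtain ⟨hHt, htH⟩ := exists_proper_normal_of_index_two h H hHi
      exact card_center_of_proper_normal S e hO IH H hHn hHt h.orderOf_t htH

end Cfsg.Agent.Helper95.QuatInduct
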