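import Mathlib

set_option autoImplicit false

namespace Cfsg.Agent.Helper95

open MulAction

/-- Orbits of a Sylow `p`-subgroup of a transitive group: if `p ^ a` divides the degree, it divides
the size of every orbit of the Sylow subgroup. -/
lemma pow_dvd_ncard_orbit_sylow {G Ω : Type*} [Group G] [Finite G] [MulAction G Ω]
    [IsPretransitive G Ω] {p : ℕ} [Fact p.Prime] (P : Sylow p G) (a : ℕ)
    (h : p ^ a ∣ Nat.card Ω) (ω : Ω) : p ^ a ∣ (orbit (P : Subgroup G) ω).ncard := by
  rw [← index_stabilizer]
  have key : (stabilizer G ω).subgroupOf (P : Subgroup G) = stabilizer (P : Subgroup G) ω := by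
    ext; rfl
  rw [← key]
  change p ^ a ∣ (stabilizer G ω).relIndex (P : Subgroup G)
  have h1 : ((stabilizer G ω) ⊓ P).relIndex P * (P : Subgroup G).index =
      ((stabilizer G ω) ⊓ P).index := Subgroup.relIndex_mul_index inf_le_right
  have h2 : ((stabilizer G ω) ⊓ P).relIndex (stabilizer G ω) * (stabilizer G ω).index =
      ((stabilizer G ω) ⊓ P).index := Subgroup.relIndex_mul_index inf_le_left
  rw [index_stabilizer_of_transitive] at h2
  have h3 : p ^ a ∣ ((stabilizer G ω) ⊓ P).relIndex P * (P : Subgroup G).index := by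
    rw [h1, ← h2]; exact Dvd.dvd.mul_left h _
  have hcop : Nat.Coprime (p ^ a) (P : Subgroup G).index := by
    apply Nat.Coprime.pow_left
    exact (Nat.Prime.coprime_iff_not_dvd Fact.out).mpr P.not_dvd_index
  rw [← Subgroup.inf_relIndex_right]
  exact hcop.dvd_of_dvd_mul_right h3

/-- A transitive finite group of prime-power degree `p ^ k`, `k ≥ 1`, acting faithfully, contains a
fixed-point-free element of order `p`. -/
theorem exists_derangement_of_card_eq_prime_pow {G Ω : Type*} [Group G] [Finite G] [MulAction G Ω]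
    [FaithfulSMul G Ω] [Finite Ω] [IsPretransitive G Ω] (p k : ℕ) (hp : p.Prime) (hk : 1 ≤ k)
    (hΩ : Nat.card Ω = p ^ k) : ∃ g : G, orderOf g = p ∧ ∀ ω : Ω, g • ω ≠ ω := by
  have : Fact p.Prime := ⟨hp⟩
  obtain ⟨P⟩ : Nonempty (Sylow p G) := inferInstance
  have htrans : ∀ ω : Ω, orbit (P : Subgroup G) ω = Set.univ := by
    intro ω
    have hdvd := pow_dvd_ncard_orbit_sylow P k (by rw [hΩ]) ω
    apply Set.eq_of_subset_of_ncard_le (Set.subset_univ _) ?_ Set.finite_univ
    rw [Set.ncard_univ, hΩ]
    refine Nat.le_of_dvd ?_ hdvd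
    exact (Set.ncard_pos (Set.toFinite _)).mpr (nonempty_orbit ω)
  have hΩne : Nonempty Ω := by
    by_contra hne
    rw [not_nonempty_iff] at hne
    rw [Nat.card_of_isEmpty] at hΩ
    exact (pow_pos hp.pos k).ne hΩ
  obtain ⟨ω₀⟩ := hΩne
  -- P is nontrivial
  have hPnt : Nontrivial (P : Subgroup G) := by
    by_contra hnt
    rw [not_nontrivial_iff_subsingleton] at hnt
    have h1 : orbit (P : Subgroup G) ω₀ = {ω₀} := by
      ext x
      constructor
      · rintro ⟨g, rfl⟩
        rw [Subsingleton.elim g 1]; simp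
      · rintro rfl; exact mem_orbit_self _
    have h2 := htrans ω₀
    rw [h1] at h2
    have h3 : Nat.card Ω = 1 := by
      rw [← Set.ncard_univ, ← h2, Set.ncard_singleton]
    rw [hΩ] at h3
    have := Nat.one_lt_pow (by omega : k ≠ 0) hp.one_lt
    omega
  have hPp : IsPGroup p (P : Subgroup G) := P.isPGroup'
  have hZnt : Nontrivial (Subgroup.center (P : Subgroup G)) := hPp.center_nontrivial
  have hZp : IsPGroup p (Subgroup.center (P : Subgroup G)) := hPp.to_subgroup _
  have hZcard : p ∣ Nat.card (Subgroup.center (P : Subgroup G)) := by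
    rcases hZp.card_eq_or_dvd with h | h
    · exfalso
      have := (Nat.card_eq_one_iff_unique.mp h).1
      exact not_nontrivial _ hZnt
    · exact h
  obtain ⟨z, hz⟩ := exists_prime_orderOf_dvd_card' p hZcard
  refine ⟨((z : (P : Subgroup G)) : G), ?_, ?_⟩
  · rw [Subgroup.orderOf_coe, Subgroup.orderOf_coe, hz]
  · intro ω hω
    -- z fixes ω, hence everything
    have hall : ∀ ω' : Ω, ((z : (P : Subgroup G)) : G) • ω' = ω' := by
      intro ω'
      have : ω' ∈ orbit (P : Subgroup G) ω := by rw [htrans ω]; trivial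
      obtain ⟨x, rfl⟩ := this
      have hcomm : (z : (P : Subgroup G)) * x = x * (z : (P : Subgroup G)) :=
        (Subgroup.mem_center_iff.mp z.2 x).symm
      show ((z : (P : Subgroup G)) : G) • ((x : G) • ω) = (x : G) • ω
      rw [smul_smul, ← Subgroup.coe_mul, hcomm, Subgroup.coe_mul, mul_smul, hω]
    have h1 : ((z : (P : Subgroup G)) : G) = 1 := by
      apply FaithfulSMul.eq_of_smul_eq_smul (α := Ω)
      intro a; rw [hall a, one_smul]
    have h2 : orderOf z = 1 := by
      rw [← Subgroup.orderOf_coe, ← Subgroup.orderOf_coe, h1, orderOf_one]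
    rw [hz] at h2
    exact hp.one_lt.ne' h2

/-- double counting fixed points against stabilizers -/
lemma sum_card_fixedBy_eq_sum_card_stabilizer {H Ω : Type*} [Group H] [Fintype H] [MulAction H Ω]
    [Fintype Ω] [DecidableEq Ω] :
    ∑ g : H, (Finset.univ.filter (fun ω : Ω => g • ω = ω)).card =
      ∑ ω : Ω, (Finset.univ.filter (fun g : H => g • ω = ω)).card := by
  simp_rw [Finset.card_filter]
  exact Finset.sum_comm

/-- A transitive finite group of degree `m * p`, `1 ≤ m ≤ p`, acting faithfully, contains a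
fixed-point-free element of order `p`. -/
theorem exists_derangement_of_card_eq_mul_prime {G Ω : Type*} [Group G] [Finite G] [MulAction G Ω]
    [FaithfulSMul G Ω] [Finite Ω] [IsPretransitive G Ω] (p m : ℕ) (hp : p.Prime) (hm : 1 ≤ m)
    (hmp : m ≤ p) (hΩ : Nat.card Ω = m * p) : ∃ g : G, orderOf g = p ∧ ∀ ω : Ω, g • ω ≠ ω := by
  rcases hmp.eq_or_lt with rfl | hlt
  · exact exists_derangement_of_card_eq_prime_pow m 2 hp (by norm_num) (by rw [hΩ]; ring)
  have : Fact p.Prime := ⟨hp⟩
  obtain ⟨P⟩ : Nonempty (Sylow p G) := inferInstance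
  have hPp : IsPGroup p (P : Subgroup G) := P.isPGroup'
  obtain ⟨n, hn⟩ := hPp.exists_card_eq
  -- every stabilizer in P has index p
  have hidx : ∀ ω : Ω, (stabilizer (P : Subgroup G) ω).index = p := by
    intro ω
    rw [index_stabilizer]
    have hdvd : p ^ 1 ∣ (orbit (P : Subgroup G) ω).ncard :=
      pow_dvd_ncard_orbit_sylow P 1 (by rw [hΩ, pow_one]; exact dvd_mul_left p m) ω
    rw [pow_one] at hdvd
    have hdvd2 : (orbit (P : Subgroup G) ω).ncard ∣ p ^ n := by
      rw [← hn, ← index_stabilizer]; exact Subgroup.index_dvd_card _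
    obtain ⟨j, hj, hj2⟩ := (Nat.dvd_prime_pow hp).mp hdvd2
    have hle : (orbit (P : Subgroup G) ω).ncard ≤ m * p := by
      rw [← hΩ, ← Set.ncard_univ]
      exact Set.ncard_le_ncard (Set.subset_univ _) Set.finite_univ
    rw [hj2] at hdvd hle ⊢
    have hj1 : 1 ≤ j := by
      rcases Nat.eq_zero_or_pos j with rfl | h
      · simp at hdvd; exact absurd hdvd hp.one_lt.ne'
      · exact h
    have hj2' : j < 2 := by
      by_contra hcon
      push Not at hcon
      have : p ^ 2 ≤ p ^ j := Nat.pow_le_pow_right hp.pos hcon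
      have : m * p < p * p := Nat.mul_lt_mul_of_pos_right hlt hp.pos
      nlinarith
    have : j = 1 := by omega
    rw [this, pow_one]
  have hn1 : n ≠ 0 := by
    rintro rfl
    have hΩne : Nonempty Ω := by
      by_contra hne
      rw [not_nonempty_iff] at hne
      rw [Nat.card_of_isEmpty] at hΩ
      have := Nat.mul_pos hm hp.pos
      omega
    obtain ⟨ω⟩ := hΩne
    have := Subgroup.index_dvd_card (stabilizer (P : Subgroup G) ω)
    rw [hidx, hn, pow_zero] at this
    exact hp.one_lt.ne' (Nat.dvd_one.mp this)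
  have hnormal : ∀ ω : Ω, (stabilizer (P : Subgroup G) ω).Normal := by
    intro ω
    apply Subgroup.normal_of_index_eq_minFac_card
    rw [hidx, hn, Nat.pow_minFac hn1, hp.minFac_eq]
  -- an element of P with a fixed point fixes the whole orbit
  have hfix : ∀ (g x : (P : Subgroup G)) (ω : Ω), g • ω = ω → g • (x • ω) = x • ω := by
    intro g x ω hg
    have := hnormal ω
    have h1 : x⁻¹ * g * x⁻¹⁻¹ ∈ stabilizer (P : Subgroup G) ω :=
      (hnormal ω).conj_mem g hg x⁻¹
    rw [inv_inv, mem_stabilizer_iff] at h1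
    calc g • (x • ω) = x • ((x⁻¹ * g * x) • ω) := by simp [mul_smul]
      _ = x • ω := by rw [h1]
  classical
  have : Fintype Ω := Fintype.ofFinite Ω
  have : Fintype (P : Subgroup G) := Fintype.ofFinite _
  -- existence of a derangement in P
  have hex : ∃ g : (P : Subgroup G), ∀ ω : Ω, g • ω ≠ ω := by
    by_contra hcon
    push Not at hcon
    have hcount := sum_card_fixedBy_eq_sum_card_stabilizer (H := (P : Subgroup G)) (Ω := Ω)
    have hR : ∀ ω : Ω, (Finset.univ.filter (fun g : (P : Subgroup G) => g • ω = ω)).card * p = p ^ n := by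
      intro ω
      have h1 := Subgroup.card_mul_index (stabilizer (P : Subgroup G) ω)
      rw [hidx, hn] at h1
      rw [← h1]
      congr 1
      rw [Nat.card_eq_fintype_card, Fintype.card_subtype]
      rfl
    have hL : ∀ g : (P : Subgroup G), p ≤ (Finset.univ.filter (fun ω : Ω => g • ω = ω)).card := by
      intro g
      obtain ⟨ω, hω⟩ := hcon g
      have hsub : (orbit (P : Subgroup G) ω).toFinset ⊆ Finset.univ.filter (fun ω : Ω => g • ω = ω) := by
        intro y hy
        rw [Set.mem_toFinset] at hy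
        obtain ⟨x, rfl⟩ := hy
        simp only [Finset.mem_filter, Finset.mem_univ, true_and]
        exact hfix g x ω hω
      have hc : (orbit (P : Subgroup G) ω).toFinset.card = p := by
        rw [← Set.ncard_eq_toFinset_card', ← index_stabilizer, hidx]
      exact hc.symm.le.trans (Finset.card_le_card hsub)
    have h1 : Fintype.card (P : Subgroup G) * p ≤ ∑ g : (P : Subgroup G), (Finset.univ.filter (fun ω : Ω => g • ω = ω)).card := by
      rw [← smul_eq_mul, ← Finset.card_univ, ← Finset.sum_const]
      exact Finset.sum_le_sum (fun g _ => hL g)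
    rw [hcount] at h1
    have h2 : (∑ ω : Ω, (Finset.univ.filter (fun g : (P : Subgroup G) => g • ω = ω)).card) * p = (m * p) * p ^ n := by
      rw [Finset.sum_mul]
      simp_rw [hR]
      rw [Finset.sum_const, Finset.card_univ, smul_eq_mul, ← Nat.card_eq_fintype_card, hΩ]
    rw [← Nat.card_eq_fintype_card, hn] at h1
    have h3 : p ^ n * p * p ≤ (m * p) * p ^ n := by
      rw [← h2]; exact Nat.mul_le_mul_right p h1
    have h4 : 0 < p ^ n := pow_pos hp.pos n
    have h5 : p ^ n * p * p = (p * p) * p ^ n := by ring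
    rw [h5] at h3
    have h6 := Nat.le_of_mul_le_mul_right h3 h4
    have h7 := Nat.le_of_mul_le_mul_right h6 hp.pos
    omega
  obtain ⟨g, hg⟩ := hex
  refine ⟨(g : G), ?_, fun ω => hg ω⟩
  have hΩne : Nonempty Ω := by
    by_contra hne
    rw [not_nonempty_iff] at hne
    rw [Nat.card_of_isEmpty] at hΩ
    have := Nat.mul_pos hm hp.pos
    omega
  obtain ⟨ω₀⟩ := hΩne
  apply orderOf_eq_prime
  · apply FaithfulSMul.eq_of_smul_eq_smul (α := Ω)
    intro ω
    rw [one_smul]
    have := hnormal ω
    have h1 := Subgroup.pow_index_mem (stabilizer (P : Subgroup G) ω) g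
    rw [hidx, mem_stabilizer_iff] at h1
    exact h1
  · intro h1
    apply hg ω₀
    show (g : G) • ω₀ = ω₀
    rw [h1, one_smul]

end Cfsg.Agent.Helper95
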