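import Mathlib
import Cfsg.Prelude.Def_LieExceptional
import Cfsg.Agent.Helper61.S3tZass
import Cfsg.Agent.Helper61.ZsField
import Cfsg.Agent.Helper61.Zassenhaus

/-!
# Two-point stabilisers of even order in simple Zassenhaus groups (helper95)

On top of helper61's `Zs`/`S3t` libraries: in a simple Zassenhaus group whose two-point stabiliser
`E` has even order `d` one has `2 d ≤ n - 1` (the sharply triply transitive case is not simple),
`E` embeds into the units of a finite field (hence is cyclic), and every element interchanging the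
two points is an involution inverting `E`.
-/

set_option autoImplicit false
set_option linter.unusedSectionVars false
set_option linter.style.haveILetI false

namespace Cfsg.Agent.Helper95.ZassCyclic

open Cfsg MulAction Cfsg.Agent.Helper61.Zs

universe u v

variable {G : Type u} {Ω : Type v} [Group G] [MulAction G Ω]

/-- The two-point stabiliser embeds into the units of a field: it is cyclic. -/
theorem isCyclic_stabH [Finite G] [Fintype Ω] {inf zero : Ω} {K : Subgroup G}
    (D : ZData inf zero K) (heven : Even (Nat.card (stabH G inf zero)))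
    (hd : 2 * Nat.card (stabH G inf zero) ≤ Fintype.card Ω - 2) :
    IsCyclic ↥(stabH G inf zero) := by
  obtain ⟨R, hRf, hRfin, ψ, c, hψ, hadd, hc0, hact⟩ := D.exists_field heven hd
  have hone : c 1 = 1 := by
    have h1 := hact 1 1
    have h2 : D.conjAct 1 (ψ 1) = ψ 1 := by
      apply Subtype.ext
      rw [ZData.conjAct_coe]
      show (1 : G) * (ψ 1 : G) * (1 : G)⁻¹ = (ψ 1 : G)
      group
    rw [h2, mul_one] at h1
    exact hψ.1 h1
  have hmul : ∀ h h' : ↥(stabH G inf zero), c (h * h') = c h * c h' := by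
    intro h h'
    have h1 := hact (h * h') 1
    have h2 : D.conjAct (h * h') (ψ 1) = D.conjAct h (D.conjAct h' (ψ 1)) := by
      apply Subtype.ext
      rw [ZData.conjAct_coe, ZData.conjAct_coe, ZData.conjAct_coe]
      show (h.1 * h'.1) * (ψ 1 : G) * (h.1 * h'.1)⁻¹ = h.1 * (h'.1 * (ψ 1 : G) * h'.1⁻¹) * h.1⁻¹
      group
    rw [h2, ← hact h' 1, ← hact h (c h' * 1), mul_one, mul_one] at h1
    exact hψ.1 h1
  let f : ↥(stabH G inf zero) →* R :=
    { toFun := c
      map_one' := hone
      map_mul' := hmul }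
  have hf : Function.Injective f := by
    rw [injective_iff_map_eq_one]
    intro h hh
    have hch : c h = 1 := hh
    obtain ⟨k, hk, hk1⟩ := D.exists_K_ne_one
    obtain ⟨r, hr⟩ := hψ.2 ⟨k, hk⟩
    have h1 := hact h r
    rw [hch, one_mul, hr] at h1
    have h2 : h.1 * k * h.1⁻¹ = k := by
      have := congrArg Subtype.val h1
      rw [ZData.conjAct_coe] at this
      exact this.symm
    exact Subtype.ext (D.eq_one_of_conj_eq h.2 hk hk1 h2)
  exact isCyclic_of_subgroup_isDomain f hf

/-- In a simple Zassenhaus group with two-point stabilisers of even order `d`, `2 d ≤ n - 1`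
(the argument of helper61's `S0344`). -/
theorem two_mul_le_of_simple [Finite G] [Fintype Ω] (hZ : Cfsg.IsZassenhausGroup G Ω)
    [IsSimpleGroup G] {a b : Ω} (hab : a ≠ b)
    (heven : Even (Nat.card ↥(stabilizer G a ⊓ stabilizer G b))) :
    2 * Nat.card ↥(stabilizer G a ⊓ stabilizer G b) ≤ Fintype.card Ω - 2 := by
  classical
  obtain ⟨hfaith, h2, h3f, -, -⟩ := hZ
  have heven' : Even (Nat.card (stabH G a b)) := heven
  have hpos : 0 < Nat.card ↥(stabilizer G a ⊓ stabilizer G b) := Nat.card_pos
  have h2le : 2 ≤ Nat.card ↥(stabilizer G a ⊓ stabilizer G b) := by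
    obtain ⟨m, hm⟩ := heven
    omega
  by_contra hcase
  obtain ⟨y1, hy11⟩ : ∃ y : ↥(stabilizer G a ⊓ stabilizer G b), y ≠ 1 := by
    haveI : Nontrivial ↥(stabilizer G a ⊓ stabilizer G b) :=
      Finite.one_lt_card_iff_nontrivial.mp (by omega)
    exact exists_ne 1
  have hy1a : y1.1 • a = a := mem_stabilizer_iff.mp (Subgroup.mem_inf.mp y1.2).1
  have hy1b : y1.1 • b = b := mem_stabilizer_iff.mp (Subgroup.mem_inf.mp y1.2).2
  obtain ⟨w0, hw0⟩ : ∃ w : Ω, y1.1 • w ≠ w := by
    by_contra hcon
    push Not at hcon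
    apply hy11
    apply Subtype.ext
    exact hfaith.eq_of_smul_eq_smul (fun w => by rw [hcon w]; exact (one_smul G w).symm)
  have hw0a : w0 ≠ a := by
    rintro rfl; exact hw0 hy1a
  have hw0b : w0 ≠ b := by
    rintro rfl; exact hw0 hy1b
  have h3c : 3 ≤ Nat.card Ω := by
    rw [Nat.card_eq_fintype_card]
    have h3 : ({a, b, w0} : Finset Ω).card = 3 := by
      rw [Finset.card_insert_of_notMem, Finset.card_insert_of_notMem, Finset.card_singleton]
      · simp [hw0b.symm]
      · simp [hab, hw0a.symm]
    rw [← h3]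
    exact Finset.card_le_univ _
  have hsemi : ∀ w : Ω, w ≠ a → w ≠ b → ∀ h h' : ↥(stabH G a b),
      h.1 • w = h'.1 • w → h = h' := by
    intro w hwa hwb h h' hhh
    have hh := mem_stabH.mp h.2
    have hh' := mem_stabH.mp h'.2
    have h1 : h'.1⁻¹ * h.1 = 1 := by
      apply h3f (h'.1⁻¹ * h.1) a b w hab hwb.symm hwa.symm
      · rw [mul_smul, hh.1, inv_smul_eq_iff, hh'.1]
      · rw [mul_smul, hh.2, inv_smul_eq_iff, hh'.2]
      · rw [mul_smul, hhh, inv_smul_smul]
    apply Subtype.ext
    exact (inv_mul_eq_one.mp h1).symm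
  have htr : ∀ w w' : Ω, w ≠ a → w ≠ b → w' ≠ a → w' ≠ b →
      ∃ h ∈ stabH G a b, h • w = w' := by
    intro w w' hwa hwb hwa' hwb'
    by_contra hno
    push Not at hno
    apply hcase
    let f1 : ↥(stabH G a b) → Ω := fun h => h.1 • w
    let f2 : ↥(stabH G a b) → Ω := fun h => h.1 • w'
    let f3 : Bool → Ω := fun x => if x then a else b
    have hf1 : Function.Injective f1 := fun h h' hhh => hsemi w hwa hwb h h' hhh
    have hf2 : Function.Injective f2 := fun h h' hhh => hsemi w' hwa' hwb' h h' hhh
    have hf3 : Function.Injective f3 := by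
      intro x y hxy
      cases x <;> cases y <;> simp [f3] at hxy ⊢
      · exact hab hxy.symm
      · exact hab hxy
    have hf12 : ∀ h h', f1 h ≠ f2 h' := by
      intro h h' hhh
      apply hno (h'.1⁻¹ * h.1)
        ((stabH G a b).mul_mem ((stabH G a b).inv_mem h'.2) h.2)
      rw [mul_smul, inv_smul_eq_iff]
      exact hhh
    have hfix : ∀ (h : ↥(stabH G a b)) (v : Ω), v ≠ a → v ≠ b →
        ∀ x : Bool, h.1 • v ≠ f3 x := by
      intro h v hva hvb x hx
      have hh := mem_stabH.mp h.2
      cases x
      · have : h.1 • v = h.1 • b := by rw [hh.2]; simpa [f3] using hx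
        exact hvb (smul_left_cancel _ this)
      · have : h.1 • v = h.1 • a := by rw [hh.1]; simpa [f3] using hx
        exact hva (smul_left_cancel _ this)
    have hinj : Function.Injective (Sum.elim (Sum.elim f1 f2) f3) := by
      apply Function.Injective.sumElim (Function.Injective.sumElim hf1 hf2 hf12) hf3
      rintro (h | h) x
      · exact hfix h w hwa hwb x
      · exact hfix h w' hwa' hwb' x
    have hle := Nat.card_le_card_of_injective _ hinj
    rw [Nat.card_sum, Nat.card_sum, Nat.card_eq_fintype_card (α := Bool), Fintype.card_bool,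
      Nat.card_eq_fintype_card (α := Ω)] at hle
    have : Nat.card ↥(stabH G a b) =
        Nat.card ↥(stabilizer G a ⊓ stabilizer G b) := rfl
    omega
  obtain ⟨φ, hφ⟩ := Cfsg.Agent.Helper61.S3t.exists_character_of_sharp h2 h3f hab h3c heven' htr
  rcases φ.normal_ker.eq_bot_or_eq_top with hker | hker
  · have hinj : Function.Injective φ := (MonoidHom.ker_eq_bot_iff φ).mp hker
    have h1 := Nat.card_le_card_of_injective φ hinj
    have h2' : Nat.card ℤˣ = 2 := by simp
    have hsurj : Function.Surjective (fun g : G => g • a) := by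
      intro x
      by_cases hx : x = a
      · exact ⟨1, by rw [hx]; exact one_smul G a⟩
      · obtain ⟨g, hg, -⟩ := Cfsg.Agent.Helper60.Zassenhaus.exists_map2 h2 hab hx
        exact ⟨g, hg⟩
    have h3 := Nat.card_le_card_of_surjective _ hsurj
    omega
  · apply hφ
    ext g
    have : g ∈ φ.ker := by rw [hker]; exact Subgroup.mem_top g
    rw [MonoidHom.mem_ker] at this
    rw [this]
    rfl

/-- The even case: the two-point stabiliser is cyclic and inverted by an involution interchanging
the two points. -/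
theorem even_case [Finite G] [Fintype Ω] (hZ : Cfsg.IsZassenhausGroup G Ω)
    [IsSimpleGroup G] {a b : Ω} (hab : a ≠ b)
    (heven : Even (Nat.card ↥(stabilizer G a ⊓ stabilizer G b))) :
    IsCyclic ↥(stabilizer G a ⊓ stabilizer G b) ∧
      ∃ v : G, orderOf v = 2 ∧ v • a = b ∧ v • b = a ∧
        ∀ h ∈ stabilizer G a ⊓ stabilizer G b, v * h * v⁻¹ = h⁻¹ := by
  classical
  have hd := two_mul_le_of_simple hZ hab heven
  have heven' : Even (Nat.card (stabH G a b)) := heven
  have hd' : 2 * Nat.card (stabH G a b) ≤ Fintype.card Ω - 2 := hd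
  have h3c : 3 ≤ Nat.card Ω := Cfsg.Agent.Helper61.Zassenhaus.three_le_card hZ
  obtain ⟨-, h2, h3f, -, -⟩ := hZ
  obtain ⟨K, D⟩ := Cfsg.Agent.Helper61.S3t.exists_ZData h2 h3f hab h3c heven'
  refine ⟨isCyclic_stabH D heven' hd', ?_⟩
  obtain ⟨s, hs⟩ := D.exists_swap
  have hss : s * s = 1 := (D.swap_invol heven' hd').2 s hs
  have hs1 : s ≠ 1 := by
    intro h
    have := hs.1
    rw [h, one_smul] at this
    exact hab this
  refine ⟨s, orderOf_eq_prime (by rw [pow_two]; exact hss) hs1, hs.1, hs.2, ?_⟩
  intro h hh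
  exact D.swap_inverts heven' hd' hs hh

end Cfsg.Agent.Helper95.ZassCyclic
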