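import Mathlib
import Cfsg.Agent.Helper75.CAMain
import Cfsg.Agent.Helper75.CAIneq
import Cfsg.Agent.Helper80.CharLevel
import Cfsg.Agent.Helper80.Pullback

/-!
# Abelian T.I. subgroups with Frobenius normalizer of index `|A| + 1` (helper95), part 1

Basic lemmas: T.I. property from the centralizer condition, existence of irreducible characters
of a group separating two normal subgroups.
-/

set_option autoImplicit false
set_option linter.unusedSectionVars false

namespace Cfsg.Agent.Helper95.CTChar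

open Cfsg Cfsg.Agent.Helper75
open scoped ComplexConjugate

universe u

section TI

variable {G : Type u} [Group G]

/-- An abelian subgroup containing the centralizers of its non-identity elements is a T.I.
subgroup. -/
theorem ti_of_cent {A : Subgroup G}
    (hC : ∀ k ∈ A, k ≠ 1 → Subgroup.centralizer ({k} : Set G) ≤ A)
    (hab : ∀ a ∈ A, ∀ b ∈ A, a * b = b * a) :
    ∀ g : G, g ∉ Subgroup.normalizer (A : Set G) → ∀ k ∈ A, g * k * g⁻¹ ∈ A → k = 1 := by
  intro g hg k hk hgk
  by_contra hk1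
  apply hg
  have hgk1 : g * k * g⁻¹ ≠ 1 := by
    intro h1
    apply hk1
    have : k = g⁻¹ * (g * k * g⁻¹) * g := by group
    rw [this, h1]; group
  rw [Subgroup.mem_normalizer_iff]
  intro a
  constructor
  · intro ha
    apply hC _ hgk hgk1
    rw [Subgroup.mem_centralizer_singleton_iff]
    have h1 := hab a ha k hk
    calc g * a * g⁻¹ * (g * k * g⁻¹) = g * (a * k) * g⁻¹ := by group
      _ = g * (k * a) * g⁻¹ := by rw [h1]
      _ = g * k * g⁻¹ * (g * a * g⁻¹) := by group
  · intro ha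
    apply hC _ hk hk1
    rw [Subgroup.mem_centralizer_singleton_iff]
    have h1 := hab _ ha _ hgk
    calc a * k = g⁻¹ * ((g * a * g⁻¹) * (g * k * g⁻¹)) * g := by group
      _ = g⁻¹ * ((g * k * g⁻¹) * (g * a * g⁻¹)) * g := by rw [h1]
      _ = k * a := by group

end TI

section Sep

variable {N : Type u} [Group N] [Fintype N]

/-- Some irreducible character does not have a given non-identity element in its kernel. -/
theorem exists_irr_ne_of_ne_one {x : N} (hx : x ≠ 1) :
    ∃ χ : IrrCharacter N, (χ : N → ℂ) x ≠ (χ : N → ℂ) 1 := by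
  classical
  let _ := Helper74.irrFintype N
  by_contra hcon
  push Not at hcon
  have h1 := tf_sum_degree_mul (N := N) hx
  have h2 : ∑ ζ : IrrCharacter N, (ζ : N → ℂ) 1 * (ζ : N → ℂ) x
      = ∑ ζ : IrrCharacter N, (ζ : N → ℂ) 1 * (ζ : N → ℂ) 1 :=
    Finset.sum_congr rfl (fun ζ _ => by rw [hcon ζ])
  rw [h2] at h1
  have h3 := Helper74.second_orthogonality (G := N) 1 1
  rw [if_pos (IsConj.refl 1)] at h3
  have h4 : ∑ ζ : IrrCharacter N, (ζ : N → ℂ) 1 * conj ((ζ : N → ℂ) 1)
      = ∑ ζ : IrrCharacter N, (ζ : N → ℂ) 1 * (ζ : N → ℂ) 1 :=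
    Finset.sum_congr rfl (fun ζ _ => by rw [tf_conj_apply_one])
  rw [h4, h1] at h3
  have : (Nat.card (Subgroup.centralizer ({(1 : N)} : Set N)) : ℂ) ≠ 0 := by
    have : Nat.card (Subgroup.centralizer ({(1 : N)} : Set N)) ≠ 0 := Nat.card_pos.ne'
    exact_mod_cast this
  exact this h3.symm

/-- If `K < L` are normal subgroups, some irreducible character has `K` but not `L` in its
kernel. -/
theorem exists_irr_sep (K L : Subgroup N) [K.Normal] (hKL : K < L) :
    ∃ χ : IrrCharacter N, (∀ n ∈ K, (χ : N → ℂ) n = (χ : N → ℂ) 1) ∧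
      ∃ k ∈ L, (χ : N → ℂ) k ≠ (χ : N → ℂ) 1 := by
  classical
  obtain ⟨l, hlL, hlK⟩ := SetLike.exists_of_lt hKL
  let _ : Fintype (N ⧸ K) := Fintype.ofFinite _
  have hl1 : ((l : N) : N ⧸ K) ≠ 1 := by
    intro h
    exact hlK ((QuotientGroup.eq_one_iff l).mp h)
  obtain ⟨ψ, hψ⟩ := exists_irr_ne_of_ne_one hl1
  refine ⟨(Helper80.irrQuotientEquiv K ψ).1, (Helper80.irrQuotientEquiv K ψ).2, l, hlL, ?_⟩
  rw [Helper80.irrQuotientEquiv_apply, Helper80.irrQuotientEquiv_apply]
  exact hψ

end Sep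

end Cfsg.Agent.Helper95.CTChar
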