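import Mathlib
import Cfsg.Agent.Helper75.CAMain
import Cfsg.Agent.Helper21.CIT4
import Cfsg.Agent.Helper95.CTChar1

/-!
# Simple CA-groups of even order (helper95), part 1

`G` is a finite non-abelian simple group in which the centralizer of every non-identity element
is abelian, `t` an involution, `A = C_G(t)`, `N = N_G(A)`.  Then `N` is strongly embedded,
`|N : A|` is odd, and the involutions of `N` lie in `A`.
-/

set_option autoImplicit false
set_option linter.unusedSectionVars false
set_option linter.style.haveILetI false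

namespace Cfsg.Agent.Helper95.CT

open Cfsg Cfsg.Agent.Helper75 Cfsg.Agent.Helper21 Cfsg.Agent.Helper4
open Cfsg.Agent.Helper95.CTChar

universe u

/-- The data: a CA-group which is not abelian, with an involution `t`. -/
structure CTData (G : Type u) [Group G] where
  hCA : IsCA G
  hnc : ¬ ∀ a b : G, a * b = b * a
  t : G
  ht : orderOf t = 2

namespace CTData

variable {G : Type u} [Group G] (c : CTData G)

/-- The centralizer of the involution. -/
def A : Subgroup G := Subgroup.centralizer ({c.t} : Set G)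

/-- Its normalizer. -/
def N : Subgroup G := Subgroup.normalizer (c.A : Set G)

theorem t_ne_one : c.t ≠ 1 := by
  intro h
  have := c.ht
  rw [h, orderOf_one] at this
  omega

theorem t_mem_A : c.t ∈ c.A := ca_self_mem c.t

theorem A_le_N : c.A ≤ c.N := Subgroup.le_normalizer

theorem t_mem_N : c.t ∈ c.N := c.A_le_N c.t_mem_A

theorem hab : ∀ a ∈ c.A, ∀ b ∈ c.A, a * b = b * a :=
  fun a ha b hb => c.hCA c.t c.t_ne_one a ha b hb

theorem hC : ∀ k ∈ c.A, k ≠ 1 → Subgroup.centralizer ({k} : Set G) ≤ c.A :=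
  ca_hC c.hCA c.t_ne_one

theorem hTI : ∀ g : G, g ∉ c.N → ∀ k ∈ c.A, g * k * g⁻¹ ∈ c.A → k = 1 :=
  ti_of_cent c.hC c.hab

/-- `C_G(k) = A` for `1 ≠ k ∈ A`. -/
theorem cent_eq {k : G} (hk : k ∈ c.A) (hk1 : k ≠ 1) :
    Subgroup.centralizer ({k} : Set G) = c.A :=
  ca_centralizer_eq c.hCA c.t_ne_one hk1 hk

/-- An element commuting with a non-identity element of `A` lies in `A`. -/
theorem mem_A_of_commute {k x : G} (hk : k ∈ c.A) (hk1 : k ≠ 1) (hx : x * k = k * x) :
    x ∈ c.A := by
  apply c.hC k hk hk1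
  rw [Subgroup.mem_centralizer_singleton_iff]
  exact hx

variable [Finite G]

theorem even_card_A : Even (Nat.card c.A) :=
  (even_card_iff_exists_invol c.A).mpr ⟨c.t, c.t_mem_A, c.ht⟩

theorem odd_index_A : Odd c.A.index := by
  have h1 := ca_coprime c.hCA c.t_ne_one
  have h2 : 2 ∣ Nat.card (Subgroup.centralizer ({c.t} : Set G)) :=
    even_iff_two_dvd.mp c.even_card_A
  rw [← Nat.not_even_iff_odd, even_iff_two_dvd]
  intro h3
  have h3' : 2 ∣ (Subgroup.centralizer ({c.t} : Set G)).index := h3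
  have := Nat.dvd_gcd h2 h3'
  have h4 : Nat.gcd (Nat.card (Subgroup.centralizer ({c.t} : Set G)))
      (Subgroup.centralizer ({c.t} : Set G)).index = 1 := h1
  rw [h4] at this
  omega

theorem odd_caE : Odd (caE c.A) := by
  unfold caE
  have h1 : c.A.relIndex (Subgroup.normalizer (c.A : Set G)) ∣ c.A.index :=
    Subgroup.relIndex_dvd_index_of_le Subgroup.le_normalizer
  exact Odd.of_dvd_nat c.odd_index_A h1

/-- Involutions of `N` lie in `A`. -/
theorem invol_mem_A {s : G} (hs : orderOf s = 2) (hsN : s ∈ c.N) : s ∈ c.A := by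
  have hodd := c.odd_caE
  unfold caE at hodd
  let s' : ↥(Subgroup.normalizer (c.A : Set G)) := ⟨s, hsN⟩
  let q : ↥(Subgroup.normalizer (c.A : Set G)) ⧸
      (c.A.subgroupOf (Subgroup.normalizer (c.A : Set G))) := (s' : _)
  have hq2 : q ^ 2 = 1 := by
    show ((s' : ↥(Subgroup.normalizer (c.A : Set G))) : ↥(Subgroup.normalizer (c.A : Set G)) ⧸
      (c.A.subgroupOf (Subgroup.normalizer (c.A : Set G)))) ^ 2 = 1
    rw [← QuotientGroup.mk_pow]
    have : s' ^ 2 = 1 := by
      apply Subtype.ext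
      rw [Subgroup.coe_pow]
      show s ^ 2 = 1
      rw [← hs]
      exact pow_orderOf_eq_one s
    rw [this]
    rfl
  have h1 : orderOf q ∣ 2 := orderOf_dvd_of_pow_eq_one hq2
  have h2 : orderOf q ∣ Nat.card (↥(Subgroup.normalizer (c.A : Set G)) ⧸
      (c.A.subgroupOf (Subgroup.normalizer (c.A : Set G)))) := orderOf_dvd_natCard q
  have h3 : Nat.card (↥(Subgroup.normalizer (c.A : Set G)) ⧸
      (c.A.subgroupOf (Subgroup.normalizer (c.A : Set G))))
      = (c.A.subgroupOf (Subgroup.normalizer (c.A : Set G))).index := rfl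
  rw [h3] at h2
  have h4 : orderOf q = 1 := by
    have h5 : Odd (orderOf q) := Odd.of_dvd_nat hodd h2
    rcases (Nat.dvd_prime Nat.prime_two).mp h1 with h | h
    · exact h
    · rw [h] at h5
      exact absurd h5 (by decide)
  have h5 : q = 1 := orderOf_eq_one_iff.mp h4
  have h6 : s' ∈ c.A.subgroupOf (Subgroup.normalizer (c.A : Set G)) :=
    (QuotientGroup.eq_one_iff s').mp h5
  exact Subgroup.mem_subgroupOf.mp h6

variable [IsSimpleGroup G]

theorem A_ne_top : c.A ≠ ⊤ := by
  intro h
  apply c.hnc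
  intro a b
  exact c.hab a (by rw [h]; trivial) b (by rw [h]; trivial)

theorem A_ne_bot : c.A ≠ ⊥ := by
  intro h
  have := c.t_mem_A
  rw [h, Subgroup.mem_bot] at this
  exact c.t_ne_one this

theorem N_ne_top : c.N ≠ ⊤ := by
  intro h
  have hn : c.A.Normal := by
    rw [← Subgroup.normalizer_eq_top_iff]
    exact h
  rcases hn.eq_bot_or_eq_top with h1 | h1
  · exact c.A_ne_bot h1
  · exact c.A_ne_top h1

theorem even_card_N : Even (Nat.card c.N) :=
  (even_card_iff_exists_invol c.N).mpr ⟨c.t, c.t_mem_N, c.ht⟩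

/-- `N` is strongly embedded. -/
theorem stronglyEmbedded : IsStronglyEmbedded c.N := by
  rw [stronglyEmbedded_iff c.N c.N_ne_top c.even_card_N]
  intro g s hsN hs hgs
  have hsA := c.invol_mem_A hs hsN
  have hgsA := c.invol_mem_A (by rw [orderOf_conj_eq', hs]) hgs
  by_contra hg
  have hg' : g⁻¹ ∉ c.N := fun h => hg (by simpa using c.N.inv_mem h)
  have := c.hTI g⁻¹ hg' s hsA (by rw [inv_inv]; exact hgsA)
  rw [this, orderOf_one] at hs
  omega

end CTData

end Cfsg.Agent.Helper95.CT
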