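import Mathlib
import Cfsg.Agent.Helper95.CTGroup1
import Cfsg.Agent.Helper21.SE2
import Cfsg.Agent.Helper74.CharCount

/-!
# Simple CA-groups of even order (helper95), part 2

Counting involutions: all involutions are conjugate, `N` contains `|N : A|` of them, `G` contains
`|G : A|` of them, and every involution commutes with `|N : A|` involutions.
-/

set_option autoImplicit false
set_option linter.unusedSectionVars false
set_option linter.style.haveILetI false

namespace Cfsg.Agent.Helper95.CT

open Cfsg Cfsg.Agent.Helper75 Cfsg.Agent.Helper21 Cfsg.Agent.Helper4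
open Cfsg.Agent.Helper95.CTChar

universe u

namespace CTData

variable {G : Type u} [Group G] (c : CTData G) [Finite G] [IsSimpleGroup G]

include c

theorem exists_u : ∃ u : G, orderOf u = 2 ∧ u ∉ c.N :=
  IsStronglyEmbedded.exists_invol_not_mem c.stronglyEmbedded

theorem isConj_invol {a b : G} (ha : orderOf a = 2) (hb : orderOf b = 2) : IsConj a b := by
  obtain ⟨u, hu, huN⟩ := c.exists_u
  exact IsStronglyEmbedded.isConj_of_invol c.stronglyEmbedded hu huN ha hb

/-- The number of involutions of `N`. -/
theorem card_invol_N : Nat.card {s : G // orderOf s = 2 ∧ s ∈ c.N} = caE c.A := by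
  classical
  obtain ⟨u, hu, huN⟩ := c.exists_u
  let t' : ↥(Subgroup.normalizer (c.A : Set G)) := ⟨c.t, c.t_mem_N⟩
  have hcent : Subgroup.centralizer ({t'} : Set ↥(Subgroup.normalizer (c.A : Set G)))
      = c.A.subgroupOf (Subgroup.normalizer (c.A : Set G)) := by
    ext x
    rw [Subgroup.mem_centralizer_singleton_iff, Subgroup.mem_subgroupOf]
    show _ ↔ (x : G) ∈ Subgroup.centralizer ({c.t} : Set G)
    rw [Subgroup.mem_centralizer_singleton_iff]
    constructor
    · intro h
      exact congrArg Subtype.val h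
    · intro h
      exact Subtype.ext h
  have h1 := Helper74.card_isConj_eq_index t'
  rw [hcent] at h1
  unfold caE
  rw [← h1]
  let f : {s : G // orderOf s = 2 ∧ s ∈ c.N} →
      {x : ↥(Subgroup.normalizer (c.A : Set G)) // IsConj x t'} := fun s =>
    ⟨⟨s.1, s.2.2⟩, by
      obtain ⟨d, hd, hds⟩ := IsStronglyEmbedded.exists_conj_inf c.stronglyEmbedded hu huN
        s.2.1 s.2.2 c.ht c.t_mem_N
      rw [isConj_iff]
      exact ⟨⟨d, hd.1⟩, Subtype.ext hds⟩⟩
  have hf : Function.Bijective f := by
    constructor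
    · intro s₁ s₂ h
      have := congrArg (fun x : {x : ↥(Subgroup.normalizer (c.A : Set G)) // IsConj x t'} =>
        ((x.1 : ↥(Subgroup.normalizer (c.A : Set G))) : G)) h
      exact Subtype.ext this
    · rintro ⟨x, hx⟩
      obtain ⟨d, hd⟩ := isConj_iff.mp hx
      have hd' : (d : G) * (x : G) * (d : G)⁻¹ = c.t := congrArg Subtype.val hd
      have hx2 : orderOf (x : G) = 2 := by
        have : (x : G) = (d : G)⁻¹ * c.t * (d : G) := by rw [← hd']; group
        rw [this, orderOf_conj_eq', c.ht]
      exact ⟨⟨x.1, hx2, x.2⟩, rfl⟩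
  exact Nat.card_congr (Equiv.ofBijective f hf)

/-- The number of involutions of `G`. -/
theorem card_invol : Nat.card {s : G // orderOf s = 2} = c.A.index := by
  have h1 := Helper74.card_isConj_eq_index c.t
  show _ = (Subgroup.centralizer ({c.t} : Set G)).index
  rw [← h1]
  apply Nat.card_congr
  refine Equiv.subtypeEquivRight (fun x => ?_)
  constructor
  · intro hx
    exact c.isConj_invol hx c.ht
  · intro hx
    obtain ⟨d, hd⟩ := isConj_iff.mp hx
    have : x = d⁻¹ * c.t * d := by rw [← hd]; group
    rw [this, orderOf_conj_eq', c.ht]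

/-- Every involution commutes with exactly `|N : A|` involutions. -/
theorem card_invol_commute {i : G} (hi : orderOf i = 2) :
    Nat.card {j : G // orderOf j = 2 ∧ Commute i j} = caE c.A := by
  rw [← c.card_invol_N]
  obtain ⟨g, hg⟩ := isConj_iff.mp (c.isConj_invol c.ht hi)
  -- conjugation by `g⁻¹` maps the involutions commuting with `i` to those commuting with `t`
  apply Nat.card_congr
  refine Equiv.subtypeEquiv (MulAut.conj g⁻¹).toEquiv (fun j => ?_)
  simp only [MulEquiv.toEquiv_eq_coe, EquivLike.coe_coe, MulAut.conj_apply, inv_inv]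
  constructor
  · rintro ⟨hj, hij⟩
    refine ⟨by rw [orderOf_conj_eq', hj], ?_⟩
    apply c.A_le_N
    show g⁻¹ * j * g ∈ Subgroup.centralizer ({c.t} : Set G)
    rw [Subgroup.mem_centralizer_singleton_iff]
    have h1 : i * j = j * i := hij.eq
    calc g⁻¹ * j * g * c.t = g⁻¹ * (j * (g * c.t * g⁻¹)) * g := by group
      _ = g⁻¹ * ((g * c.t * g⁻¹) * j) * g := by rw [hg, h1]
      _ = c.t * (g⁻¹ * j * g) := by group
  · rintro ⟨hj, hjN⟩
    have hj2 : orderOf j = 2 := by rw [← hj, orderOf_conj_eq']
    refine ⟨hj2, ?_⟩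
    have hjA := c.invol_mem_A hj hjN
    have h1 : g⁻¹ * j * g * c.t = c.t * (g⁻¹ * j * g) :=
      Subgroup.mem_centralizer_singleton_iff.mp hjA
    show i * j = j * i
    rw [← hg]
    calc g * c.t * g⁻¹ * j = g * (c.t * (g⁻¹ * j * g)) * g⁻¹ := by group
      _ = g * ((g⁻¹ * j * g) * c.t) * g⁻¹ := by rw [h1]
      _ = j * (g * c.t * g⁻¹) := by group

end CTData

end Cfsg.Agent.Helper95.CT
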