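import Mathlib
import Cfsg.Agent.Helper95.CTGroup4
import Cfsg.Agent.Helper75.CAIneq

/-!
# Simple CA-groups of even order (helper95), part 5

`|N : A| ≥ 2` (Burnside's transfer theorem) and the count of pairs of non-commuting involutions,
giving the lower bound for the sizes of the centralizers of the elements with no conjugate in `A`.
-/

set_option autoImplicit false
set_option linter.unusedSectionVars false
set_option linter.style.haveILetI false

namespace Cfsg.Agent.Helper95.CT

open Cfsg Cfsg.Agent.Helper75 Cfsg.Agent.Helper21 Cfsg.Agent.Helper4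
open Cfsg.Agent.Helper95.CTChar

universe u

/-- A chosen involution inverting `z` (if there is one). -/
noncomputable def invOf {G : Type u} [Group G] (z : G) : G := by
  classical
  exact if h : ∃ r : G, orderOf r = 2 ∧ r * z * r⁻¹ = z⁻¹ then Classical.choose h else 1

theorem invOf_spec {G : Type u} [Group G] {z : G}
    (h : ∃ r : G, orderOf r = 2 ∧ r * z * r⁻¹ = z⁻¹) :
    orderOf (invOf z) = 2 ∧ invOf z * z * (invOf z)⁻¹ = z⁻¹ := by
  unfold invOf
  rw [dif_pos h]
  exact Classical.choose_spec h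

namespace CTData

variable {G : Type u} [Group G] (c : CTData G) [Finite G] [IsSimpleGroup G]

include c

/-- `|N : A| ≥ 2`, by Burnside's transfer theorem. -/
theorem two_le_caE : 2 ≤ caE c.A := by
  by_contra hlt
  have hodd := c.odd_caE
  have h1 : caE c.A = 1 := by
    obtain ⟨k, hk⟩ := hodd
    omega
  have hNA : c.N ≤ c.A := by
    unfold caE at h1
    have := Subgroup.index_eq_one.mp h1
    rw [Subgroup.subgroupOf_eq_top] at this
    exact this
  have : Fact (Nat.Prime 2) := ⟨Nat.prime_two⟩
  obtain ⟨P, hP⟩ := ca_sylow_le c.hCA c.t_ne_one (p := 2) (even_iff_two_dvd.mp c.even_card_A)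
  have h2G : 2 ∣ Nat.card G :=
    (even_iff_two_dvd.mp c.even_card_A).trans (Subgroup.card_subgroup_dvd_card _)
  have hPne : (P : Subgroup G) ≠ ⊥ := P.ne_bot_of_dvd_card h2G
  obtain ⟨s, hsP, hs1⟩ := (Subgroup.ne_bot_iff_exists_ne_one).mp hPne |>.elim
    (fun s hs => (⟨s.1, s.2, fun h => hs (Subtype.ext h)⟩ : ∃ s ∈ (P : Subgroup G), s ≠ 1))
  have hnc : Subgroup.normalizer ((P : Subgroup G) : Set G)
      ≤ Subgroup.centralizer ((P : Subgroup G) : Set G) := by
    intro g hg
    have hgs : g * s * g⁻¹ ∈ (P : Subgroup G) := (Subgroup.mem_normalizer_iff.mp hg s).mp hsP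
    have hgN : g ∈ c.N := by
      by_contra hgN
      exact hs1 (c.hTI g hgN s (hP hsP) (hP hgs))
    have hgA := hNA hgN
    rw [Subgroup.mem_centralizer_iff]
    intro p hp
    exact c.hab p (hP hp) g hgA
  have hcompl := MonoidHom.ker_transferSylow_isComplement' P hnc
  rcases (MonoidHom.normal_ker (MonoidHom.transferSylow P hnc)).eq_bot_or_eq_top with hk | hk
  · rw [hk] at hcompl
    have h3 : (P : Subgroup G) = ⊤ := Subgroup.isComplement'_bot_left.mp hcompl
    apply c.A_ne_top
    rw [eq_top_iff, ← h3]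
    exact hP
  · rw [hk] at hcompl
    have h3 : (P : Subgroup G) = ⊥ := Subgroup.isComplement'_top_left.mp hcompl
    exact hPne h3

/-- Two involutions whose product lies in `A` commute. -/
theorem commute_of_invol_mul_mem {i j : G} (hi : orderOf i = 2) (hj : orderOf j = 2)
    (hz : i * j ∈ c.A) : i * j = j * i := by
  have hii : i⁻¹ = i := invol_inv hi
  have hji : j⁻¹ = j := invol_inv hj
  have hisq : i * i = 1 := sq_one_of_orderOf_two hi
  by_cases hz1 : i * j = 1
  · have e1 : i = j⁻¹ := eq_inv_of_mul_eq_one_left hz1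
    rw [e1, hji]
  · have hinv : i * (i * j) * i⁻¹ ∈ c.A := by
      have : i * (i * j) * i⁻¹ = (i * j)⁻¹ := by
        calc i * (i * j) * i⁻¹ = (i * i) * j * i⁻¹ := by group
          _ = j * i⁻¹ := by rw [hisq, one_mul]
          _ = (i * j)⁻¹ := by rw [mul_inv_rev, hji]
      rw [this]
      exact c.A.inv_mem hz
    have hiN : i ∈ c.N := by
      by_contra hn
      exact hz1 (c.hTI _ hn _ hz hinv)
    have hiA := c.invol_mem_A hi hiN
    have hcomm : i * (i * j) = (i * j) * i := c.hab _ hiA _ hz
    rw [mul_assoc] at hcomm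
    exact mul_left_cancel hcomm

/-- The product of two non-commuting involutions has no conjugate in `A`. -/
theorem mul_mem_Krest [Fintype G] {i j : G} (hi : orderOf i = 2) (hj : orderOf j = 2)
    (hij : ¬ Commute i j) : i * j ∈ Krest c.A := by
  rw [mem_Krest]
  have hji : j⁻¹ = j := invol_inv hj
  constructor
  · intro h
    apply hij
    have : i = j⁻¹ := eq_inv_of_mul_eq_one_left h
    rw [this, hji]
  · intro hK
    obtain ⟨-, h, hh⟩ := mem_Kconj.mp hK
    apply hij
    have hi'2 : orderOf (h * i * h⁻¹) = 2 := by rw [orderOf_conj_eq, hi]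
    have hj'2 : orderOf (h * j * h⁻¹) = 2 := by rw [orderOf_conj_eq, hj]
    have hz' : (h * i * h⁻¹) * (h * j * h⁻¹) ∈ c.A := by
      have : (h * i * h⁻¹) * (h * j * h⁻¹) = h * (i * j) * h⁻¹ := by group
      rw [this]; exact hh
    have h5 := c.commute_of_invol_mul_mem hi'2 hj'2 hz'
    show i * j = j * i
    have e3 : i * j = h⁻¹ * ((h * i * h⁻¹) * (h * j * h⁻¹)) * h := by group
    rw [e3, h5]
    group

/-- The lower bound for the centralizers of the elements with no conjugate in `A`. -/
theorem hcls [Fintype G] :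
    caE c.A * Nat.card G
      ≤ ∑ z ∈ Krest c.A, Nat.card (Subgroup.centralizer ({z} : Set G)) := by
  classical
  have hw := c.two_le_caE
  let invF : Finset G := Finset.univ.filter (fun i => orderOf i = 2)
  let ncF : G → Finset G := fun i => Finset.univ.filter (fun j => orderOf j = 2 ∧ ¬ Commute i j)
  let cF : G → Finset G := fun i => Finset.univ.filter (fun j => orderOf j = 2 ∧ Commute i j)
  let S : Finset (Σ _ : G, G) := invF.sigma ncF
  let T : Finset (Σ _ : G, G) :=
    (Krest c.A).sigma (fun z => Finset.univ.filter (fun x => x ∈ Subgroup.centralizer ({z} : Set G)))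
  let f : (Σ _ : G, G) → (Σ _ : G, G) := fun p => ⟨p.1 * p.2, invOf (p.1 * p.2) * p.1⟩
  -- the existence of an inverting involution
  have hex : ∀ i j : G, orderOf i = 2 → orderOf j = 2 →
      ∃ r : G, orderOf r = 2 ∧ r * (i * j) * r⁻¹ = (i * j)⁻¹ := by
    intro i j hi hj
    refine ⟨i, hi, ?_⟩
    have hii : i⁻¹ = i := invol_inv hi
    have hji : j⁻¹ = j := invol_inv hj
    have hisq : i * i = 1 := sq_one_of_orderOf_two hi
    rw [mul_inv_rev, hji, ← mul_assoc, hisq, one_mul]
  have hmaps : ∀ p ∈ S, f p ∈ T := by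
    intro p hp
    rw [Finset.mem_sigma] at hp ⊢
    obtain ⟨hp1, hp2⟩ := hp
    have hi : orderOf p.1 = 2 := (Finset.mem_filter.mp hp1).2
    have hj : orderOf p.2 = 2 ∧ ¬ Commute p.1 p.2 := (Finset.mem_filter.mp hp2).2
    refine ⟨c.mul_mem_Krest hi hj.1 hj.2, ?_⟩
    rw [Finset.mem_filter]
    refine ⟨Finset.mem_univ _, ?_⟩
    show invOf (p.1 * p.2) * p.1 ∈ Subgroup.centralizer ({p.1 * p.2} : Set G)
    rw [Subgroup.mem_centralizer_singleton_iff]
    obtain ⟨-, hr⟩ := invOf_spec (hex p.1 p.2 hi hj.1)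
    obtain ⟨-, hi'⟩ := (⟨hi, by
      have hii : p.1⁻¹ = p.1 := invol_inv hi
      have hji : p.2⁻¹ = p.2 := invol_inv hj.1
      have hisq : p.1 * p.1 = 1 := sq_one_of_orderOf_two hi
      rw [mul_inv_rev, hji, ← mul_assoc, hisq, one_mul]⟩ :
        orderOf p.1 = 2 ∧ p.1 * (p.1 * p.2) * p.1⁻¹ = (p.1 * p.2)⁻¹)
    -- `(r i) z (r i)⁻¹ = z`
    have h1 : (invOf (p.1 * p.2) * p.1) * (p.1 * p.2) * (invOf (p.1 * p.2) * p.1)⁻¹
        = p.1 * p.2 := by
      have : (invOf (p.1 * p.2) * p.1) * (p.1 * p.2) * (invOf (p.1 * p.2) * p.1)⁻¹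
          = invOf (p.1 * p.2) * (p.1 * (p.1 * p.2) * p.1⁻¹) * (invOf (p.1 * p.2))⁻¹ := by group
      rw [this, hi']
      have e2 : invOf (p.1 * p.2) * (p.1 * p.2)⁻¹ * (invOf (p.1 * p.2))⁻¹
          = (invOf (p.1 * p.2) * (p.1 * p.2) * (invOf (p.1 * p.2))⁻¹)⁻¹ := by group
      rw [e2, hr, inv_inv]
    calc invOf (p.1 * p.2) * p.1 * (p.1 * p.2)
        = ((invOf (p.1 * p.2) * p.1) * (p.1 * p.2) * (invOf (p.1 * p.2) * p.1)⁻¹)
          * (invOf (p.1 * p.2) * p.1) := by group
      _ = p.1 * p.2 * (invOf (p.1 * p.2) * p.1) := by rw [h1]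
  have hinj : Set.InjOn f S := by
    intro p _ q _ hpq
    have h1 : p.1 * p.2 = q.1 * q.2 := congrArg Sigma.fst hpq
    have h2 : invOf (p.1 * p.2) * p.1 = invOf (q.1 * q.2) * q.1 := by
      have := congrArg Sigma.snd hpq
      exact this
    rw [h1] at h2
    have h3 : p.1 = q.1 := mul_left_cancel h2
    have h4 : p.2 = q.2 := by
      rw [h3] at h1
      exact mul_left_cancel h1
    cases p
    cases q
    simp only at h3 h4
    rw [h3, h4]
  have hle : S.card ≤ T.card := Finset.card_le_card_of_injOn f hmaps hinj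
  -- the cardinality of `T`
  have hT : T.card = ∑ z ∈ Krest c.A, Nat.card (Subgroup.centralizer ({z} : Set G)) := by
    rw [Finset.card_sigma]
    refine Finset.sum_congr rfl (fun z _ => ?_)
    rw [Nat.card_eq_fintype_card, Fintype.card_subtype]
  -- the cardinality of `S`
  have hinvF : invF.card = c.A.index := by
    rw [← c.card_invol, Nat.card_eq_fintype_card, Fintype.card_subtype]
  have hcF : ∀ i ∈ invF, (cF i).card = caE c.A := by
    intro i hi
    have hi2 : orderOf i = 2 := (Finset.mem_filter.mp hi).2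
    rw [← c.card_invol_commute hi2, Nat.card_eq_fintype_card, Fintype.card_subtype]
  have hncF : ∀ i ∈ invF, (ncF i).card = c.A.index - caE c.A := by
    intro i hi
    have h1 : ncF i = invF \ cF i := by
      ext j
      simp only [ncF, invF, cF, Finset.mem_filter, Finset.mem_univ, true_and, Finset.mem_sdiff]
      tauto
    have h2 : cF i ⊆ invF := by
      intro j hj
      simp only [invF, cF, Finset.mem_filter, Finset.mem_univ, true_and] at hj ⊢
      exact hj.1
    rw [h1, Finset.card_sdiff_of_subset h2, hinvF, hcF i hi]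
  have hS : S.card = c.A.index * (c.A.index - caE c.A) := by
    rw [Finset.card_sigma, Finset.sum_congr rfl hncF, Finset.sum_const, hinvF, smul_eq_mul]
  -- arithmetic
  have hidx := c.index_N hw
  have h1 : c.A.index = c.N.index * caE c.A := by
    unfold caE
    have := Subgroup.relIndex_mul_index (c.A_le_N)
    show c.A.index = c.N.index * c.A.relIndex (Subgroup.normalizer (c.A : Set G))
    rw [mul_comm]
    exact this.symm
  have h2 : Nat.card G = c.A.index * Nat.card c.A := by
    rw [mul_comm]; exact (Subgroup.card_mul_index c.A).symm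
  rw [← hT]
  refine le_trans (le_of_eq ?_) hle
  rw [hS, h2, h1, hidx]
  have h3 : (Nat.card c.A + 1) * caE c.A - caE c.A = Nat.card c.A * caE c.A := by
    rw [add_mul, one_mul, Nat.add_sub_cancel]
  rw [h3]
  ring

end CTData

end Cfsg.Agent.Helper95.CT
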