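import Mathlib
import Cfsg.Agent.Helper95.CTGroup5
import Cfsg.Agent.Helper74.CharCount

/-!
# Class sums of centralizer orders and pairs of involutions (helper95)

* `sum_card_centralizer_filter`: for a predicate `P` on conjugacy classes,
  `∑_{z, P (mk z)} |C(z)| = #{C // P C} * |G|`.
* `invol_pairs_le`: pairs of involutions `(i, j)` with `i * j ∈ R` inject into
  `{(z, x) : z ∈ R, x ∈ C(z)}` (Brauer–Fowler style).
-/

set_option autoImplicit false
set_option linter.unusedSectionVars false
set_option linter.style.haveILetI false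

namespace Cfsg.Agent.Helper95.ClassSum

open Cfsg Cfsg.Agent.Helper21 Cfsg.Agent.Helper4 Cfsg.Agent.Helper95.CT

universe u

variable {G : Type u} [Group G]

theorem card_centralizer_eq_of_isConj [Finite G] {z z₀ : G} (h : IsConj z z₀) :
    Nat.card (Subgroup.centralizer ({z} : Set G))
      = Nat.card (Subgroup.centralizer ({z₀} : Set G)) := by
  have h1 := Helper74.card_isConj_mul_card_centralizer z
  have h2 := Helper74.card_isConj_mul_card_centralizer z₀
  have h3 : Nat.card {x : G // IsConj x z} = Nat.card {x : G // IsConj x z₀} :=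
    Nat.card_congr (Equiv.subtypeEquivRight
      (fun x => ⟨fun hx => hx.trans h, fun hx => hx.trans h.symm⟩))
  rw [h3, ← h2] at h1
  have hpos : 0 < Nat.card {x : G // IsConj x z₀} :=
    Nat.card_pos_iff.mpr ⟨⟨⟨z₀, IsConj.refl z₀⟩⟩, inferInstance⟩
  exact Nat.eq_of_mul_eq_mul_left hpos h1

theorem sum_card_centralizer_class [Fintype G] [DecidableEq (ConjClasses G)] (C : ConjClasses G) :
    ∑ z ∈ Finset.univ.filter (fun z : G => ConjClasses.mk z = C),
      Nat.card (Subgroup.centralizer ({z} : Set G)) = Nat.card G := by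
  classical
  obtain ⟨z₀, rfl⟩ := ConjClasses.exists_rep C
  have h1 : ∀ z ∈ Finset.univ.filter (fun z : G => ConjClasses.mk z = ConjClasses.mk z₀),
      Nat.card (Subgroup.centralizer ({z} : Set G))
        = Nat.card (Subgroup.centralizer ({z₀} : Set G)) := by
    intro z hz
    have hz' : ConjClasses.mk z = ConjClasses.mk z₀ := (Finset.mem_filter.mp hz).2
    exact card_centralizer_eq_of_isConj (ConjClasses.mk_eq_mk_iff_isConj.mp hz')
  rw [Finset.sum_congr rfl h1, Finset.sum_const, smul_eq_mul]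
  have h2 : (Finset.univ.filter (fun z : G => ConjClasses.mk z = ConjClasses.mk z₀)).card
      = Nat.card {x : G // IsConj x z₀} := by
    rw [Nat.card_eq_fintype_card, Fintype.card_subtype]
    congr 1
    ext z
    simp only [Finset.mem_filter, Finset.mem_univ, true_and]
    exact ConjClasses.mk_eq_mk_iff_isConj
  rw [h2]
  exact Helper74.card_isConj_mul_card_centralizer z₀

theorem sum_card_centralizer_filter [Fintype G] (P : ConjClasses G → Prop) [DecidablePred P] :
    ∑ z ∈ Finset.univ.filter (fun z : G => P (ConjClasses.mk z)),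
      Nat.card (Subgroup.centralizer ({z} : Set G))
      = Nat.card {C : ConjClasses G // P C} * Nat.card G := by
  classical
  have hmaps : ∀ z ∈ Finset.univ.filter (fun z : G => P (ConjClasses.mk z)),
      ConjClasses.mk z ∈ (Finset.univ.filter P : Finset (ConjClasses G)) := by
    intro z hz
    rw [Finset.mem_filter] at hz ⊢
    exact ⟨Finset.mem_univ _, hz.2⟩
  rw [← Finset.sum_fiberwise_of_maps_to hmaps]
  have h1 : ∀ C ∈ (Finset.univ.filter P : Finset (ConjClasses G)),
      ∑ z ∈ Finset.univ.filter (fun z : G => P (ConjClasses.mk z)) with ConjClasses.mk z = C,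
        Nat.card (Subgroup.centralizer ({z} : Set G)) = Nat.card G := by
    intro C hC
    have hPC : P C := (Finset.mem_filter.mp hC).2
    rw [← sum_card_centralizer_class C]
    apply Finset.sum_congr _ (fun _ _ => rfl)
    ext z
    simp only [Finset.mem_filter, Finset.mem_univ, true_and]
    constructor
    · exact fun h => h.2
    · intro h
      exact ⟨h ▸ hPC, h⟩
  rw [Finset.sum_congr rfl h1, Finset.sum_const, smul_eq_mul]
  congr 1
  rw [Nat.card_eq_fintype_card, Fintype.card_subtype]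

/-- Pairs of involutions with product in `R` inject into the pairs `(z, x)`, `z ∈ R`,
`x ∈ C(z)`. -/
theorem invol_pairs_le [Fintype G] [DecidableEq G] (R Inv : Finset G) (nb : G → Finset G)
    (hInv : ∀ i ∈ Inv, orderOf i = 2)
    (hnb : ∀ i ∈ Inv, ∀ j ∈ nb i, orderOf j = 2 ∧ i * j ∈ R) :
    ∑ i ∈ Inv, (nb i).card ≤ ∑ z ∈ R, Nat.card (Subgroup.centralizer ({z} : Set G)) := by
  classical
  let S : Finset (Σ _ : G, G) := Inv.sigma nb
  let T : Finset (Σ _ : G, G) :=
    R.sigma (fun z => Finset.univ.filter (fun x => x ∈ Subgroup.centralizer ({z} : Set G)))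
  let f : (Σ _ : G, G) → (Σ _ : G, G) := fun p => ⟨p.1 * p.2, invOf (p.1 * p.2) * p.1⟩
  have hex : ∀ i j : G, orderOf i = 2 → orderOf j = 2 →
      ∃ r : G, orderOf r = 2 ∧ r * (i * j) * r⁻¹ = (i * j)⁻¹ := by
    intro i j hi hj
    refine ⟨i, hi, ?_⟩
    have hii : i⁻¹ = i := invol_inv hi
    have hji : j⁻¹ = j := invol_inv hj
    have hisq : i * i = 1 := sq_one_of_orderOf_two hi
    rw [mul_inv_rev, hji, ← mul_assoc, hisq, one_mul]
  have hmaps : ∀ p ∈ S, f p ∈ T := by
    intro p hp
    rw [Finset.mem_sigma] at hp ⊢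
    obtain ⟨hp1, hp2⟩ := hp
    have hi : orderOf p.1 = 2 := hInv _ hp1
    obtain ⟨hj, hR⟩ := hnb _ hp1 _ hp2
    refine ⟨hR, ?_⟩
    rw [Finset.mem_filter]
    refine ⟨Finset.mem_univ _, ?_⟩
    show invOf (p.1 * p.2) * p.1 ∈ Subgroup.centralizer ({p.1 * p.2} : Set G)
    rw [Subgroup.mem_centralizer_singleton_iff]
    obtain ⟨-, hr⟩ := invOf_spec (hex p.1 p.2 hi hj)
    have hi' : p.1 * (p.1 * p.2) * p.1⁻¹ = (p.1 * p.2)⁻¹ := by
      have hii : p.1⁻¹ = p.1 := invol_inv hi
      have hji : p.2⁻¹ = p.2 := invol_inv hj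
      have hisq : p.1 * p.1 = 1 := sq_one_of_orderOf_two hi
      rw [mul_inv_rev, hji, ← mul_assoc, hisq, one_mul]
    have h1 : (invOf (p.1 * p.2) * p.1) * (p.1 * p.2) * (invOf (p.1 * p.2) * p.1)⁻¹
        = p.1 * p.2 := by
      have : (invOf (p.1 * p.2) * p.1) * (p.1 * p.2) * (invOf (p.1 * p.2) * p.1)⁻¹
          = invOf (p.1 * p.2) * (p.1 * (p.1 * p.2) * p.1⁻¹) * (invOf (p.1 * p.2))⁻¹ := by group
      rw [this, hi']
      have e2 : invOf (p.1 * p.2) * (p.1 * p.2)⁻¹ * (invOf (p.1 * p.2))⁻¹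
          = (invOf (p.1 * p.2) * (p.1 * p.2) * (invOf (p.1 * p.2))⁻¹)⁻¹ := by group
      rw [e2, hr, inv_inv]
    calc invOf (p.1 * p.2) * p.1 * (p.1 * p.2)
        = ((invOf (p.1 * p.2) * p.1) * (p.1 * p.2) * (invOf (p.1 * p.2) * p.1)⁻¹)
          * (invOf (p.1 * p.2) * p.1) := by group
      _ = p.1 * p.2 * (invOf (p.1 * p.2) * p.1) := by rw [h1]
  have hinj : Set.InjOn f S := by
    intro p _ q _ hpq
    have h1 : p.1 * p.2 = q.1 * q.2 := congrArg Sigma.fst hpq
    have h2 : invOf (p.1 * p.2) * p.1 = invOf (q.1 * q.2) * q.1 := by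
      have := congrArg Sigma.snd hpq
      exact this
    rw [h1] at h2
    have h3 : p.1 = q.1 := mul_left_cancel h2
    have h4 : p.2 = q.2 := by
      rw [h3] at h1
      exact mul_left_cancel h1
    cases p
    cases q
    simp only at h3 h4
    rw [h3, h4]
  have hle : S.card ≤ T.card := Finset.card_le_card_of_injOn f hmaps hinj
  have hT : T.card = ∑ z ∈ R, Nat.card (Subgroup.centralizer ({z} : Set G)) := by
    rw [Finset.card_sigma]
    refine Finset.sum_congr rfl (fun z _ => ?_)
    rw [Nat.card_eq_fintype_card, Fintype.card_subtype]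
  have hS : S.card = ∑ i ∈ Inv, (nb i).card := Finset.card_sigma _ _
  rw [← hT, ← hS]
  exact hle

end Cfsg.Agent.Helper95.ClassSum
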