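import Mathlib
import Cfsg.Agent.Helper95.CTChar1

/-!
# Abelian T.I. subgroups with Frobenius normalizer of index `|A| + 1` (helper95), part 2

Inner products of the characters induced from the relevant characters of the normalizer.
-/

set_option autoImplicit false
set_option linter.unusedSectionVars false

namespace Cfsg.Agent.Helper95.CTChar

open Cfsg Cfsg.Agent.Helper75
open scoped ComplexConjugate

universe u

variable {G : Type u} [Group G] [Fintype G] {A : Subgroup G}
  [Fintype ↥(Subgroup.normalizer (A : Set G))]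

/-- Sum over `A \ {1}` of a product of two relevant characters. -/
theorem rel_sum_mul (hC : ∀ k ∈ A, k ≠ 1 → Subgroup.centralizer ({k} : Set G) ≤ A)
    (hab : ∀ a ∈ A, ∀ b ∈ A, a * b = b * a)
    {ζ ζ' : ↥(Subgroup.normalizer (A : Set G)) → ℂ} (hζ : ζ ∈ tfS A) (hζ' : ζ' ∈ tfS A)
    [Decidable (ζ = ζ')] :
    ∑ g ∈ Ksharp A, extendByZero (Subgroup.normalizer (A : Set G)) ζ g
        * conj (extendByZero (Subgroup.normalizer (A : Set G)) ζ' g)
      = (if ζ = ζ' then (Nat.card ↥(Subgroup.normalizer (A : Set G)) : ℂ) else 0)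
        - (caE A : ℂ) ^ 2 := by
  rw [sum_Ksharp_of_vanish A _ (fun g hg => by rw [ca_rel_ext_vanish hC hζ g hg, zero_mul]),
    ca_rel_ext_one hC hab hζ, ca_rel_ext_one hC hab hζ',
    Helper15.sum_extendByZero_mul _ ζ
      (fun g => conj (extendByZero (Subgroup.normalizer (A : Set G)) ζ' g))]
  have h5 := ca_irr_inner hζ.1 hζ'.1
  rw [Helper15.classInner_apply] at h5
  have hN : (Nat.card ↥(Subgroup.normalizer (A : Set G)) : ℂ) ≠ 0 := by
    have : Nat.card ↥(Subgroup.normalizer (A : Set G)) ≠ 0 := Nat.card_pos.ne'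
    exact_mod_cast this
  have h6 : ∑ n : ↥(Subgroup.normalizer (A : Set G)), ζ n * conj (ζ' n)
      = (if ζ = ζ' then (Nat.card ↥(Subgroup.normalizer (A : Set G)) : ℂ) else 0) := by
    by_cases h : ζ = ζ'
    · rw [if_pos h] at h5 ⊢
      field_simp at h5
      exact h5
    · rw [if_neg h] at h5 ⊢
      rcases mul_eq_zero.mp h5 with h7 | h7
      · exact absurd (inv_eq_zero.mp h7) hN
      · exact h7
  simp only [Helper15.extendByZero_coe]
  rw [h6, map_natCast]
  unfold caE
  ring

/-- The inner product of an induced relevant character with a class function. -/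
theorem inner_ind_formula (hC : ∀ k ∈ A, k ≠ 1 → Subgroup.centralizer ({k} : Set G) ≤ A)
    (hab : ∀ a ∈ A, ∀ b ∈ A, a * b = b * a)
    {ζ : ↥(Subgroup.normalizer (A : Set G)) → ℂ} (hζ : ζ ∈ tfS A)
    {ψ : G → ℂ} (hψ : IsClassFunction G ψ) :
    classInner (indFun (Subgroup.normalizer (A : Set G)) ζ) ψ
      = (Nat.card ↥(Subgroup.normalizer (A : Set G)) : ℂ)⁻¹
        * ((caE A : ℂ) * conj (ψ 1)
          + ∑ g ∈ Ksharp A, extendByZero (Subgroup.normalizer (A : Set G)) ζ g * conj (ψ g)) := by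
  rw [Helper15.frobenius_reciprocity _ ζ ψ hψ, Helper15.classInner_apply]
  congr 1
  rw [sum_Ksharp_of_vanish A _ (fun g hg => by rw [ca_rel_ext_vanish hC hζ g hg, zero_mul]),
    ca_rel_ext_one hC hab hζ,
    Helper15.sum_extendByZero_mul _ ζ (fun g => conj (ψ g))]
  unfold caE
  ring

end Cfsg.Agent.Helper95.CTChar
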