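import Mathlib
import Cfsg.Agent.Helper95.CTChar2

/-!
# Abelian T.I. subgroups with Frobenius normalizer of index `|A| + 1` (helper95), part 3

The three evaluations of the inner product formula, the count of relevant characters and the
lower bound for the number of irreducible characters.
-/

set_option autoImplicit false
set_option linter.unusedSectionVars false

namespace Cfsg.Agent.Helper95.CTChar

open Cfsg Cfsg.Agent.Helper75
open scoped ComplexConjugate

universe u

variable {G : Type u} [Group G] [Fintype G] {A : Subgroup G}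
  [Fintype ↥(Subgroup.normalizer (A : Set G))]

theorem caE_ne_zero (A : Subgroup G) : (caE A : ℂ) ≠ 0 := by
  unfold caE
  have : (A.subgroupOf (Subgroup.normalizer (A : Set G))).index ≠ 0 :=
    Subgroup.index_ne_zero_of_finite
  exact_mod_cast this

theorem card_ne_zero (A : Subgroup G) : (Nat.card A : ℂ) ≠ 0 := by
  have : Nat.card A ≠ 0 := Nat.card_pos.ne'
  exact_mod_cast this

theorem card_normalizer_eq (A : Subgroup G) :
    (Nat.card ↥(Subgroup.normalizer (A : Set G)) : ℂ) = (caE A : ℂ) * (Nat.card A : ℂ) := by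
  have := ca_card_normalizer_nat A
  rw [this]
  push_cast
  ring

/-- Inner product with a class function constant on `A \ {1}`. -/
theorem inner_ind_const (hC : ∀ k ∈ A, k ≠ 1 → Subgroup.centralizer ({k} : Set G) ≤ A)
    (hab : ∀ a ∈ A, ∀ b ∈ A, a * b = b * a)
    {ζ : ↥(Subgroup.normalizer (A : Set G)) → ℂ} (hζ : ζ ∈ tfS A)
    {ψ : G → ℂ} (hψ : IsClassFunction G ψ) {v : ℂ} (hv : ∀ k ∈ Ksharp A, ψ k = v) :
    classInner (indFun (Subgroup.normalizer (A : Set G)) ζ) ψ
      = (Nat.card A : ℂ)⁻¹ * (conj (ψ 1) - conj v) := by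
  rw [inner_ind_formula hC hab hζ hψ]
  have h1 : ∑ g ∈ Ksharp A, extendByZero (Subgroup.normalizer (A : Set G)) ζ g * conj (ψ g)
      = (∑ g ∈ Ksharp A, extendByZero (Subgroup.normalizer (A : Set G)) ζ g) * conj v := by
    rw [Finset.sum_mul]
    exact Finset.sum_congr rfl (fun g hg => by rw [hv g hg])
  rw [h1, ca_rel_sum hC hab hζ, card_normalizer_eq]
  have he := caE_ne_zero A
  have ha := card_ne_zero A
  unfold caE at he ⊢
  field_simp
  ring

/-- Inner product with a class function of the shape `ε ζ' + c` on `A \ {1}`. -/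
theorem inner_ind_exc (hC : ∀ k ∈ A, k ≠ 1 → Subgroup.centralizer ({k} : Set G) ≤ A)
    (hab : ∀ a ∈ A, ∀ b ∈ A, a * b = b * a)
    {ζ ζ' : ↥(Subgroup.normalizer (A : Set G)) → ℂ} (hζ : ζ ∈ tfS A) (hζ' : ζ' ∈ tfS A)
    [Decidable (ζ = ζ')]
    {ψ : G → ℂ} (hψ : IsClassFunction G ψ) {ε : ℂ} (hε : ε = 1 ∨ ε = -1) {c : ℤ}
    (hv : ∀ k ∈ Ksharp A, ψ k
      = ε * extendByZero (Subgroup.normalizer (A : Set G)) ζ' k + c) :
    classInner (indFun (Subgroup.normalizer (A : Set G)) ζ) ψ
      = (if ζ = ζ' then ε else 0)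
        + (Nat.card A : ℂ)⁻¹ * (conj (ψ 1) - ε * (caE A : ℂ) - c) := by
  rw [inner_ind_formula hC hab hζ hψ]
  have hcε : conj ε = ε := ca_conj_eps hε
  have h1 : ∑ g ∈ Ksharp A, extendByZero (Subgroup.normalizer (A : Set G)) ζ g * conj (ψ g)
      = ε * (∑ g ∈ Ksharp A, extendByZero (Subgroup.normalizer (A : Set G)) ζ g
          * conj (extendByZero (Subgroup.normalizer (A : Set G)) ζ' g))
        + (c : ℂ) * ∑ g ∈ Ksharp A, extendByZero (Subgroup.normalizer (A : Set G)) ζ g := by
    rw [Finset.mul_sum, Finset.mul_sum, ← Finset.sum_add_distrib]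
    refine Finset.sum_congr rfl (fun g hg => ?_)
    rw [hv g hg, map_add, map_mul, hcε, map_intCast]
    ring
  rw [h1, rel_sum_mul hC hab hζ hζ', ca_rel_sum hC hab hζ, card_normalizer_eq]
  have he := caE_ne_zero A
  have ha := card_ne_zero A
  by_cases h : ζ = ζ'
  · rw [if_pos h, if_pos h]
    unfold caE at he ⊢
    field_simp
    ring
  · rw [if_neg h, if_neg h]
    unfold caE at he ⊢
    field_simp
    ring

/-- The Gram matrix of the induced relevant characters when `|G : N| = |A| + 1`. -/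
theorem inner_ind_ind (hC : ∀ k ∈ A, k ≠ 1 → Subgroup.centralizer ({k} : Set G) ≤ A)
    (hab : ∀ a ∈ A, ∀ b ∈ A, a * b = b * a)
    (hidx : (Subgroup.normalizer (A : Set G)).index = Nat.card A + 1)
    {ζ ζ' : ↥(Subgroup.normalizer (A : Set G)) → ℂ} (hζ : ζ ∈ tfS A) (hζ' : ζ' ∈ tfS A)
    [Decidable (ζ = ζ')] :
    classInner (indFun (Subgroup.normalizer (A : Set G)) ζ)
        (indFun (Subgroup.normalizer (A : Set G)) ζ')
      = (if ζ = ζ' then 1 else 0) + (caE A : ℂ) := by
  have hTI := ti_of_cent hC hab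
  have hle : A ≤ Subgroup.normalizer (A : Set G) := Subgroup.le_normalizer
  have hv : ∀ k ∈ Ksharp A, indFun (Subgroup.normalizer (A : Set G)) ζ' k
      = (1 : ℂ) * extendByZero (Subgroup.normalizer (A : Set G)) ζ' k + ((0 : ℤ) : ℂ) := by
    intro k hk
    obtain ⟨hkA, hk1⟩ := mem_Ksharp.mp hk
    rw [Helper15.extendByZero_of_mem _ ζ' (hle hkA)]
    have := tf_indFun_apply A (Subgroup.normalizer (A : Set G)) hTI (tf_isClassFunction hζ')
      (fun x hx => tf_vanish hC hζ' x hx) ⟨k, hle hkA⟩ hkA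
      (fun h => hk1 (congrArg Subtype.val h))
    rw [this]
    simp
  rw [inner_ind_exc hC hab hζ hζ' (Helper15.isClassFunction_indFun _ ζ') (Or.inl rfl) hv,
    Helper15.indFun_apply_one, tf_rel_degree hC hab hζ', hidx]
  have he := caE_ne_zero A
  have ha := card_ne_zero A
  have hconj : conj (((Nat.card A + 1 : ℕ) : ℂ)
      * ((A.subgroupOf (Subgroup.normalizer (A : Set G))).index : ℂ))
      = ((Nat.card A + 1 : ℕ) : ℂ)
        * ((A.subgroupOf (Subgroup.normalizer (A : Set G))).index : ℂ) := by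
    rw [map_mul, map_natCast, map_natCast]
  rw [hconj]
  unfold caE at he ⊢
  push_cast
  field_simp
  ring

end Cfsg.Agent.Helper95.CTChar
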