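import Mathlib
import Cfsg.Agent.Helper95.CTChar3

/-!
# Abelian T.I. subgroups with Frobenius normalizer of index `|A| + 1` (helper95), part 4

The count of relevant characters and the lower bound for the number of irreducible characters.
-/

set_option autoImplicit false
set_option linter.unusedSectionVars false

namespace Cfsg.Agent.Helper95.CTChar

open Cfsg Cfsg.Agent.Helper75
open scoped ComplexConjugate

universe u

variable {G : Type u} [Group G] [Fintype G] {A : Subgroup G}
  [Fintype ↥(Subgroup.normalizer (A : Set G))]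

/-- The number of relevant characters of the normalizer. -/
theorem count_rel (hC : ∀ k ∈ A, k ≠ 1 → Subgroup.centralizer ({k} : Set G) ≤ A)
    (hab : ∀ a ∈ A, ∀ b ∈ A, a * b = b * a)
    {n : ℕ} {χ : Fin n → ↥(Subgroup.normalizer (A : Set G)) → ℂ}
    (hχmem : ∀ i, χ i ∈ tfS A) (hχinj : Function.Injective χ)
    (hχsurj : ∀ ζ ∈ tfS A, ∃ i, χ i = ζ) : n * caE A + 1 = Nat.card A := by
  classical
  have hle : A ≤ Subgroup.normalizer (A : Set G) := Subgroup.le_normalizer
  let K' := A.subgroupOf (Subgroup.normalizer (A : Set G))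
  have hcount := tf_count K' (fun χ' hχ' => by
    obtain ⟨k, hk, hne⟩ := hχ'
    exact tf_rel_degree hC hab ⟨χ'.2, k, Subgroup.mem_subgroupOf.mp hk, hne⟩)
  have hcard2 : Nat.card {χ' : IrrCharacter ↥(Subgroup.normalizer (A : Set G)) //
      ∃ k ∈ K', (χ' : ↥(Subgroup.normalizer (A : Set G)) → ℂ) k
        ≠ (χ' : ↥(Subgroup.normalizer (A : Set G)) → ℂ) 1} = n := by
    let f : Fin n → {χ' : IrrCharacter ↥(Subgroup.normalizer (A : Set G)) //
      ∃ k ∈ K', (χ' : ↥(Subgroup.normalizer (A : Set G)) → ℂ) k
        ≠ (χ' : ↥(Subgroup.normalizer (A : Set G)) → ℂ) 1} :=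
      fun i => ⟨⟨χ i, (hχmem i).1⟩, by
        obtain ⟨_, k, hk, hne⟩ := hχmem i
        exact ⟨k, Subgroup.mem_subgroupOf.mpr hk, hne⟩⟩
    have hf : Function.Bijective f := by
      constructor
      · intro i j hij
        exact hχinj (congrArg Subtype.val (congrArg Subtype.val hij))
      · rintro ⟨ζ, k, hk, hne⟩
        obtain ⟨i, hi⟩ := hχsurj ζ.1 ⟨ζ.2, k, Subgroup.mem_subgroupOf.mp hk, hne⟩
        exact ⟨i, Subtype.ext (Subtype.ext hi)⟩
    rw [← Nat.card_congr (Equiv.ofBijective f hf), Nat.card_fin]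
  have hKK' : Nat.card K' = Nat.card A :=
    Nat.card_congr (Subgroup.subgroupOfEquivOfLe hle).toEquiv
  rw [← hKK', ← hcount, hcard2]
  rfl

/-- The number of irreducible characters, from the sizes of the centralizers. -/
theorem card_irr_mul_card [Fintype (IrrCharacter G)] :
    (Fintype.card (IrrCharacter G) : ℂ) * (Nat.card G : ℂ)
      = ∑ z : G, ∑ ψ : IrrCharacter G, (ψ : G → ℂ) z * conj ((ψ : G → ℂ) z) := by
  rw [Finset.sum_comm]
  have hG : (Nat.card G : ℂ) ≠ 0 := by
    have : Nat.card G ≠ 0 := Nat.card_pos.ne'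
    exact_mod_cast this
  have h1 : ∀ ψ : IrrCharacter G, ∑ z : G, (ψ : G → ℂ) z * conj ((ψ : G → ℂ) z)
      = (Nat.card G : ℂ) := by
    intro ψ
    have h := Helper74.irr_inner_self ψ
    rw [Helper15.classInner_apply] at h
    field_simp at h
    exact h
  rw [Finset.sum_congr rfl (fun ψ _ => h1 ψ), Finset.sum_const, Finset.card_univ, nsmul_eq_mul]

/-- Lower bound for the number of irreducible characters. -/
theorem card_irr_ge [Fintype (IrrCharacter G)]
    (hC : ∀ k ∈ A, k ≠ 1 → Subgroup.centralizer ({k} : Set G) ≤ A)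
    (hab : ∀ a ∈ A, ∀ b ∈ A, a * b = b * a)
    (hcls : caE A * Nat.card G
      ≤ ∑ z ∈ Krest A, Nat.card (Subgroup.centralizer ({z} : Set G)))
    {n : ℕ} (hcount : n * caE A + 1 = Nat.card A) :
    n + caE A + 1 ≤ Fintype.card (IrrCharacter G) := by
  classical
  have hTI := ti_of_cent hC hab
  let F : G → ℂ := fun z => ∑ ψ : IrrCharacter G, (ψ : G → ℂ) z * conj ((ψ : G → ℂ) z)
  have hF : ∀ z : G, F z = (Nat.card (Subgroup.centralizer ({z} : Set G)) : ℂ) := by
    intro z
    have h := Helper74.second_orthogonality (G := G) z z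
    rw [if_pos (IsConj.refl z)] at h
    exact h
  have hFcf : IsClassFunction G F := by
    intro g h
    show ∑ ψ : IrrCharacter G, _ = ∑ ψ : IrrCharacter G, _
    refine Finset.sum_congr rfl (fun ψ _ => ?_)
    rw [Helper74.irr_isClassFunction ψ g h]
  have hkey := card_irr_mul_card (G := G)
  have hsplit := sum_split A F
  have h1 : F 1 = (Nat.card G : ℂ) := by
    rw [hF 1]
    have : Subgroup.centralizer ({(1 : G)} : Set G) = ⊤ := by
      rw [eq_top_iff]
      intro x _
      rw [Subgroup.mem_centralizer_singleton_iff]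
      simp
    rw [this, Subgroup.card_top]
  have hcent : ∀ k ∈ Ksharp A, Nat.card (Subgroup.centralizer ({k} : Set G)) = Nat.card A := by
    intro k hk
    obtain ⟨hkA, hk1⟩ := mem_Ksharp.mp hk
    have hle := hC k hkA hk1
    have hge : A ≤ Subgroup.centralizer ({k} : Set G) := by
      intro x hx
      rw [Subgroup.mem_centralizer_singleton_iff]
      exact hab x hx k hkA
    rw [le_antisymm hle hge]
  have h2 : ∑ g ∈ Kconj A, F g
      = ((Subgroup.normalizer (A : Set G)).index : ℂ)
        * (((Ksharp A).card : ℂ) * (Nat.card A : ℂ)) := by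
    rw [sum_Kconj hTI hFcf]
    congr 1
    rw [Finset.sum_congr rfl (fun k hk => by rw [hF k, hcent k hk]), Finset.sum_const,
      nsmul_eq_mul]
  have h3 : ∑ g ∈ Krest A, F g
      = ((∑ z ∈ Krest A, Nat.card (Subgroup.centralizer ({z} : Set G)) : ℕ) : ℂ) := by
    rw [Nat.cast_sum]
    exact Finset.sum_congr rfl (fun z _ => hF z)
  have htot : Fintype.card (IrrCharacter G) * Nat.card G
      = Nat.card G + (Subgroup.normalizer (A : Set G)).index * ((Ksharp A).card * Nat.card A)
        + ∑ z ∈ Krest A, Nat.card (Subgroup.centralizer ({z} : Set G)) := by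
    have : ((Fintype.card (IrrCharacter G) * Nat.card G : ℕ) : ℂ)
        = ((Nat.card G + (Subgroup.normalizer (A : Set G)).index
            * ((Ksharp A).card * Nat.card A)
          + ∑ z ∈ Krest A, Nat.card (Subgroup.centralizer ({z} : Set G)) : ℕ) : ℂ) := by
      push_cast
      rw [hkey]
      show ∑ z : G, F z = _
      rw [hsplit, h1, h2, h3]
      push_cast
      ring
    exact_mod_cast this
  have hK := card_Ksharp A
  have hN := ca_card_normalizer_nat A
  have hG := Subgroup.index_mul_card (Subgroup.normalizer (A : Set G))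
  have hK' : (Ksharp A).card = n * caE A := by omega
  -- index * (n e) * a = n * g
  have hng : (Subgroup.normalizer (A : Set G)).index * ((Ksharp A).card * Nat.card A)
      = n * Nat.card G := by
    rw [hK', ← hG, hN]
    ring
  rw [hng] at htot
  have hpos : 0 < Nat.card G := Nat.card_pos
  have : (n + caE A + 1) * Nat.card G ≤ Fintype.card (IrrCharacter G) * Nat.card G := by
    rw [htot]
    nlinarith
  exact Nat.le_of_mul_le_mul_right this hpos

end Cfsg.Agent.Helper95.CTChar
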