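import Mathlib
import Cfsg.Agent.Helper95.CTChar4

/-!
# Abelian T.I. subgroups with Frobenius normalizer of index `|A| + 1` (helper95), part 5

In a simple group, an irreducible character taking its degree as value at a non-identity element
is principal.
-/

set_option autoImplicit false
set_option linter.unusedSectionVars false

namespace Cfsg.Agent.Helper95.CTChar

open Cfsg Cfsg.Agent.Helper75
open scoped ComplexConjugate

universe u

variable {G : Type u} [Group G] [Fintype G]

/-- In a simple group, an irreducible character with a non-identity element in its kernel is the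
principal character. -/
theorem irr_eq_one_of_apply_eq [IsSimpleGroup G] (ψ : IrrCharacter G) {s : G} (hs1 : s ≠ 1)
    (h : (ψ : G → ℂ) s = (ψ : G → ℂ) 1) : (ψ : G → ℂ) = fun _ => 1 := by
  classical
  have hψc : IsCharacter G (ψ : G → ℂ) := Helper74.irr_isCharacter ψ
  have hmem : s ∈ Helper80.kerChar (ψ : G → ℂ) hψc := (Helper80.mem_kerChar hψc s).mpr h
  have hne : Helper80.kerChar (ψ : G → ℂ) hψc ≠ ⊥ := by
    intro hb
    rw [hb, Subgroup.mem_bot] at hmem
    exact hs1 hmem
  have htop : Helper80.kerChar (ψ : G → ℂ) hψc = ⊤ :=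
    ((Helper80.kerChar_normal (ψ : G → ℂ) hψc).eq_bot_or_eq_top).resolve_left hne
  have hall : ∀ g : G, (ψ : G → ℂ) g = (ψ : G → ℂ) 1 := by
    intro g
    apply (Helper80.mem_kerChar hψc g).mp
    rw [htop]
    trivial
  by_contra hne1
  have hne' : ψ ≠ ⟨fun _ => 1, Helper79.isIrrCharacter_one⟩ := by
    intro hc
    exact hne1 (congrArg Subtype.val hc)
  have h0 := Helper74.irr_inner_ne hne'
  rw [Helper15.classInner_apply] at h0
  simp only [map_one, mul_one] at h0
  rw [Finset.sum_congr rfl (fun g _ => hall g), Finset.sum_const, Finset.card_univ,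
    nsmul_eq_mul, ← Nat.card_eq_fintype_card] at h0
  have hG : (Nat.card G : ℂ) ≠ 0 := by
    have : Nat.card G ≠ 0 := Nat.card_pos.ne'
    exact_mod_cast this
  have h1 := tf_apply_one_ne_zero ψ
  rcases mul_eq_zero.mp h0 with h2 | h2
  · exact (inv_ne_zero hG) h2
  · rcases mul_eq_zero.mp h2 with h3 | h3
    · exact hG h3
    · exact h1 h3

end Cfsg.Agent.Helper95.CTChar
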