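import Mathlib
import Cfsg.Agent.Helper95.CTChar5

/-!
# Abelian T.I. subgroups with Frobenius normalizer of index `|A| + 1` (helper95), part 6

Main theorem: let `A` be an abelian subgroup of even order of the finite simple group `G`
containing the centralizers of its non-identity elements, with `|G : N_G(A)| = |A| + 1`,
`|N_G(A) : A|` odd, and such that the elements of `G` with no conjugate in `A` have large
centralizers on average (`hcls`).  Then `A` has no proper non-trivial subgroup normalized by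
`N_G(A)`.
-/

set_option autoImplicit false
set_option linter.unusedSectionVars false
set_option maxHeartbeats 1600000

namespace Cfsg.Agent.Helper95.CTChar

open Cfsg Cfsg.Agent.Helper75
open scoped ComplexConjugate

universe u

variable {G : Type u} [Group G] [Fintype G]

theorem ct_char_false [IsSimpleGroup G] (A : Subgroup G)
    [Fintype ↥(Subgroup.normalizer (A : Set G))]
    (hC : ∀ k ∈ A, k ≠ 1 → Subgroup.centralizer ({k} : Set G) ≤ A)
    (hab : ∀ a ∈ A, ∀ b ∈ A, a * b = b * a)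
    (hidx : (Subgroup.normalizer (A : Set G)).index = Nat.card A + 1)
    (heven : Even (Nat.card A)) (hodd : Odd (caE A))
    (hcls : caE A * Nat.card G
      ≤ ∑ z ∈ Krest A, Nat.card (Subgroup.centralizer ({z} : Set G)))
    (Ω : Subgroup G) (hΩA : Ω < A) (hΩ1 : Ω ≠ ⊥)
    (hΩN : ∀ n ∈ Subgroup.normalizer (A : Set G), ∀ x ∈ Ω, n * x * n⁻¹ ∈ Ω) : False := by
  classical
  let _ := Helper74.irrFintype G
  have hTI := ti_of_cent hC hab
  have hle : A ≤ Subgroup.normalizer (A : Set G) := Subgroup.le_normalizer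
  -- Step A: two relevant characters, one of them with `Ω` in its kernel
  have hΩ'n : (Ω.subgroupOf (Subgroup.normalizer (A : Set G))).Normal := by
    constructor
    intro x hx n
    rw [Subgroup.mem_subgroupOf] at hx ⊢
    have := hΩN n n.2 x hx
    simpa using this
  have hΩ'A' : Ω.subgroupOf (Subgroup.normalizer (A : Set G))
      < A.subgroupOf (Subgroup.normalizer (A : Set G)) := by
    obtain ⟨a, haA, haΩ⟩ := SetLike.exists_of_lt hΩA
    refine lt_of_le_of_ne ?_ ?_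
    · intro x hx
      rw [Subgroup.mem_subgroupOf] at hx ⊢
      exact hΩA.le hx
    · intro heq
      apply haΩ
      have h1 : (⟨a, hle haA⟩ : ↥(Subgroup.normalizer (A : Set G)))
          ∈ A.subgroupOf (Subgroup.normalizer (A : Set G)) := Subgroup.mem_subgroupOf.mpr haA
      rw [← heq] at h1
      exact Subgroup.mem_subgroupOf.mp h1
  obtain ⟨ζ₀, hζ₀ker, k₀, hk₀A', hk₀ne⟩ := exists_irr_sep _ _ hΩ'A'
  have hζ₀S : (ζ₀ : ↥(Subgroup.normalizer (A : Set G)) → ℂ) ∈ tfS A :=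
    ⟨ζ₀.2, k₀, Subgroup.mem_subgroupOf.mp hk₀A', hk₀ne⟩
  obtain ⟨s, hsΩ, hs1⟩ := (Subgroup.ne_bot_iff_exists_ne_one).mp hΩ1 |>.elim
    (fun s hs => (⟨s.1, s.2, fun h => hs (Subtype.ext h)⟩ : ∃ s ∈ Ω, s ≠ 1))
  have hsA : s ∈ A := hΩA.le hsΩ
  have hs'1 : (⟨s, hle hsA⟩ : ↥(Subgroup.normalizer (A : Set G))) ≠ 1 :=
    fun h => hs1 (congrArg Subtype.val h)
  obtain ⟨ζ₁, hζ₁⟩ := exists_irr_ne_of_ne_one hs'1
  have hζ₁S : (ζ₁ : ↥(Subgroup.normalizer (A : Set G)) → ℂ) ∈ tfS A :=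
    ⟨ζ₁.2, ⟨s, hle hsA⟩, hsA, hζ₁⟩
  have hζ₀s : (ζ₀ : ↥(Subgroup.normalizer (A : Set G)) → ℂ) ⟨s, hle hsA⟩
      = (ζ₀ : ↥(Subgroup.normalizer (A : Set G)) → ℂ) 1 :=
    hζ₀ker _ (Subgroup.mem_subgroupOf.mpr hsΩ)
  have hne01 : (ζ₀ : ↥(Subgroup.normalizer (A : Set G)) → ℂ)
      ≠ (ζ₁ : ↥(Subgroup.normalizer (A : Set G)) → ℂ) := by
    intro h
    apply hζ₁
    rw [← h]
    exact hζ₀s
  have htwo : ∃ ζ ∈ tfS A, ∃ ζ' ∈ tfS A, ζ ≠ ζ' := ⟨_, hζ₀S, _, hζ₁S, hne01⟩
  -- Step B: the exceptional characters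
  obtain ⟨n, χ, ε, θ, hn, hχmem, hχinj, hχsurj, hε, hθirr, hθinj, hdiff⟩ :=
    ca_exc_data hC hab hTI htwo
  obtain ⟨c₀, hc₀⟩ := ca_exc_values hC hab hTI hn hχmem hχinj hχsurj hε hθirr hθinj hdiff
  have hfam := ca_excFam_eq hC hab hTI hn hχmem hχinj hχsurj hε hθirr hθinj hdiff
  have hcount := count_rel hC hab hχmem hχinj hχsurj
  have hn3 : 3 ≤ n := by
    obtain ⟨a', ha'⟩ := heven
    obtain ⟨e', he'⟩ := hodd
    by_contra hlt
    have h2 : n = 2 := by omega
    rw [h2, he', ha'] at hcount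
    omega
  have hirr := card_irr_ge hC hab hcls hcount
  let i₀ : Fin n := ⟨0, by omega⟩
  let i₁ : Fin n := ⟨1, by omega⟩
  let i₂ : Fin n := ⟨2, by omega⟩
  have h01 : i₀ ≠ i₁ := by
    intro h
    have := congrArg Fin.val h
    simp [i₀, i₁] at this
  have h02 : i₀ ≠ i₂ := by
    intro h
    have := congrArg Fin.val h
    simp [i₀, i₂] at this
  have h12 : i₁ ≠ i₂ := by
    intro h
    have := congrArg Fin.val h
    simp [i₁, i₂] at this
  have hΦchar : ∀ i, IsCharacter G (indFun (Subgroup.normalizer (A : Set G)) (χ i)) :=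
    fun i => Helper15.isCharacter_indFun _ (Helper74.isCharacter_of_isIrr (hχmem i).1)
  choose b hb using fun (i : Fin n) (ψ : IrrCharacter G) =>
    Helper74.isCharacter_inner_irr_nat (hΦchar i) ψ
  -- Parseval
  have hpars : ∑ ψ : IrrCharacter G, b i₀ ψ * b i₁ ψ = caE A := by
    have h1 := inner_ind_ind hC hab hidx (hχmem i₀) (hχmem i₁)
    rw [if_neg (fun h => h01 (hχinj h)), zero_add] at h1
    have h2 := Helper74.isCharacter_eq_sum_irr (hΦchar i₁)
    have h3 : classInner (indFun (Subgroup.normalizer (A : Set G)) (χ i₀))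
        (indFun (Subgroup.normalizer (A : Set G)) (χ i₁))
        = ∑ ψ : IrrCharacter G, ((b i₀ ψ * b i₁ ψ : ℕ) : ℂ) := by
      conv_lhs => rw [h2]
      rw [Helper15.classInner_finset_sum_right]
      refine Finset.sum_congr rfl (fun ψ _ => ?_)
      rw [Helper15.classInner_smul_right, hb i₁ ψ, hb i₀ ψ, map_natCast]
      push_cast
      ring
    rw [h3, ← Nat.cast_sum] at h1
    exact_mod_cast h1
  -- the common degree
  have hoff : ∀ i j, θ i 1 = θ j 1 :=
    fun i j => ca_exc_off hC hab hχmem hε hdiff i j 1 (Or.inl rfl)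
  obtain ⟨dN, hdN⟩ := Helper74.isCharacter_apply_one (Helper74.isCharacter_of_isIrr (hθirr i₀))
  have hbθ : ∀ i k, (b i ⟨θ k, hθirr k⟩ : ℂ) = (if i = k then ε else 0)
      + (Nat.card A : ℂ)⁻¹ * ((dN : ℂ) - ε * (caE A : ℂ) - c₀) := by
    intro i k
    rw [← hb]
    have hv : ∀ x ∈ Ksharp A, θ k x
        = ε * extendByZero (Subgroup.normalizer (A : Set G)) (χ k) x + c₀ := by
      intro x hx
      obtain ⟨hxA, hx1⟩ := mem_Ksharp.mp hx
      rw [Helper15.extendByZero_of_mem _ _ (hle hxA)]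
      exact hc₀ k ⟨x, hle hxA⟩ hxA (fun h => hx1 (congrArg Subtype.val h))
    have hcf : IsClassFunction G (θ k) :=
      Helper74.isClassFunction_of_isCharacter (Helper74.isCharacter_of_isIrr (hθirr k))
    show classInner (indFun (Subgroup.normalizer (A : Set G)) (χ i)) (θ k) = _
    rw [inner_ind_exc hC hab (hχmem i) (hχmem k) hcf hε hv, hoff k i₀, hdN, map_natCast]
    by_cases hik : i = k
    · rw [if_pos hik, if_pos (by rw [hik])]
    · rw [if_neg hik, if_neg (fun h => hik (hχinj h))]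
  -- non-exceptional non-principal characters occur in every induced character
  have hbne : ∀ ψ : IrrCharacter G, (ψ : G → ℂ) ∉ excFam A → (ψ : G → ℂ) ≠ (fun _ => 1) →
      ∀ i, b i ψ ≠ 0 := by
    intro ψ hψE hψ1 i hbi
    have hconst : ∀ k ∈ Ksharp A, (ψ : G → ℂ) k = (ψ : G → ℂ) s := by
      intro k hk
      by_contra hne
      exact hψE ⟨ψ.2, k, (mem_Ksharp.mp hk).1, s, hsA, (mem_Ksharp.mp hk).2, hs1, hne⟩
    have h1 := inner_ind_const hC hab (hχmem i) (Helper74.irr_isClassFunction ψ) hconst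
    rw [hb i ψ, hbi, Nat.cast_zero] at h1
    have h2 : conj ((ψ : G → ℂ) 1) - conj ((ψ : G → ℂ) s) = 0 := by
      rcases mul_eq_zero.mp h1.symm with h3 | h3
      · exact absurd (inv_eq_zero.mp h3) (card_ne_zero A)
      · exact h3
    have h4 : (ψ : G → ℂ) s = (ψ : G → ℂ) 1 := by
      have h5 : conj ((ψ : G → ℂ) s) = conj ((ψ : G → ℂ) 1) := by linear_combination -h2
      exact (starRingEnd ℂ).injective h5
    exact hψ1 (irr_eq_one_of_apply_eq ψ hs1 h4)
  -- the counting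
  let E : Finset (IrrCharacter G) :=
    Finset.univ.image (fun k : Fin n => (⟨θ k, hθirr k⟩ : IrrCharacter G))
  let one : IrrCharacter G := ⟨fun _ => 1, Helper79.isIrrCharacter_one⟩
  let S : Finset (IrrCharacter G) := Finset.univ \ (E ∪ {one})
  have hEcard : E.card ≤ n := by
    have := Finset.card_image_le (s := (Finset.univ : Finset (Fin n)))
      (f := fun k : Fin n => (⟨θ k, hθirr k⟩ : IrrCharacter G))
    simpa using this
  have hScard : caE A ≤ S.card := by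
    have h1 : (Finset.univ : Finset (IrrCharacter G)).card - (E ∪ {one}).card ≤ S.card :=
      Finset.le_card_sdiff _ _
    have h2 : (E ∪ {one}).card ≤ n + 1 := by
      have := Finset.card_union_le E {one}
      rw [Finset.card_singleton] at this
      omega
    rw [Finset.card_univ] at h1
    omega
  have hS : ∀ ψ ∈ S, 1 ≤ b i₀ ψ * b i₁ ψ := by
    intro ψ hψ
    rw [Finset.mem_sdiff, Finset.mem_union, Finset.mem_singleton] at hψ
    have hψE : (ψ : G → ℂ) ∉ excFam A := by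
      intro hmem
      obtain ⟨k, hk⟩ := (hfam _).mp hmem
      apply hψ.2
      left
      rw [Finset.mem_image]
      exact ⟨k, Finset.mem_univ _, Subtype.ext hk⟩
    have hψ1 : (ψ : G → ℂ) ≠ (fun _ => 1) := by
      intro h
      apply hψ.2
      right
      exact Subtype.ext h
    have h0 := hbne ψ hψE hψ1 i₀
    have h1 := hbne ψ hψE hψ1 i₁
    exact Nat.one_le_iff_ne_zero.mpr (Nat.mul_ne_zero h0 h1)
  have hT₂ : (⟨θ i₂, hθirr i₂⟩ : IrrCharacter G) ∉ S := by
    intro h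
    rw [Finset.mem_sdiff, Finset.mem_union] at h
    apply h.2
    left
    rw [Finset.mem_image]
    exact ⟨i₂, Finset.mem_univ _, rfl⟩
  have hzero : b i₀ ⟨θ i₂, hθirr i₂⟩ * b i₁ ⟨θ i₂, hθirr i₂⟩ = 0 := by
    have h1 : ∑ ψ ∈ insert (⟨θ i₂, hθirr i₂⟩ : IrrCharacter G) S, b i₀ ψ * b i₁ ψ
        ≤ ∑ ψ : IrrCharacter G, b i₀ ψ * b i₁ ψ :=
      Finset.sum_le_sum_of_subset (Finset.subset_univ _)
    rw [Finset.sum_insert hT₂, hpars] at h1
    have h2 : S.card • 1 ≤ ∑ ψ ∈ S, b i₀ ψ * b i₁ ψ := Finset.card_nsmul_le_sum S _ 1 hS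
    rw [smul_eq_mul, mul_one] at h2
    have h3 : b i₀ ⟨θ i₂, hθirr i₂⟩ * b i₁ ⟨θ i₂, hθirr i₂⟩ + S.card ≤ 0 + S.card :=
      calc b i₀ ⟨θ i₂, hθirr i₂⟩ * b i₁ ⟨θ i₂, hθirr i₂⟩ + S.card
          ≤ b i₀ ⟨θ i₂, hθirr i₂⟩ * b i₁ ⟨θ i₂, hθirr i₂⟩ + ∑ ψ ∈ S, b i₀ ψ * b i₁ ψ :=
            Nat.add_le_add_left h2 _
        _ ≤ caE A := h1
        _ ≤ S.card := hScard
        _ = 0 + S.card := (zero_add _).symm
    exact Nat.le_zero.mp (Nat.le_of_add_le_add_right h3)
  -- `M = 0`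
  have hM : (Nat.card A : ℂ)⁻¹ * ((dN : ℂ) - ε * (caE A : ℂ) - c₀) = 0 := by
    have h1 := hbθ i₀ i₂
    have h2 := hbθ i₁ i₂
    rw [if_neg h02, zero_add] at h1
    rw [if_neg h12, zero_add] at h2
    have h3 : ((b i₀ ⟨θ i₂, hθirr i₂⟩ * b i₁ ⟨θ i₂, hθirr i₂⟩ : ℕ) : ℂ) = 0 := by
      rw [hzero]; simp
    rw [Nat.cast_mul, h1, h2] at h3
    exact mul_self_eq_zero.mp h3
  -- `ε = 1`
  have hε1 : ε = 1 := by
    rcases hε with h | h
    · exact h
    · exfalso
      have h1 := hbθ i₀ i₀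
      rw [if_pos rfl, hM, add_zero, h] at h1
      have h2 : ((b i₀ ⟨θ i₀, hθirr i₀⟩ + 1 : ℕ) : ℂ) = 0 := by
        push_cast
        rw [h1]; ring
      have h3 : b i₀ ⟨θ i₀, hθirr i₀⟩ + 1 = 0 := by exact_mod_cast h2
      omega
  -- `c₀ = d - e`
  have hc₀' : (c₀ : ℂ) = (dN : ℂ) - (caE A : ℂ) := by
    rcases mul_eq_zero.mp hM with h | h
    · exact absurd (inv_eq_zero.mp h) (card_ne_zero A)
    · rw [hε1] at h
      linear_combination -h
  -- Step C: an exceptional character with `s` in its kernel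
  obtain ⟨j₀, hj₀⟩ := hχsurj _ hζ₀S
  have hval : θ j₀ s = θ j₀ 1 := by
    have h1 := hc₀ j₀ ⟨s, hle hsA⟩ hsA hs'1
    rw [hj₀, hζ₀s, ← hj₀, tf_rel_degree hC hab (hχmem j₀), hε1, hc₀'] at h1
    rw [hoff j₀ i₀, hdN]
    show θ j₀ s = _
    rw [h1]
    unfold caE
    ring
  have hone := irr_eq_one_of_apply_eq (⟨θ j₀, hθirr j₀⟩ : IrrCharacter G) hs1 hval
  have hmem : θ j₀ ∈ excFam A := (hfam _).mpr ⟨j₀, rfl⟩
  have hone' : θ j₀ = fun _ => 1 := hone
  rw [hone'] at hmem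
  exact ca_one_not_mem_excFam A hmem

end Cfsg.Agent.Helper95.CTChar
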