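import Mathlib
import Cfsg.Agent.Helper95.CTGroup5

/-!
# The class count for a self-centralizing abelian TI subgroup (helper95)

`A` abelian with `C(k) ≤ A` for `k ∈ A \ {1}`, `|N(A) : A|` odd, `|G : N(A)| = |A| + 1`, and an
involution `t ∈ A`: counting the pairs of non-commuting conjugates of `t` gives the lower bound
`|N(A) : A| * |G| ≤ ∑_{z ∈ Krest A} |C(z)|` needed by `CTChar.ct_char_false`.
-/

set_option autoImplicit false
set_option linter.unusedSectionVars false
set_option linter.style.haveILetI false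

namespace Cfsg.Agent.Helper95.CT

open Cfsg Cfsg.Agent.Helper75 Cfsg.Agent.Helper21 Cfsg.Agent.Helper4
open Cfsg.Agent.Helper95.CTChar

universe u

section Count

variable {G : Type u} [Group G] {A : Subgroup G}

/-- Involutions of `N(A)` lie in `A` when `|N(A) : A|` is odd. -/
theorem invol_mem_of_odd (hodd : Odd (caE A)) {s : G} (hs : orderOf s = 2)
    (hsN : s ∈ Subgroup.normalizer (A : Set G)) : s ∈ A := by
  unfold caE at hodd
  let s' : ↥(Subgroup.normalizer (A : Set G)) := ⟨s, hsN⟩
  let q : ↥(Subgroup.normalizer (A : Set G)) ⧸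
      (A.subgroupOf (Subgroup.normalizer (A : Set G))) := (s' : _)
  have hq2 : q ^ 2 = 1 := by
    show ((s' : ↥(Subgroup.normalizer (A : Set G))) : ↥(Subgroup.normalizer (A : Set G)) ⧸
      (A.subgroupOf (Subgroup.normalizer (A : Set G)))) ^ 2 = 1
    rw [← QuotientGroup.mk_pow]
    have : s' ^ 2 = 1 := by
      apply Subtype.ext
      rw [Subgroup.coe_pow]
      show s ^ 2 = 1
      rw [← hs]
      exact pow_orderOf_eq_one s
    rw [this]
    rfl
  have h1 : orderOf q ∣ 2 := orderOf_dvd_of_pow_eq_one hq2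
  have h2 : orderOf q ∣ Nat.card (↥(Subgroup.normalizer (A : Set G)) ⧸
      (A.subgroupOf (Subgroup.normalizer (A : Set G)))) := orderOf_dvd_natCard q
  have h3 : Nat.card (↥(Subgroup.normalizer (A : Set G)) ⧸
      (A.subgroupOf (Subgroup.normalizer (A : Set G))))
      = (A.subgroupOf (Subgroup.normalizer (A : Set G))).index := rfl
  rw [h3] at h2
  have h4 : orderOf q = 1 := by
    have h5 : Odd (orderOf q) := Odd.of_dvd_nat hodd h2
    rcases (Nat.dvd_prime Nat.prime_two).mp h1 with h | h
    · exact h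
    · rw [h] at h5
      exact absurd h5 (by decide)
  have h5 : q = 1 := orderOf_eq_one_iff.mp h4
  have h6 : s' ∈ A.subgroupOf (Subgroup.normalizer (A : Set G)) :=
    (QuotientGroup.eq_one_iff s').mp h5
  exact Subgroup.mem_subgroupOf.mp h6

variable (hC : ∀ k ∈ A, k ≠ 1 → Subgroup.centralizer ({k} : Set G) ≤ A)
  (hab : ∀ a ∈ A, ∀ b ∈ A, a * b = b * a) (hodd : Odd (caE A))

include hC hab hodd

/-- Two involutions whose product lies in `A` commute. -/
theorem commute_of_mul_mem {i j : G} (hi : orderOf i = 2) (hj : orderOf j = 2)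
    (hz : i * j ∈ A) : i * j = j * i := by
  have hTI := ti_of_cent hC hab
  have hii : i⁻¹ = i := invol_inv hi
  have hji : j⁻¹ = j := invol_inv hj
  have hisq : i * i = 1 := sq_one_of_orderOf_two hi
  by_cases hz1 : i * j = 1
  · have e1 : i = j⁻¹ := eq_inv_of_mul_eq_one_left hz1
    rw [e1, hji]
  · have hinv : i * (i * j) * i⁻¹ ∈ A := by
      have : i * (i * j) * i⁻¹ = (i * j)⁻¹ := by
        calc i * (i * j) * i⁻¹ = (i * i) * j * i⁻¹ := by group
          _ = j * i⁻¹ := by rw [hisq, one_mul]
          _ = (i * j)⁻¹ := by rw [mul_inv_rev, hji]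
      rw [this]
      exact A.inv_mem hz
    have hiN : i ∈ Subgroup.normalizer (A : Set G) := by
      by_contra hn
      exact hz1 (hTI _ hn _ hz hinv)
    have hiA := invol_mem_of_odd hodd hi hiN
    have hcomm : i * (i * j) = (i * j) * i := hab _ hiA _ hz
    rw [mul_assoc] at hcomm
    exact mul_left_cancel hcomm

/-- The product of two non-commuting involutions has no conjugate in `A`. -/
theorem mul_mem_Krest_of_odd [Fintype G] {i j : G} (hi : orderOf i = 2) (hj : orderOf j = 2)
    (hij : ¬ Commute i j) : i * j ∈ Krest A := by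
  rw [mem_Krest]
  have hji : j⁻¹ = j := invol_inv hj
  constructor
  · intro h
    apply hij
    have : i = j⁻¹ := eq_inv_of_mul_eq_one_left h
    rw [this, hji]
  · intro hK
    obtain ⟨-, h, hh⟩ := mem_Kconj.mp hK
    apply hij
    have hi'2 : orderOf (h * i * h⁻¹) = 2 := by rw [orderOf_conj_eq, hi]
    have hj'2 : orderOf (h * j * h⁻¹) = 2 := by rw [orderOf_conj_eq, hj]
    have hz' : (h * i * h⁻¹) * (h * j * h⁻¹) ∈ A := by
      have : (h * i * h⁻¹) * (h * j * h⁻¹) = h * (i * j) * h⁻¹ := by group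
      rw [this]; exact hh
    have h5 := commute_of_mul_mem hC hab hodd hi'2 hj'2 hz'
    show i * j = j * i
    have e3 : i * j = h⁻¹ * ((h * i * h⁻¹) * (h * j * h⁻¹)) * h := by group
    rw [e3, h5]
    group

omit hodd in
/-- The centralizer of a non-identity element of `A` is `A`. -/
theorem cent_eq_of_mem {t : G} (htA : t ∈ A) (ht1 : t ≠ 1) :
    Subgroup.centralizer ({t} : Set G) = A := by
  apply le_antisymm (hC t htA ht1)
  intro x hx
  rw [Subgroup.mem_centralizer_singleton_iff]
  exact hab x hx t htA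

omit hodd in
/-- The conjugates of `t ∈ A` commuting with `t` are the `N(A)`-conjugates of `t`. -/
theorem card_conj_commute_self [Finite G] {t : G} (htA : t ∈ A) (ht1 : t ≠ 1) :
    Nat.card {j : G // IsConj j t ∧ Commute t j} = caE A := by
  classical
  have hTI := ti_of_cent hC hab
  have hle : A ≤ Subgroup.normalizer (A : Set G) := Subgroup.le_normalizer
  let t' : ↥(Subgroup.normalizer (A : Set G)) := ⟨t, hle htA⟩
  have hcent : Subgroup.centralizer ({t'} : Set ↥(Subgroup.normalizer (A : Set G)))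
      = A.subgroupOf (Subgroup.normalizer (A : Set G)) := by
    ext x
    rw [Subgroup.mem_centralizer_singleton_iff, Subgroup.mem_subgroupOf]
    have hmem : (x : G) ∈ A ↔ (x : G) * t = t * (x : G) := by
      constructor
      · intro h
        exact hab _ h _ htA
      · intro h
        apply hC t htA ht1
        rw [Subgroup.mem_centralizer_singleton_iff]
        exact h
    rw [hmem]
    constructor
    · intro h
      exact congrArg Subtype.val h
    · intro h
      exact Subtype.ext h
  have h1 := Helper74.card_isConj_eq_index t'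
  rw [hcent] at h1
  unfold caE
  rw [← h1]
  let f : {j : G // IsConj j t ∧ Commute t j} →
      {x : ↥(Subgroup.normalizer (A : Set G)) // IsConj x t'} := fun j =>
    ⟨⟨j.1, by
      apply hle
      rw [← cent_eq_of_mem hC hab htA ht1, Subgroup.mem_centralizer_singleton_iff]
      exact j.2.2.eq.symm⟩, by
      obtain ⟨g, hg⟩ := isConj_iff.mp j.2.1
      have hjA : j.1 ∈ A := by
        rw [← cent_eq_of_mem hC hab htA ht1, Subgroup.mem_centralizer_singleton_iff]
        exact j.2.2.eq.symm
      have hgN : g ∈ Subgroup.normalizer (A : Set G) := by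
        by_contra hn
        have hj1 : j.1 = 1 := hTI g hn j.1 hjA (by rw [hg]; exact htA)
        apply ht1
        rw [← hg, hj1]; group
      rw [isConj_iff]
      exact ⟨⟨g, hgN⟩, Subtype.ext hg⟩⟩
  have hf : Function.Bijective f := by
    constructor
    · intro s₁ s₂ h
      have := congrArg (fun x : {x : ↥(Subgroup.normalizer (A : Set G)) // IsConj x t'} =>
        ((x.1 : ↥(Subgroup.normalizer (A : Set G))) : G)) h
      exact Subtype.ext this
    · rintro ⟨x, hx⟩
      obtain ⟨d, hd⟩ := isConj_iff.mp hx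
      have hd' : (d : G) * (x : G) * (d : G)⁻¹ = t := congrArg Subtype.val hd
      have hxA : (x : G) ∈ A := by
        have e : (x : G) = (d : G)⁻¹ * t * ((d : G)⁻¹)⁻¹ := by rw [← hd']; group
        rw [e]
        have hdN : (d : G)⁻¹ ∈ Subgroup.normalizer (A : Set G) := Subgroup.inv_mem _ d.2
        exact (Subgroup.mem_normalizer_iff.mp hdN t).mp htA
      refine ⟨⟨x.1, isConj_iff.mpr ⟨d, hd'⟩, ?_⟩, rfl⟩
      exact hab t htA x.1 hxA
  exact Nat.card_congr (Equiv.ofBijective f hf)

omit hodd in
/-- Every conjugate of `t` commutes with exactly `|N(A) : A|` conjugates of `t`. -/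
theorem card_conj_commute [Finite G] {t : G} (htA : t ∈ A) (ht1 : t ≠ 1) {i : G}
    (hi : IsConj i t) :
    Nat.card {j : G // IsConj j t ∧ Commute i j} = caE A := by
  rw [← card_conj_commute_self hC hab htA ht1]
  obtain ⟨g, hg⟩ := isConj_iff.mp hi
  apply Nat.card_congr
  refine Equiv.subtypeEquiv (MulAut.conj g).toEquiv (fun j => ?_)
  simp only [MulEquiv.toEquiv_eq_coe, EquivLike.coe_coe, MulAut.conj_apply]
  constructor
  · rintro ⟨hj, hij⟩
    refine ⟨?_, ?_⟩
    · obtain ⟨d, hd⟩ := isConj_iff.mp hj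
      rw [isConj_iff]
      refine ⟨d * g⁻¹, ?_⟩
      rw [← hd]; group
    · have h1 : i * j = j * i := hij.eq
      show t * (g * j * g⁻¹) = g * j * g⁻¹ * t
      rw [← hg]
      calc g * i * g⁻¹ * (g * j * g⁻¹) = g * (i * j) * g⁻¹ := by group
        _ = g * (j * i) * g⁻¹ := by rw [h1]
        _ = g * j * g⁻¹ * (g * i * g⁻¹) := by group
  · rintro ⟨hj, hij⟩
    refine ⟨?_, ?_⟩
    · obtain ⟨d, hd⟩ := isConj_iff.mp hj
      rw [isConj_iff]
      refine ⟨d * g, ?_⟩
      rw [← hd]; group
    · have h1 : t * (g * j * g⁻¹) = g * j * g⁻¹ * t := hij.eq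
      rw [← hg] at h1
      show i * j = j * i
      calc i * j = g⁻¹ * (g * i * g⁻¹ * (g * j * g⁻¹)) * g := by group
        _ = g⁻¹ * (g * j * g⁻¹ * (g * i * g⁻¹)) * g := by rw [h1]
        _ = j * i := by group

/-- The lower bound for the sizes of the centralizers of the elements with no conjugate in `A`. -/
theorem hcls_of_invol [Fintype G] {t : G} (htA : t ∈ A) (ht : orderOf t = 2)
    (hidx : (Subgroup.normalizer (A : Set G)).index = Nat.card A + 1) :
    caE A * Nat.card G
      ≤ ∑ z ∈ Krest A, Nat.card (Subgroup.centralizer ({z} : Set G)) := by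
  classical
  have ht1 : t ≠ 1 := by
    intro h
    rw [h, orderOf_one] at ht
    omega
  have hord : ∀ i : G, IsConj i t → orderOf i = 2 := by
    intro i hi
    obtain ⟨d, hd⟩ := isConj_iff.mp hi
    have : i = d⁻¹ * t * d := by rw [← hd]; group
    rw [this, orderOf_conj_eq', ht]
  let invF : Finset G := Finset.univ.filter (fun i => IsConj i t)
  let ncF : G → Finset G := fun i => Finset.univ.filter (fun j => IsConj j t ∧ ¬ Commute i j)
  let cF : G → Finset G := fun i => Finset.univ.filter (fun j => IsConj j t ∧ Commute i j)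
  let S : Finset (Σ _ : G, G) := invF.sigma ncF
  let T : Finset (Σ _ : G, G) :=
    (Krest A).sigma (fun z => Finset.univ.filter (fun x => x ∈ Subgroup.centralizer ({z} : Set G)))
  let f : (Σ _ : G, G) → (Σ _ : G, G) := fun p => ⟨p.1 * p.2, invOf (p.1 * p.2) * p.1⟩
  -- the existence of an inverting involution
  have hex : ∀ i j : G, orderOf i = 2 → orderOf j = 2 →
      ∃ r : G, orderOf r = 2 ∧ r * (i * j) * r⁻¹ = (i * j)⁻¹ := by
    intro i j hi hj
    refine ⟨i, hi, ?_⟩
    have hii : i⁻¹ = i := invol_inv hi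
    have hji : j⁻¹ = j := invol_inv hj
    have hisq : i * i = 1 := sq_one_of_orderOf_two hi
    rw [mul_inv_rev, hji, ← mul_assoc, hisq, one_mul]
  have hmaps : ∀ p ∈ S, f p ∈ T := by
    intro p hp
    rw [Finset.mem_sigma] at hp ⊢
    obtain ⟨hp1, hp2⟩ := hp
    have hi : orderOf p.1 = 2 := hord _ (Finset.mem_filter.mp hp1).2
    have hj' : IsConj p.2 t ∧ ¬ Commute p.1 p.2 := (Finset.mem_filter.mp hp2).2
    have hj : orderOf p.2 = 2 ∧ ¬ Commute p.1 p.2 := ⟨hord _ hj'.1, hj'.2⟩
    refine ⟨mul_mem_Krest_of_odd hC hab hodd hi hj.1 hj.2, ?_⟩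
    rw [Finset.mem_filter]
    refine ⟨Finset.mem_univ _, ?_⟩
    show invOf (p.1 * p.2) * p.1 ∈ Subgroup.centralizer ({p.1 * p.2} : Set G)
    rw [Subgroup.mem_centralizer_singleton_iff]
    obtain ⟨-, hr⟩ := invOf_spec (hex p.1 p.2 hi hj.1)
    obtain ⟨-, hi'⟩ := (⟨hi, by
      have hii : p.1⁻¹ = p.1 := invol_inv hi
      have hji : p.2⁻¹ = p.2 := invol_inv hj.1
      have hisq : p.1 * p.1 = 1 := sq_one_of_orderOf_two hi
      rw [mul_inv_rev, hji, ← mul_assoc, hisq, one_mul]⟩ :
        orderOf p.1 = 2 ∧ p.1 * (p.1 * p.2) * p.1⁻¹ = (p.1 * p.2)⁻¹)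
    have h1 : (invOf (p.1 * p.2) * p.1) * (p.1 * p.2) * (invOf (p.1 * p.2) * p.1)⁻¹
        = p.1 * p.2 := by
      have : (invOf (p.1 * p.2) * p.1) * (p.1 * p.2) * (invOf (p.1 * p.2) * p.1)⁻¹
          = invOf (p.1 * p.2) * (p.1 * (p.1 * p.2) * p.1⁻¹) * (invOf (p.1 * p.2))⁻¹ := by group
      rw [this, hi']
      have e2 : invOf (p.1 * p.2) * (p.1 * p.2)⁻¹ * (invOf (p.1 * p.2))⁻¹
          = (invOf (p.1 * p.2) * (p.1 * p.2) * (invOf (p.1 * p.2))⁻¹)⁻¹ := by group
      rw [e2, hr, inv_inv]
    calc invOf (p.1 * p.2) * p.1 * (p.1 * p.2)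
        = ((invOf (p.1 * p.2) * p.1) * (p.1 * p.2) * (invOf (p.1 * p.2) * p.1)⁻¹)
          * (invOf (p.1 * p.2) * p.1) := by group
      _ = p.1 * p.2 * (invOf (p.1 * p.2) * p.1) := by rw [h1]
  have hinj : Set.InjOn f S := by
    intro p _ q _ hpq
    have h1 : p.1 * p.2 = q.1 * q.2 := congrArg Sigma.fst hpq
    have h2 : invOf (p.1 * p.2) * p.1 = invOf (q.1 * q.2) * q.1 := by
      have := congrArg Sigma.snd hpq
      exact this
    rw [h1] at h2
    have h3 : p.1 = q.1 := mul_left_cancel h2
    have h4 : p.2 = q.2 := by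
      rw [h3] at h1
      exact mul_left_cancel h1
    cases p
    cases q
    simp only at h3 h4
    rw [h3, h4]
  have hle : S.card ≤ T.card := Finset.card_le_card_of_injOn f hmaps hinj
  have hT : T.card = ∑ z ∈ Krest A, Nat.card (Subgroup.centralizer ({z} : Set G)) := by
    rw [Finset.card_sigma]
    refine Finset.sum_congr rfl (fun z _ => ?_)
    rw [Nat.card_eq_fintype_card, Fintype.card_subtype]
  have hinvF : invF.card = A.index := by
    rw [← cent_eq_of_mem hC hab htA ht1, ← Helper74.card_isConj_eq_index t,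
      Nat.card_eq_fintype_card, Fintype.card_subtype]
  have hcF : ∀ i ∈ invF, (cF i).card = caE A := by
    intro i hi
    have hi2 : IsConj i t := (Finset.mem_filter.mp hi).2
    rw [← card_conj_commute hC hab htA ht1 hi2, Nat.card_eq_fintype_card, Fintype.card_subtype]
  have hncF : ∀ i ∈ invF, (ncF i).card = A.index - caE A := by
    intro i hi
    have h1 : ncF i = invF \ cF i := by
      ext j
      simp only [ncF, invF, cF, Finset.mem_filter, Finset.mem_univ, true_and, Finset.mem_sdiff]
      tauto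
    have h2 : cF i ⊆ invF := by
      intro j hj
      simp only [invF, cF, Finset.mem_filter, Finset.mem_univ, true_and] at hj ⊢
      exact hj.1
    rw [h1, Finset.card_sdiff_of_subset h2, hinvF, hcF i hi]
  have hS : S.card = A.index * (A.index - caE A) := by
    rw [Finset.card_sigma, Finset.sum_congr rfl hncF, Finset.sum_const, hinvF, smul_eq_mul]
  have h1 : A.index = (Subgroup.normalizer (A : Set G)).index * caE A := by
    unfold caE
    have := Subgroup.relIndex_mul_index (Subgroup.le_normalizer (H := A))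
    show A.index = (Subgroup.normalizer (A : Set G)).index
      * A.relIndex (Subgroup.normalizer (A : Set G))
    rw [mul_comm]
    exact this.symm
  have h2 : Nat.card G = A.index * Nat.card A := by
    rw [mul_comm]; exact (Subgroup.card_mul_index A).symm
  rw [← hT]
  refine le_trans (le_of_eq ?_) hle
  rw [hS, h2, h1, hidx]
  have h3 : (Nat.card A + 1) * caE A - caE A = Nat.card A * caE A := by
    rw [add_mul, one_mul, Nat.add_sub_cancel]
  rw [h3]
  ring

end Count

end Cfsg.Agent.Helper95.CT
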