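import Mathlib
import Cfsg.Prelude.Def_LieExceptional
import Cfsg.Agent.Helper61.Zassenhaus
import Cfsg.Agent.Helper95.CTCount
import Cfsg.Agent.Helper95.CTChar6

/-!
# Zassenhaus groups whose kernel is an abelian 2-group (helper95)

`G` a Zassenhaus group on `Ω`, `U ≤ G_a` normal in `G_a`, regular on `Ω \ {a}`, an abelian 2-group.
Then `C(u) ≤ U` for `u ∈ U \ {1}`, `N(U) = G_a` has index `|U| + 1`, `|G_a : U|` is odd, and if
`G` is simple the exceptional character theory (`CTChar.ct_char_false`) shows that `U` has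
exponent two.
-/

set_option autoImplicit false
set_option linter.unusedSectionVars false
set_option linter.style.haveILetI false

namespace Cfsg.Agent.Helper95.ZassEven

open Cfsg MulAction Cfsg.Agent.Helper75

universe u w

section Setup

variable {G : Type u} {Ω : Type w} [Group G] [MulAction G Ω]
  (hZ : Cfsg.IsZassenhausGroup G Ω) {a : Ω}
  (U : Subgroup G) (hUle : U ≤ MulAction.stabilizer G a)
  (hUn : ∀ h ∈ MulAction.stabilizer G a, ∀ u ∈ U, h * u * h⁻¹ ∈ U)
  (hreg : ∀ c d : Ω, c ≠ a → d ≠ a → ∃! u : U, (u : G) • c = d)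
  (hUab : ∀ u ∈ U, ∀ u' ∈ U, u * u' = u' * u)

include hreg in
/-- A non-identity element of `U` fixes only `a`. -/
theorem eq_of_fix {k : G} (hk : k ∈ U) (hk1 : k ≠ 1) {c : Ω} (hc : k • c = c) : c = a := by
  by_contra hca
  obtain ⟨x, -, hx⟩ := hreg c c hca hca
  have h1 := hx ⟨k, hk⟩ hc
  have h2 := hx 1 (by simp)
  apply hk1
  have : (⟨k, hk⟩ : U) = 1 := h1.trans h2.symm
  exact congrArg Subtype.val this

include hZ in
/-- Two further points. -/
theorem exists_two [Finite Ω] (a : Ω) : ∃ b c : Ω, b ≠ a ∧ c ≠ a ∧ b ≠ c := by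
  classical
  haveI : Fintype Ω := Fintype.ofFinite Ω
  have h3 := Cfsg.Agent.Helper61.Zassenhaus.three_le_card hZ
  rw [Nat.card_eq_fintype_card] at h3
  have h1 : 1 < (Finset.univ.erase a).card := by
    rw [Finset.card_erase_of_mem (Finset.mem_univ a), Finset.card_univ]
    omega
  obtain ⟨b, hb, c, hc, hbc⟩ := Finset.one_lt_card.mp h1
  exact ⟨b, c, (Finset.mem_erase.mp hb).1, (Finset.mem_erase.mp hc).1, hbc⟩

include hZ hreg in
theorem exists_ne_one [Finite Ω] : ∃ k ∈ U, k ≠ 1 := by
  obtain ⟨b, c, hba, hca, hbc⟩ := exists_two hZ a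
  obtain ⟨k, hk, -⟩ := hreg b c hba hca
  refine ⟨k, k.2, ?_⟩
  intro h
  apply hbc
  rw [← hk, h, one_smul]

include hZ hUle hreg hUab in
/-- The centralizer of a non-identity element of `U` lies in `U`. -/
theorem cent_le [Finite Ω] {k : G} (hk : k ∈ U) (hk1 : k ≠ 1) :
    Subgroup.centralizer ({k} : Set G) ≤ U := by
  intro g hg
  rw [Subgroup.mem_centralizer_singleton_iff] at hg
  have h3 := hZ.2.2.1
  have hka : k • a = a := mem_stabilizer_iff.mp (hUle hk)
  have hga : g • a = a := by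
    apply eq_of_fix U hreg hk hk1
    rw [← mul_smul, ← hg, mul_smul, hka]
  obtain ⟨b, c, hba, -, -⟩ := exists_two hZ a
  have hgb : g • b ≠ a := by
    intro h
    apply hba
    have : g • b = g • a := h.trans hga.symm
    exact MulAction.injective g this
  obtain ⟨u', hu', -⟩ := hreg b (g • b) hba hgb
  have hu'a : (u' : G) • a = a := mem_stabilizer_iff.mp (hUle u'.2)
  have hfix_a : ((u' : G)⁻¹ * g) • a = a := by
    rw [mul_smul, hga, inv_smul_eq_iff, hu'a]
  have hfix_b : ((u' : G)⁻¹ * g) • b = b := by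
    rw [mul_smul, inv_smul_eq_iff]; exact hu'.symm
  have hcomm : ((u' : G)⁻¹ * g) * k = k * ((u' : G)⁻¹ * g) := by
    have h1 : (u' : G) * k = k * (u' : G) := hUab _ u'.2 k hk
    have h2 : (u' : G)⁻¹ * k = k * (u' : G)⁻¹ := by
      calc (u' : G)⁻¹ * k = (u' : G)⁻¹ * (k * (u' : G)) * (u' : G)⁻¹ := by group
        _ = (u' : G)⁻¹ * ((u' : G) * k) * (u' : G)⁻¹ := by rw [h1]
        _ = k * (u' : G)⁻¹ := by group
    calc (u' : G)⁻¹ * g * k = (u' : G)⁻¹ * (g * k) := by group
      _ = (u' : G)⁻¹ * (k * g) := by rw [hg]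
      _ = ((u' : G)⁻¹ * k) * g := by group
      _ = (k * (u' : G)⁻¹) * g := by rw [h2]
      _ = k * ((u' : G)⁻¹ * g) := by group
  have hkb_ne_b : k • b ≠ b := fun h => hba (eq_of_fix U hreg hk hk1 h)
  have hkb_ne_a : k • b ≠ a := by
    intro h
    apply hba
    have : k • b = k • a := h.trans hka.symm
    exact MulAction.injective k this
  have hfix_kb : ((u' : G)⁻¹ * g) • (k • b) = k • b := by
    rw [← mul_smul, hcomm, mul_smul, hfix_b]
  have h1 : (u' : G)⁻¹ * g = 1 :=
    h3 _ a b (k • b) (Ne.symm hba) (Ne.symm hkb_ne_b) (Ne.symm hkb_ne_a) hfix_a hfix_b hfix_kb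
  have : g = u' := by
    calc g = (u' : G) * ((u' : G)⁻¹ * g) := by group
      _ = u' := by rw [h1, mul_one]
  rw [this]; exact u'.2

include hZ hUle hUn hreg in
/-- The normalizer of `U` is the point stabilizer. -/
theorem normalizer_eq [Finite Ω] : Subgroup.normalizer (U : Set G) = stabilizer G a := by
  apply le_antisymm
  · intro n hn
    obtain ⟨k, hk, hk1⟩ := exists_ne_one hZ U hreg
    rw [mem_stabilizer_iff]
    have hka : k • a = a := mem_stabilizer_iff.mp (hUle hk)
    have h1 : n * k * n⁻¹ ∈ U := (Subgroup.mem_normalizer_iff.mp hn k).mp hk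
    have h2 : n * k * n⁻¹ ≠ 1 := by
      intro h
      apply hk1
      have : k = n⁻¹ * (n * k * n⁻¹) * n := by group
      rw [this, h]; group
    apply eq_of_fix U hreg h1 h2
    rw [mul_smul, mul_smul, inv_smul_smul, hka]
  · intro n hn
    rw [Subgroup.mem_normalizer_iff]
    intro k
    constructor
    · exact hUn n hn k
    · intro h
      have := hUn n⁻¹ (inv_mem hn) _ h
      have e : n⁻¹ * (n * k * n⁻¹) * n⁻¹⁻¹ = k := by group
      rwa [e] at this

include hZ hUle hreg in
/-- The degree is `|U| + 1`. -/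
theorem card_eq [Finite Ω] : Nat.card Ω = Nat.card U + 1 := by
  classical
  obtain ⟨b, c, hba, -, -⟩ := exists_two hZ a
  let f : U → {c : Ω // c ≠ a} := fun k => ⟨(k : G) • b, by
    intro h
    apply hba
    have hka : (k : G) • a = a := mem_stabilizer_iff.mp (hUle k.2)
    have : (k : G) • b = (k : G) • a := h.trans hka.symm
    exact MulAction.injective (k : G) this⟩
  have hf : Function.Bijective f := by
    constructor
    · intro k₁ k₂ h
      have h' : (k₁ : G) • b = (k₂ : G) • b := congrArg Subtype.val h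
      have hne : (k₂ : G) • b ≠ a := (f k₂).2
      obtain ⟨x, -, hx⟩ := hreg b ((k₂ : G) • b) hba hne
      exact (hx k₁ h').trans (hx k₂ rfl).symm
    · rintro ⟨d, hd⟩
      obtain ⟨k, hk, -⟩ := hreg b d hba hd
      exact ⟨k, Subtype.ext hk⟩
  haveI : Finite {c : Ω // c ≠ a} := Subtype.finite
  rw [← Nat.card_congr (Equiv.optionSubtypeNe a), Finite.card_option,
    Nat.card_congr (Equiv.ofBijective f hf)]

include hZ hUle hUn hreg in
theorem index_normalizer [Finite Ω] :
    (Subgroup.normalizer (U : Set G)).index = Nat.card U + 1 := by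
  rw [normalizer_eq hZ U hUle hUn hreg, ← card_eq hZ U hUle hreg]
  haveI := hZ.2.1
  haveI : IsPretransitive G Ω := isPretransitive_of_is_two_pretransitive
  exact index_stabilizer_of_transitive G a

include hZ hreg in
theorem even_card [Finite Ω] (hU2 : IsPGroup 2 U) : Even (Nat.card U) := by
  rcases hU2.card_eq_or_dvd with h | h
  · exfalso
    obtain ⟨k, hk, hk1⟩ := exists_ne_one hZ U hreg
    have hbot : U = ⊥ := Subgroup.card_eq_one.mp h
    rw [hbot, Subgroup.mem_bot] at hk
    exact hk1 hk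
  · exact even_iff_two_dvd.mpr h

include hZ in
/-- When the degree is odd no involution fixes two points. -/
theorem no_invol_two_fixed [Finite Ω] (hodd : Odd (Nat.card Ω)) {h : G} (h1 : h ≠ 1)
    (h2 : h * h = 1) {c c' : Ω} (hcc : c ≠ c') (hc : h • c = c) (hc' : h • c' = c') : False := by
  classical
  haveI : Fintype Ω := Fintype.ofFinite Ω
  have h3 := hZ.2.2.1
  let σ : Equiv.Perm Ω := MulAction.toPerm h
  have hσ : σ ^ 2 ^ 1 = 1 := by
    rw [pow_one]
    ext x
    show h • (h • x) = x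
    rw [← mul_smul, h2, one_smul]
  haveI : Fact (Nat.Prime 2) := ⟨Nat.prime_two⟩
  have hmod := Equiv.Perm.card_compl_support_modEq hσ
  have hsupp : σ.supportᶜ = {c, c'} := by
    ext x
    rw [Finset.mem_compl, Equiv.Perm.mem_support, not_not, Finset.mem_insert,
      Finset.mem_singleton]
    constructor
    · intro hx
      have hx' : h • x = x := hx
      by_contra hcon
      push Not at hcon
      exact h1 (h3 h c c' x hcc (Ne.symm hcon.2) (Ne.symm hcon.1) hc hc' hx')
    · rintro (rfl | rfl)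
      · exact hc
      · exact hc'
  rw [hsupp, Finset.card_pair hcc, ← Nat.card_eq_fintype_card] at hmod
  have : Nat.card Ω % 2 = 0 := by
    have := hmod.symm
    unfold Nat.ModEq at this
    omega
  rcases hodd with ⟨m, hm⟩
  omega

include hZ hUle hUn hreg in
/-- `|G_a : U|` is odd. -/
theorem odd_caE [Finite G] [Finite Ω] (hU2 : IsPGroup 2 U) : Odd (caE U) := by
  have hcard := card_eq hZ U hUle hreg
  have hev := even_card hZ U hreg hU2
  have hoddΩ : Odd (Nat.card Ω) := by
    rw [hcard]; exact Even.add_one hev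
  by_contra hne
  rw [Nat.not_odd_iff_even, even_iff_two_dvd] at hne
  unfold caE at hne
  have hdvd : 2 ∣ Nat.card (↥(Subgroup.normalizer (U : Set G)) ⧸
      (U.subgroupOf (Subgroup.normalizer (U : Set G)))) := hne
  haveI : Fact (Nat.Prime 2) := ⟨Nat.prime_two⟩
  obtain ⟨q, hq⟩ := exists_prime_orderOf_dvd_card' 2 hdvd
  obtain ⟨x, rfl⟩ := QuotientGroup.mk_surjective q
  have hx1 : (x : G) ∉ U := by
    intro h
    have h' : x ∈ U.subgroupOf (Subgroup.normalizer (U : Set G)) := Subgroup.mem_subgroupOf.mpr h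
    have : (x : ↥(Subgroup.normalizer (U : Set G)) ⧸
      (U.subgroupOf (Subgroup.normalizer (U : Set G)))) = 1 := (QuotientGroup.eq_one_iff x).mpr h'
    rw [this, orderOf_one] at hq
    omega
  have hx2 : (x : G) * (x : G) ∈ U := by
    have h' : x ^ 2 ∈ U.subgroupOf (Subgroup.normalizer (U : Set G)) := by
      rw [← QuotientGroup.eq_one_iff, QuotientGroup.mk_pow, ← hq]
      exact pow_orderOf_eq_one _
    have := Subgroup.mem_subgroupOf.mp h'
    rw [Subgroup.coe_pow, pow_two] at this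
    exact this
  have hxN : (x : G) ∈ stabilizer G a := by
    rw [← normalizer_eq hZ U hUle hUn hreg]; exact x.2
  have hxa : (x : G) • a = a := mem_stabilizer_iff.mp hxN
  obtain ⟨b, c, hba, -, -⟩ := exists_two hZ a
  have hxb : (x : G) • b ≠ a := by
    intro h
    apply hba
    have : (x : G) • b = (x : G) • a := h.trans hxa.symm
    exact MulAction.injective (x : G) this
  obtain ⟨u', hu', -⟩ := hreg b ((x : G) • b) hba hxb
  have hu'a : (u' : G) • a = a := mem_stabilizer_iff.mp (hUle u'.2)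
  have hfix_a : ((u' : G)⁻¹ * (x : G)) • a = a := by
    rw [mul_smul, hxa, inv_smul_eq_iff, hu'a]
  have hfix_b : ((u' : G)⁻¹ * (x : G)) • b = b := by
    rw [mul_smul, inv_smul_eq_iff]; exact hu'.symm
  have hnotU : (u' : G)⁻¹ * (x : G) ∉ U := by
    intro h
    apply hx1
    have : (x : G) = (u' : G) * ((u' : G)⁻¹ * (x : G)) := by group
    rw [this]
    exact U.mul_mem u'.2 h
  have hsqU : ((u' : G)⁻¹ * (x : G)) * ((u' : G)⁻¹ * (x : G)) ∈ U := by
    have e : ((u' : G)⁻¹ * (x : G)) * ((u' : G)⁻¹ * (x : G))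
        = (u' : G)⁻¹ * ((x : G) * (u' : G)⁻¹ * (x : G)⁻¹) * ((x : G) * (x : G)) := by group
    rw [e]
    exact U.mul_mem (U.mul_mem (U.inv_mem u'.2) (hUn _ hxN _ (U.inv_mem u'.2))) hx2
  have hsq1 : ((u' : G)⁻¹ * (x : G)) * ((u' : G)⁻¹ * (x : G)) = 1 := by
    by_contra hne1
    apply hba
    apply eq_of_fix U hreg hsqU hne1
    rw [mul_smul, hfix_b, hfix_b]
  have hne1 : (u' : G)⁻¹ * (x : G) ≠ 1 := by
    intro h
    apply hnotU
    rw [h]; exact U.one_mem
  exact no_invol_two_fixed hZ hoddΩ hne1 hsq1 (Ne.symm hba) hfix_a hfix_b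

end Setup

section Main

variable {G : Type u} {Ω : Type w} [Group G] [MulAction G Ω]

/-- In a simple Zassenhaus group whose kernel `U` is an abelian 2-group, `U` has exponent two. -/
theorem exponent_two [Finite G] [Finite Ω] [IsSimpleGroup G]
    (hZ : Cfsg.IsZassenhausGroup G Ω) {a : Ω}
    (U : Subgroup G) (hUle : U ≤ MulAction.stabilizer G a)
    (hUn : ∀ h ∈ MulAction.stabilizer G a, ∀ u ∈ U, h * u * h⁻¹ ∈ U)
    (hreg : ∀ c d : Ω, c ≠ a → d ≠ a → ∃! u : U, (u : G) • c = d)
    (hU2 : IsPGroup 2 U) (hUab : ∀ u ∈ U, ∀ u' ∈ U, u * u' = u' * u) :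
    ∀ k ∈ U, k * k = 1 := by
  classical
  haveI : Fintype G := Fintype.ofFinite G
  by_contra hcon
  push Not at hcon
  obtain ⟨k₀, hk₀, hk₀2⟩ := hcon
  have hC : ∀ k ∈ U, k ≠ 1 → Subgroup.centralizer ({k} : Set G) ≤ U :=
    fun k hk hk1 => cent_le hZ U hUle hreg hUab hk hk1
  have hidx := index_normalizer hZ U hUle hUn hreg
  have hev := even_card hZ U hreg hU2
  have hodd := odd_caE hZ U hUle hUn hreg hU2
  -- an involution of `U`
  haveI : Fact (Nat.Prime 2) := ⟨Nat.prime_two⟩
  obtain ⟨t', ht'⟩ := exists_prime_orderOf_dvd_card' 2 (even_iff_two_dvd.mp hev)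
  have ht : orderOf (t' : G) = 2 := by
    rw [← ht']; exact Subgroup.orderOf_coe t'
  have hcls := CT.hcls_of_invol hC hUab hodd t'.2 ht hidx
  -- the subgroup of the elements of square one
  let W : Subgroup G :=
    { carrier := {x | x ∈ U ∧ x * x = 1}
      mul_mem' := by
        rintro x y ⟨hx, hx2⟩ ⟨hy, hy2⟩
        refine ⟨U.mul_mem hx hy, ?_⟩
        have hxy : x * y = y * x := hUab x hx y hy
        calc x * y * (x * y) = x * (y * x) * y := by group
          _ = x * (x * y) * y := by rw [hxy]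
          _ = (x * x) * (y * y) := by group
          _ = 1 := by rw [hx2, hy2, one_mul]
      one_mem' := ⟨U.one_mem, one_mul 1⟩
      inv_mem' := by
        rintro x ⟨hx, hx2⟩
        refine ⟨U.inv_mem hx, ?_⟩
        calc x⁻¹ * x⁻¹ = (x * x)⁻¹ := by group
          _ = 1 := by rw [hx2, inv_one] }
  have hWU : W < U := by
    refine lt_of_le_of_ne (fun x hx => hx.1) ?_
    intro h
    have : k₀ ∈ W := by rw [h]; exact hk₀
    exact hk₀2 this.2
  have hW1 : W ≠ ⊥ := by
    intro h
    have htW : (t' : G) ∈ W := by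
      refine ⟨t'.2, ?_⟩
      have := pow_orderOf_eq_one (t' : G)
      rw [ht, pow_two] at this
      exact this
    rw [h, Subgroup.mem_bot] at htW
    rw [htW, orderOf_one] at ht
    omega
  have hWN : ∀ n ∈ Subgroup.normalizer (U : Set G), ∀ x ∈ W, n * x * n⁻¹ ∈ W := by
    rintro n hn x ⟨hx, hx2⟩
    refine ⟨(Subgroup.mem_normalizer_iff.mp hn x).mp hx, ?_⟩
    calc n * x * n⁻¹ * (n * x * n⁻¹) = n * (x * x) * n⁻¹ := by group
      _ = 1 := by rw [hx2]; group
  haveI : Fintype ↥(Subgroup.normalizer (U : Set G)) := Fintype.ofFinite _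
  exact CTChar.ct_char_false U hC hUab hidx hev hodd hcls W hWU hW1 hWN

end Main

end Cfsg.Agent.Helper95.ZassEven
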