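import Mathlib
import Cfsg.Prelude.Def_LieExceptional
import Cfsg.Agent.S0738
import Cfsg.Agent.S0741
import Cfsg.Agent.Helper60.Zass2Trans
import Cfsg.Agent.Helper61.Zassenhaus
import Cfsg.Agent.Helper95.ZassEven

/-!
# The degree of a Zassenhaus group is a prime power plus one, given Feit's inequality (helper95)

Assembly: for a two-point stabiliser of even order, S0741 gives `n - 1 ≤ 2 d` and S0738 applies;
for odd order Feit's inequality (taken as a hypothesis here, it is S0885) gives `n - 1 ≤ 2 d`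
again, or the kernel is a (non-abelian) 2-group.
-/

set_option autoImplicit false
set_option linter.unusedSectionVars false
set_option linter.style.haveILetI false

namespace Cfsg.Agent.Helper95.ZassDegree

open Cfsg MulAction

universe u v

variable {G : Type u} {Ω : Type v} [Group G] [MulAction G Ω]

/-- The Frobenius kernel of a point stabiliser of a Zassenhaus group, packaged for S0738/S0885. -/
theorem exists_kernel [Finite G] [Fintype Ω] (hZ : Cfsg.IsZassenhausGroup G Ω) :
    ∃ (a b : Ω) (K : Subgroup G), a ≠ b ∧ K ≤ stabilizer G a ∧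
      (K.subgroupOf (stabilizer G a)).Normal ∧
      (∀ y z : Ω, y ≠ a → z ≠ a → ∃! u : K, (u : G) • y = z) ∧
      (∀ u ∈ K, u ≠ 1 → ∀ c : Ω, u • c = c → c = a) ∧
      Nat.card K + 1 = Fintype.card Ω := by
  classical
  have h3c := Cfsg.Agent.Helper61.Zassenhaus.three_le_card hZ
  obtain ⟨hf, h2, h3f, ⟨g, hg1, a, b, hab, hga, hgb⟩, -⟩ := id hZ
  obtain ⟨K, hK1, hK2, hK3, hK4⟩ :=
    Cfsg.Agent.Helper60.Zass2Trans.exists_kernel_of_two_trans h2 h3f hab h3c hg1 hga hgb
  have hreg : ∀ y z : Ω, y ≠ a → z ≠ a → ∃! u : K, (u : G) • y = z := by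
    intro y z hy hz
    obtain ⟨k, hk, hkyz⟩ := hK4 y z hy hz
    refine ⟨⟨k, hk⟩, hkyz, ?_⟩
    intro k' hk'
    have h1 : ((k : G)⁻¹ * (k' : G)) • y = y := by
      rw [mul_smul, hk', ← hkyz, inv_smul_smul]
    have h2' := hK3 _ (K.mul_mem (K.inv_mem hk) k'.2) y hy h1
    apply Subtype.ext
    show (k' : G) = k
    have : (k' : G) = k * (k⁻¹ * (k' : G)) := by group
    rw [this, h2', mul_one]
  refine ⟨a, b, K, hab, hK1, ?_, hreg, ?_, ?_⟩
  · constructor
    intro n hn g
    rw [Subgroup.mem_subgroupOf] at hn ⊢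
    exact hK2 g.1 g.2 n.1 hn
  · intro u hu hu1 c hc
    by_contra hca
    exact hu1 (hK3 u hu c hca hc)
  · have := Cfsg.Agent.Helper95.ZassEven.card_eq hZ K hK1 hreg
    rw [Nat.card_eq_fintype_card] at this
    omega

/-- The degree of a Zassenhaus group is one more than a prime power, given Feit's inequality for
odd two-point stabilisers. -/
theorem isPrimePow_of_feit [Finite G] [Fintype Ω] (hZ : Cfsg.IsZassenhausGroup G Ω)
    (hfeit : ∀ {a b : Ω} (_ : a ≠ b) (h e : ℕ) (_ : Fintype.card Ω = h + 1)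
      (_ : Nat.card ↥(stabilizer G a ⊓ stabilizer G b : Subgroup G) = e) (_ : Odd e)
      (H : Subgroup G) (_ : H ≤ stabilizer G a) (_ : Nat.card H + 1 = Fintype.card Ω)
      (_ : ∀ u ∈ H, u ≠ 1 → ∀ c : Ω, u • c = c → c = a),
      h - 1 ≤ 2 * e ∨ (IsPGroup 2 H ∧ (∃ u v : H, u * v ≠ v * u) ∧
        (commutator H).index ≤ 4 * e ^ 2 + 1)) :
    IsPrimePow (Fintype.card Ω - 1) := by
  classical
  have h3c := Cfsg.Agent.Helper61.Zassenhaus.three_le_card hZ
  rw [Nat.card_eq_fintype_card] at h3c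
  obtain ⟨a, b, K, hab, hK1, hKn, hreg, hfix, hcard⟩ := exists_kernel hZ
  -- the conclusion from the inequality
  have key : Fintype.card Ω - 2 ≤ 2 * Nat.card ↥(stabilizer G a ⊓ stabilizer G b) →
      IsPrimePow (Fintype.card Ω - 1) := by
    intro hd
    obtain ⟨-, p, f, hp, -, hpf⟩ := Cfsg.Agent.S0738.result hZ hab hd K hK1 hKn hreg
    rw [hpf, Nat.add_sub_cancel]
    have hf0 : f ≠ 0 := by
      rintro rfl
      rw [pow_zero] at hpf
      omega
    exact hp.isPrimePow.pow hf0
  rcases Nat.even_or_odd (Nat.card ↥(stabilizer G a ⊓ stabilizer G b)) with heven | hodd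
  · exact key (Cfsg.Agent.S0741.result hZ hab heven)
  · rcases hfeit hab (Fintype.card Ω - 1) _ (by omega) rfl hodd K hK1 hcard hfix with h | h
    · apply key
      omega
    · obtain ⟨hp, ⟨u, v, huv⟩, -⟩ := h
      obtain ⟨n, hn⟩ := hp.exists_card_eq
      have hn0 : n ≠ 0 := by
        rintro rfl
        rw [pow_zero] at hn
        haveI : Subsingleton K := (Nat.card_eq_one_iff_unique.mp hn).1
        exact huv (Subsingleton.elim _ _)
      have : Fintype.card Ω - 1 = 2 ^ n := by omega
      rw [this]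
      exact Nat.prime_two.isPrimePow.pow hn0

end Cfsg.Agent.Helper95.ZassDegree
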