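import Mathlib
import Cfsg.Prelude.Def_LieExceptional
import Cfsg.Agent.Helper15.ZassKernel
import Cfsg.Agent.Helper61.Zassenhaus
import Cfsg.Agent.Helper95.ZassDegree

/-!
# Normal subgroups of Zassenhaus groups contain the Frobenius kernel (helper95)

* `exists_kernel_at`: the Frobenius kernel of the stabiliser of a given point.
* `kernel_le_of_normal`: a non-trivial normal subgroup contains the kernel `H` of `G_a`.
* `kernel_conj_mem`: `G_a` normalises `H`.
* `exists_simple_normal`: the normal closure of `H` is a simple Zassenhaus group on the same set.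
* `card_stab2_dvd`: two-point stabilisers of a subgroup divide those of the group.
-/

set_option autoImplicit false
set_option linter.unusedSectionVars false
set_option linter.style.haveILetI false

namespace Cfsg.Agent.Helper95.ZassNormal

open Cfsg MulAction

universe u v

variable {G : Type u} {Ω : Type v} [Group G] [MulAction G Ω]

/-- The Frobenius kernel of the stabiliser of a given point of a Zassenhaus group. -/
theorem exists_kernel_at [Finite G] [Fintype Ω] (hZ : Cfsg.IsZassenhausGroup G Ω) (a : Ω) :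
    ∃ (b : Ω) (K : Subgroup G), a ≠ b ∧ K ≤ stabilizer G a ∧
      (K.subgroupOf (stabilizer G a)).Normal ∧
      (∀ y z : Ω, y ≠ a → z ≠ a → ∃! u : K, (u : G) • y = z) ∧
      (∀ u ∈ K, u ≠ 1 → ∀ c : Ω, u • c = c → c = a) ∧
      Nat.card K + 1 = Fintype.card Ω := by
  classical
  have h3c := Cfsg.Agent.Helper61.Zassenhaus.three_le_card hZ
  obtain ⟨hf, h2, h3f, ⟨g, hg1, a₀, b₀, hab₀, hga, hgb⟩, -⟩ := id hZ
  haveI : IsPretransitive G Ω := isPretransitive_of_is_two_pretransitive
  obtain ⟨x, hx⟩ := exists_smul_eq G a₀ a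
  have hab : a ≠ x • b₀ := by
    rw [← hx]
    intro h
    exact hab₀ (smul_left_cancel x h)
  have hg1' : x * g * x⁻¹ ≠ 1 := by
    intro h
    apply hg1
    have : g = x⁻¹ * (x * g * x⁻¹) * x := by group
    rw [this, h]; group
  have hga' : (x * g * x⁻¹) • a = a := by
    rw [mul_smul, mul_smul, ← hx, inv_smul_smul, hga]
  have hgb' : (x * g * x⁻¹) • (x • b₀) = x • b₀ := by
    rw [mul_smul, mul_smul, inv_smul_smul, hgb]
  obtain ⟨K, hK1, hK2, hK3, hK4⟩ :=
    Cfsg.Agent.Helper60.Zass2Trans.exists_kernel_of_two_trans h2 h3f hab h3c hg1' hga' hgb'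
  have hreg : ∀ y z : Ω, y ≠ a → z ≠ a → ∃! u : K, (u : G) • y = z := by
    intro y z hy hz
    obtain ⟨k, hk, hkyz⟩ := hK4 y z hy hz
    refine ⟨⟨k, hk⟩, hkyz, ?_⟩
    intro k' hk'
    have h1 : ((k : G)⁻¹ * (k' : G)) • y = y := by
      rw [mul_smul, hk', ← hkyz, inv_smul_smul]
    have h2' := hK3 _ (K.mul_mem (K.inv_mem hk) k'.2) y hy h1
    apply Subtype.ext
    show (k' : G) = k
    have : (k' : G) = k * (k⁻¹ * (k' : G)) := by group
    rw [this, h2', mul_one]
  refine ⟨x • b₀, K, hab, hK1, ?_, hreg, ?_, ?_⟩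
  · constructor
    intro n hn g
    rw [Subgroup.mem_subgroupOf] at hn ⊢
    exact hK2 g.1 g.2 n.1 hn
  · intro u hu hu1 c hc
    by_contra hca
    exact hu1 (hK3 u hu c hca hc)
  · have := Cfsg.Agent.Helper95.ZassEven.card_eq hZ K hK1 hreg
    rw [Nat.card_eq_fintype_card] at this
    omega

section Kernel

variable [Finite G] [Fintype Ω] (hZ : Cfsg.IsZassenhausGroup G Ω) {a : Ω}
  (H : Subgroup G) (hHa : H ≤ stabilizer G a) (hHcard : Nat.card H + 1 = Fintype.card Ω)
  (hHfix : ∀ u ∈ H, u ≠ 1 → ∀ c : Ω, u • c = c → c = a)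

include hZ hHa hHcard hHfix in
/-- The point stabiliser normalises the kernel. -/
theorem kernel_conj_mem {s : G} (hs : s • a = a) {k : G} (hk : k ∈ H) : s * k * s⁻¹ ∈ H := by
  by_cases hk1 : k = 1
  · rw [hk1]
    have : s * 1 * s⁻¹ = 1 := by group
    rw [this]
    exact H.one_mem
  · have hka : k • a = a := mem_stabilizer_iff.mp (hHa hk)
    apply Cfsg.Agent.Helper15.Zass.mem_kernel_of_fix_only hZ a H hHa hHcard hHfix
    · rw [mul_smul, mul_smul, inv_smul_eq_iff.mpr hs.symm, hka, hs]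
    · intro c hc
      have h1 : k • (s⁻¹ • c) = s⁻¹ • c := by
        rw [mul_smul, mul_smul] at hc
        exact (smul_eq_iff_eq_inv_smul s).mp hc
      have h2 := hHfix k hk hk1 _ h1
      rw [inv_smul_eq_iff, hs] at h2
      exact h2

include hZ hHa hHcard hHfix in
/-- A non-trivial normal subgroup of a Zassenhaus group contains the Frobenius kernel of every
point stabiliser. -/
theorem kernel_le_of_normal (N : Subgroup G) [hNn : N.Normal] (hN : N ≠ ⊥) : H ≤ N := by
  classical
  have hZN : Cfsg.IsZassenhausGroup N Ω :=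
    Cfsg.Agent.Helper61.Zassenhaus.isZassenhausGroup_of_normal hZ N hN
  obtain ⟨b, K, hab, hK1, -, -, hKfix, hKcard⟩ := exists_kernel_at hZN a
  -- the image of `K` in `G` lies in `H`
  have hle : K.map N.subtype ≤ H := by
    rintro _ ⟨k, hk, rfl⟩
    by_cases hk1 : k = 1
    · rw [hk1, map_one]; exact H.one_mem
    · have hka : (k : G) • a = a := mem_stabilizer_iff.mp (hK1 hk)
      apply Cfsg.Agent.Helper15.Zass.mem_kernel_of_fix_only hZ a H hHa hHcard hHfix hka
      intro c hc
      exact hKfix k hk hk1 c hc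
  have hcard : Nat.card (K.map N.subtype) = Nat.card H := by
    rw [Subgroup.card_map_of_injective N.subtype_injective]
    omega
  have heq : K.map N.subtype = H := Subgroup.eq_of_le_of_card_ge hle (le_of_eq hcard.symm)
  rw [← heq]
  rintro _ ⟨k, -, rfl⟩
  exact k.2

end Kernel

/-- Two-point stabilisers of a subgroup have order dividing those of the group. -/
theorem card_stab2_dvd [Finite G] (N : Subgroup G) (a b : Ω) :
    Nat.card ↥(stabilizer N a ⊓ stabilizer N b : Subgroup N) ∣
      Nat.card ↥(stabilizer G a ⊓ stabilizer G b : Subgroup G) := by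
  have hle : (stabilizer N a ⊓ stabilizer N b : Subgroup N).map N.subtype ≤
      stabilizer G a ⊓ stabilizer G b := by
    rintro _ ⟨k, hk, rfl⟩
    rw [SetLike.mem_coe, Subgroup.mem_inf] at hk
    rw [Subgroup.mem_inf]
    exact ⟨mem_stabilizer_iff.mpr (mem_stabilizer_iff.mp hk.1),
      mem_stabilizer_iff.mpr (mem_stabilizer_iff.mp hk.2)⟩
  have := Subgroup.card_dvd_of_le hle
  rwa [Subgroup.card_map_of_injective N.subtype_injective] at this

/-- The normal closure of the Frobenius kernel `H` of a point stabiliser of a Zassenhaus group is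
a simple Zassenhaus group on the same set. -/
theorem exists_simple_normal [Finite G] [Fintype Ω] (hZ : Cfsg.IsZassenhausGroup G Ω) {a : Ω}
    (H : Subgroup G) (hHa : H ≤ stabilizer G a) (hHcard : Nat.card H + 1 = Fintype.card Ω)
    (hHfix : ∀ u ∈ H, u ≠ 1 → ∀ c : Ω, u • c = c → c = a) :
    ∃ N : Subgroup G, N.Normal ∧ N ≠ ⊥ ∧ H ≤ N ∧ Cfsg.IsZassenhausGroup N Ω ∧
      IsSimpleGroup N := by
  classical
  have h3c := Cfsg.Agent.Helper61.Zassenhaus.three_le_card hZ
  rw [Nat.card_eq_fintype_card] at h3c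
  let N : Subgroup G := Subgroup.normalClosure (H : Set G)
  haveI hNn : N.Normal := Subgroup.normalClosure_normal
  have hHN : H ≤ N := Subgroup.le_normalClosure
  have hHne : H ≠ ⊥ := by
    intro h
    rw [h, Subgroup.card_bot] at hHcard
    omega
  have hN : N ≠ ⊥ := by
    intro h
    apply hHne
    rw [eq_bot_iff, ← h]
    exact hHN
  have hZN : Cfsg.IsZassenhausGroup N Ω :=
    Cfsg.Agent.Helper61.Zassenhaus.isZassenhausGroup_of_normal hZ N hN
  refine ⟨N, hNn, hN, hHN, hZN, ?_⟩
  haveI : Nontrivial N := (Subgroup.nontrivial_iff_ne_bot N).mpr hN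
  refine ⟨fun M hM => ?_⟩
  by_cases hMb : M = ⊥
  · exact Or.inl hMb
  right
  -- the kernel of `N` at `a`
  have hHa' : H.subgroupOf N ≤ stabilizer N a := by
    intro k hk
    rw [Subgroup.mem_subgroupOf] at hk
    exact mem_stabilizer_iff.mpr (mem_stabilizer_iff.mp (hHa hk))
  have hHcard' : Nat.card (H.subgroupOf N) + 1 = Fintype.card Ω := by
    rw [Nat.card_congr (Subgroup.subgroupOfEquivOfLe hHN).toEquiv]
    exact hHcard
  have hHfix' : ∀ u ∈ H.subgroupOf N, u ≠ 1 → ∀ c : Ω, u • c = c → c = a := by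
    intro u hu hu1 c hc
    rw [Subgroup.mem_subgroupOf] at hu
    exact hHfix u hu (fun h => hu1 (Subtype.ext h)) c hc
  have hHM : H.subgroupOf N ≤ M :=
    kernel_le_of_normal hZN (H.subgroupOf N) hHa' hHcard' hHfix' M hMb
  -- every conjugate of `H` lies in the image of `M`
  have htrN := Cfsg.Agent.Helper61.Zassenhaus.trans_of_normal hZ N hN
  have hle : N ≤ M.map N.subtype := by
    apply (Subgroup.closure_le _).mpr
    intro y hy
    rw [Group.mem_conjugatesOfSet_iff] at hy
    obtain ⟨k, hk, hky⟩ := hy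
    rw [isConj_iff] at hky
    obtain ⟨g, rfl⟩ := hky
    obtain ⟨n, hn, hna⟩ := htrN a (g • a)
    have hs : (n⁻¹ * g) • a = a := by
      rw [mul_smul, inv_smul_eq_iff, hna]
    have hk' : (n⁻¹ * g) * k * (n⁻¹ * g)⁻¹ ∈ H :=
      kernel_conj_mem hZ H hHa hHcard hHfix hs hk
    have hkM : (⟨(n⁻¹ * g) * k * (n⁻¹ * g)⁻¹, hHN hk'⟩ : N) ∈ M :=
      hHM (Subgroup.mem_subgroupOf.mpr hk')
    have hconj := hM.conj_mem _ hkM ⟨n, hn⟩
    refine ⟨_, hconj, ?_⟩
    show n * ((n⁻¹ * g) * k * (n⁻¹ * g)⁻¹) * n⁻¹ = g * k * g⁻¹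
    group
  rw [eq_top_iff]
  intro x _
  obtain ⟨m, hm, hmx⟩ := hle x.2
  have : m = x := Subtype.ext hmx
  rw [← this]
  exact hm

end Cfsg.Agent.Helper95.ZassNormal
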