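import Mathlib
import Cfsg.Agent.Helper24.ZasOdd
import Cfsg.Agent.Helper24.ZasGrpE
import Cfsg.Agent.Helper52.PerfectCore
import Cfsg.Agent.Helper56.SL25Q
import Cfsg.Agent.S0253
import Cfsg.Agent.S2119

/-!
# Non-solvable Frobenius complements, part 1: facts on `SL(2,5)`, the perfect core, and the
bound `|G : L C_G(L)| ≤ 2` for a normal subgroup `L ≅ SL(2,5)`.
-/

set_option autoImplicit false

namespace Cfsg.Agent.Helper95.FrobCompl

open Subgroup

abbrev SL5 := Matrix.SpecialLinearGroup (Fin 2) (ZMod 5)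

abbrev PSL5 := Matrix.ProjectiveSpecialLinearGroup (Fin 2) (ZMod 5)

/-! ### Facts on `SL(2,5)` -/

instance fact_prime_five_h95 : Fact (Nat.Prime 5) := ⟨by norm_num⟩

theorem card_SL5 : Nat.card SL5 = 120 := Cfsg.Agent.Helper56.SL25Q.card_SL5

theorem card_PSL5 : Nat.card PSL5 = 60 := by
  obtain ⟨e⟩ := Cfsg.Agent.S0253.result (F := ZMod 5) (by simp)
  rw [Nat.card_congr e.toEquiv]
  exact Cfsg.Agent.Helper24.Zas.card_A5

theorem card_center_SL5 : Nat.card (center SL5) = 2 := by
  have h1 := Subgroup.card_eq_card_quotient_mul_card_subgroup (center SL5)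
  have h2 : Nat.card (SL5 ⧸ center SL5) = 60 := card_PSL5
  rw [card_SL5, h2] at h1
  omega

theorem card_mulAut_PSL5 : Nat.card (MulAut PSL5) = 120 := by
  obtain ⟨e⟩ := Cfsg.Agent.S0253.result (F := ZMod 5) (by simp)
  rw [Nat.card_congr (MulAut.congr e).toEquiv]
  let χ : Equiv.Perm (Fin 5) ≃* MulAut ↥(alternatingGroup (Fin 5)) :=
    MulEquiv.ofBijective MulAut.conjNormal
      (Cfsg.Agent.S2119.result 5 (by norm_num) (by norm_num))
  rw [← Nat.card_congr χ.toEquiv, Nat.card_eq_fintype_card, Fintype.card_perm, Fintype.card_fin]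
  rfl

/-- An element of order `4` of `SL(2,5)`. -/
def iMat : SL5 := ⟨!![0, -1; 1, 0], by simp [Matrix.det_fin_two]⟩

/-- An element not commuting with `iMat`. -/
def jMat : SL5 := ⟨!![1, 1; 0, 1], by simp [Matrix.det_fin_two]⟩

theorem iMat_sq_ne_one : iMat ^ 2 ≠ 1 := by
  intro h
  have h' := congrArg (fun A : SL5 => (A : Matrix (Fin 2) (Fin 2) (ZMod 5))) h
  simp only [Matrix.SpecialLinearGroup.coe_pow, Matrix.SpecialLinearGroup.coe_one, pow_two] at h'
  have := congrFun (congrFun h' 0) 0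
  simp [iMat, Matrix.mul_apply, Fin.sum_univ_two] at this
  revert this
  decide

theorem iMat_pow_four : iMat ^ 4 = 1 := by
  apply Subtype.ext
  simp only [Matrix.SpecialLinearGroup.coe_pow, Matrix.SpecialLinearGroup.coe_one]
  ext a b
  fin_cases a <;> fin_cases b <;>
    simp [iMat, pow_succ, Matrix.mul_apply, Fin.sum_univ_two]

theorem iMat_not_comm : iMat * jMat ≠ jMat * iMat := by
  intro h
  have h' := congrArg (fun A : SL5 => (A : Matrix (Fin 2) (Fin 2) (ZMod 5))) h
  simp only [Matrix.SpecialLinearGroup.coe_mul] at h'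
  have := congrFun (congrFun h' 0) 0
  simp [iMat, jMat, Matrix.mul_apply, Fin.sum_univ_two] at this

end Cfsg.Agent.Helper95.FrobCompl
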