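import Mathlib
import Cfsg.Agent.Helper95.FrobCompl1

/-!
# Non-solvable Frobenius complements, part 2: the perfect normal core and the bound
`|G : L C_G(L)| ≤ 2` for a perfect normal subgroup `L ≅ SL(2,5)`.
-/

set_option autoImplicit false

namespace Cfsg.Agent.Helper95.FrobCompl

open Subgroup
open scoped commutatorElement

/-- A finite non-solvable group has a nontrivial perfect *normal* subgroup. -/
theorem exists_normal_perfect {A : Type*} [Group A] [Finite A] (h : ¬ Group.IsSolvable A) :
    ∃ P : Subgroup A, P.Normal ∧ P ≠ ⊥ ∧ ⁅P, P⁆ = P := by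
  have hne : ∀ n, derivedSeries A n ≠ ⊥ := fun n hn => h ⟨⟨n, hn⟩⟩
  have hanti : ∀ n, derivedSeries A (n + 1) ≤ derivedSeries A n := by
    intro n
    rw [derivedSeries_succ]
    exact Subgroup.commutator_le_left _ _
  by_contra hcon
  push Not at hcon
  have hlt : ∀ n, Nat.card (derivedSeries A (n + 1)) < Nat.card (derivedSeries A n) := by
    intro n
    have hne' : derivedSeries A (n + 1) ≠ derivedSeries A n := by
      intro he
      refine hcon (derivedSeries A n) (derivedSeries_normal A n) (hne n) ?_
      rw [← derivedSeries_succ, he]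
    have hlt' : derivedSeries A (n + 1) < derivedSeries A n := lt_of_le_of_ne (hanti n) hne'
    exact Set.ncard_lt_ncard hlt' (Set.toFinite _)
  have hbound : ∀ n, Nat.card (derivedSeries A n) + n ≤ Nat.card (derivedSeries A 0) := by
    intro n
    induction n with
    | zero => simp
    | succ k ih => have := hlt k; omega
  have := hbound (Nat.card (derivedSeries A 0) + 1)
  omega

section central

variable {L : Type*} [Group L]

theorem conj_mul_central {a z : L} (hz : z ∈ center L) (x : L) :
    (a * z) * x * (a * z)⁻¹ = a * x * a⁻¹ := by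
  have h1 : z * x = x * z := (Subgroup.mem_center_iff.mp hz x).symm
  calc (a * z) * x * (a * z)⁻¹ = a * (z * x) * z⁻¹ * a⁻¹ := by group
    _ = a * x * a⁻¹ := by rw [h1]; group

theorem commutatorElement_mul_central {a b z w : L} (hz : z ∈ center L) (hw : w ∈ center L) :
    ⁅a * z, b * w⁆ = ⁅a, b⁆ := by
  rw [commutatorElement_def, conj_mul_central hz, commutatorElement_def]
  have h2 : (b * w) * a⁻¹ * (b * w)⁻¹ = b * a⁻¹ * b⁻¹ := conj_mul_central hw a⁻¹
  calc a * (b * w) * a⁻¹ * (b * w)⁻¹ = a * ((b * w) * a⁻¹ * (b * w)⁻¹) := by group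
    _ = a * (b * a⁻¹ * b⁻¹) := by rw [h2]
    _ = a * b * a⁻¹ * b⁻¹ := by group

/-- An automorphism of a perfect group inducing the identity modulo the centre is the identity. -/
theorem eq_of_perfect_of_central (hperf : _root_.commutator L = ⊤) (φ : L ≃* L)
    (hφ : ∀ l : L, l⁻¹ * φ l ∈ center L) (l : L) : φ l = l := by
  have hle : _root_.commutator L ≤ MonoidHom.eqLocus (φ : L →* L) (MonoidHom.id L) := by
    rw [commutator_eq_closure, Subgroup.closure_le]
    rintro _ ⟨a, b, rfl⟩
    show φ ⁅a, b⁆ = ⁅a, b⁆
    rw [map_commutatorElement]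
    have ha : φ a = a * (a⁻¹ * φ a) := by group
    have hb : φ b = b * (b⁻¹ * φ b) := by group
    rw [ha, hb]
    exact commutatorElement_mul_central (hφ a) (hφ b)
  have : l ∈ MonoidHom.eqLocus (φ : L →* L) (MonoidHom.id L) := hle (by rw [hperf]; trivial)
  exact this

end central

variable {G : Type*} [Group G]

theorem center_map_conj (L : Subgroup G) [hL : L.Normal] (g : G) :
    (center ↥L).map ((MulAut.conjNormal g : ↥L ≃* ↥L) : ↥L →* ↥L) = center ↥L :=
  Subgroup.characteristic_iff_map_eq.mp inferInstance _

/-- Conjugation by `g` on `L ⧸ Z(L)`. -/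
noncomputable def thetaFun (L : Subgroup G) [hL : L.Normal] (g : G) :
    (↥L ⧸ center ↥L) ≃* (↥L ⧸ center ↥L) :=
  QuotientGroup.congr (center ↥L) (center ↥L) (MulAut.conjNormal g : ↥L ≃* ↥L)
    (center_map_conj L g)

theorem thetaFun_mk (L : Subgroup G) [hL : L.Normal] (g : G) (l : L) :
    thetaFun L g (QuotientGroup.mk l) = QuotientGroup.mk (MulAut.conjNormal g l) :=
  QuotientGroup.congr_mk _ _ _ _ _

/-- The action of `G` on `L ⧸ Z(L)` by conjugation, for a normal subgroup `L`. -/
noncomputable def theta (L : Subgroup G) [hL : L.Normal] : G →* MulAut (↥L ⧸ center ↥L) where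
  toFun g := thetaFun L g
  map_one' := by
    ext x
    induction x using QuotientGroup.induction_on with
    | H x => rw [thetaFun_mk, map_one]; rfl
  map_mul' g h := by
    ext x
    induction x using QuotientGroup.induction_on with
    | H x =>
      rw [MulAut.mul_apply, thetaFun_mk, thetaFun_mk, thetaFun_mk, map_mul]
      rfl

theorem theta_mk (L : Subgroup G) [hL : L.Normal] (g : G) (l : L) :
    theta L g (QuotientGroup.mk l) = QuotientGroup.mk (MulAut.conjNormal g l) :=
  thetaFun_mk L g l

/-- The kernel of `theta` is the centralizer of `L` when `L` is perfect. -/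
theorem ker_theta (L : Subgroup G) [hL : L.Normal] (hperf : ⁅L, L⁆ = L) :
    (theta L).ker = centralizer (L : Set G) := by
  have hperf' : _root_.commutator L = ⊤ :=
    Cfsg.Agent.Helper52.PerfectCore.commutator_eq_top_of_perfect L hperf
  ext g
  rw [MonoidHom.mem_ker, Subgroup.mem_centralizer_iff]
  constructor
  · intro hg l hl
    have h1 : ∀ x : L, x⁻¹ * (MulAut.conjNormal g x : L) ∈ center ↥L := by
      intro x
      have h2 := theta_mk L g x
      rw [hg, MulAut.one_apply] at h2
      exact QuotientGroup.eq.mp h2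
    have h3 := eq_of_perfect_of_central hperf' (MulAut.conjNormal g : ↥L ≃* ↥L) h1 ⟨l, hl⟩
    have h4 := congrArg Subtype.val h3
    rw [MulAut.conjNormal_apply] at h4
    calc l * g = (g * l * g⁻¹) * g := by rw [h4]
      _ = g * l := by group
  · intro hg
    ext x
    induction x using QuotientGroup.induction_on with
    | H x =>
      rw [theta_mk, MulAut.one_apply]
      congr 1
      apply Subtype.ext
      rw [MulAut.conjNormal_apply]
      have := hg x x.2
      calc g * x * g⁻¹ = (x * g) * g⁻¹ := by rw [this]
        _ = x := by group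

end Cfsg.Agent.Helper95.FrobCompl
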