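import Mathlib
import Cfsg.Agent.Helper95.FrobCompl2

/-!
# Non-solvable Frobenius complements, part 3: the index bound and the abstract structure theorem
-/

set_option autoImplicit false

namespace Cfsg.Agent.Helper95.FrobCompl

open Subgroup
open scoped commutatorElement

section iso

variable {A B : Type*} [Group A] [Group B]

theorem map_center_equiv (e : A ≃* B) : (center A).map (e : A →* B) = center B := by
  ext b
  constructor
  · rintro ⟨a, ha, rfl⟩
    rw [Subgroup.mem_center_iff]
    intro g
    obtain ⟨g', rfl⟩ := e.surjective g
    have := Subgroup.mem_center_iff.mp ha g'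
    show e g' * e a = e a * e g'
    rw [← map_mul, ← map_mul, this]
  · intro hb
    refine ⟨e.symm b, ?_, by simp⟩
    rw [SetLike.mem_coe, Subgroup.mem_center_iff]
    intro g
    have := Subgroup.mem_center_iff.mp hb (e g)
    apply e.injective
    rw [map_mul, map_mul, MulEquiv.apply_symm_apply, this]

/-- Isomorphic groups have isomorphic central quotients. -/
noncomputable def centerQuotientCongr (e : A ≃* B) : (A ⧸ center A) ≃* (B ⧸ center B) :=
  QuotientGroup.congr (center A) (center B) e (map_center_equiv e)

theorem card_center_congr (e : A ≃* B) : Nat.card (center A) = Nat.card (center B) := by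
  rw [← map_center_equiv e]
  exact Nat.card_congr ((center A).equivMapOfInjective (e : A →* B) e.injective).toEquiv

end iso

variable {G : Type*} [Group G] [Finite G]

/-- For a perfect normal subgroup `L ≅ SL(2,5)`, the subgroup `L C_G(L)` has index at most `2`. -/
theorem index_sup_centralizer (L : Subgroup G) [hL : L.Normal] (hperf : ⁅L, L⁆ = L)
    (e : L ≃* SL5) :
    (L ⊔ centralizer (L : Set G)).index = 1 ∨ (L ⊔ centralizer (L : Set G)).index = 2 := by
  have hcardQ : Nat.card (↥L ⧸ center ↥L) = 60 := by
    rw [Nat.card_congr (centerQuotientCongr e).toEquiv]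
    exact card_PSL5
  have hcardA : Nat.card (MulAut (↥L ⧸ center ↥L)) = 120 := by
    rw [Nat.card_congr (MulAut.congr (centerQuotientCongr e)).toEquiv]
    exact card_mulAut_PSL5
  have : Finite (MulAut (↥L ⧸ center ↥L)) :=
    Nat.finite_of_card_ne_zero (by rw [hcardA]; norm_num)
  have h1 : (centralizer (L : Set G)).index ≤ 120 := by
    rw [← ker_theta L hperf, Subgroup.index_ker, ← hcardA]
    exact Subgroup.card_le_card_group _
  have h2 : (centralizer (L : Set G)).relIndex (centralizer (L : Set G) ⊔ L) = 60 := by
    rw [Subgroup.relIndex_sup_left, Subgroup.relIndex, ← hcardQ]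
    have : (centralizer (L : Set G)).subgroupOf L = center ↥L := by
      ext x
      rw [Subgroup.mem_subgroupOf, Subgroup.mem_centralizer_iff, Subgroup.mem_center_iff]
      constructor
      · intro h g
        exact Subtype.ext (h g g.2)
      · intro h g hg
        exact congrArg Subtype.val (h ⟨g, hg⟩)
    rw [this]
    rfl
  have h3 := Subgroup.relIndex_mul_index
    (le_sup_left : centralizer (L : Set G) ≤ centralizer (L : Set G) ⊔ L)
  rw [h2] at h3
  rw [sup_comm]
  have h4 : (centralizer (L : Set G) ⊔ L).index ≠ 0 := Subgroup.index_ne_zero_of_finite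
  omega

end Cfsg.Agent.Helper95.FrobCompl
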