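import Mathlib
import Cfsg.Agent.Helper95.FrobCompl3

/-!
# Non-solvable Frobenius complements, part 4: the abstract structure theorem

`G` finite with: abelian `r`-subgroups cyclic (`AbelR`), at most one involution, every nontrivial
perfect subgroup `≅ SL(2,5)`, not solvable.  Then `G₀ = L × M` has index `≤ 2`, `L ≅ SL(2,5)`,
`M` of order prime to `30` with cyclic Sylow subgroups.
-/

set_option autoImplicit false

namespace Cfsg.Agent.Helper95.FrobCompl

open Subgroup Cfsg.Agent.Helper24.Zas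

variable {G : Type*} [Group G] [Finite G]

/-- The hypotheses shared by all (abstract) Frobenius complements that we use. -/
structure FCLike (G : Type*) [Group G] : Prop where
  abel : AbelR G
  invol : ∀ a b : G, a ^ 2 = 1 → b ^ 2 = 1 → a ≠ 1 → b ≠ 1 → a = b
  zass : ∀ P : Subgroup G, P ≠ ⊥ → _root_.commutator P = ⊤ → Nonempty (P ≃* SL5)

/-- Data: a perfect normal subgroup `L ≅ SL(2,5)` and its central involution. -/
theorem exists_core (h : FCLike G) (hns : ¬ Group.IsSolvable G) :
    ∃ (L : Subgroup G) (_ : L.Normal) (z i j : G), ⁅L, L⁆ = L ∧ Nonempty (L ≃* SL5) ∧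
      z ∈ L ∧ i ∈ L ∧ j ∈ L ∧ z ≠ 1 ∧ z ^ 2 = 1 ∧ i ^ 2 = z ∧ i * j ≠ j * i := by
  obtain ⟨L, hLn, hL1, hLp⟩ := exists_normal_perfect hns
  obtain ⟨e⟩ := h.zass L hL1 (Cfsg.Agent.Helper52.PerfectCore.commutator_eq_top_of_perfect L hLp)
  refine ⟨L, hLn, ((e.symm iMat : L) : G) ^ 2, (e.symm iMat : L), (e.symm jMat : L), hLp, ⟨e⟩,
    L.pow_mem (e.symm iMat).2 2, (e.symm iMat).2, (e.symm jMat).2, ?_, ?_, rfl, ?_⟩
  · intro h1
    apply iMat_sq_ne_one
    have h2 : (e.symm iMat) ^ 2 = 1 := Subtype.ext (by simpa using h1)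
    have h3 := congrArg e h2
    rwa [map_pow, MulEquiv.apply_symm_apply, map_one] at h3
  · have h2 : (e.symm iMat) ^ 4 = 1 := by
      rw [← map_pow, iMat_pow_four, map_one]
    have h3 := congrArg (Subtype.val : L → G) h2
    rw [← pow_mul]
    simpa using h3
  · intro h1
    apply iMat_not_comm
    have h2 : e.symm iMat * e.symm jMat = e.symm jMat * e.symm iMat := Subtype.ext (by simpa using h1)
    have h3 := congrArg e h2
    rwa [map_mul, map_mul, MulEquiv.apply_symm_apply, MulEquiv.apply_symm_apply] at h3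

/-- The involution is central. -/
theorem invol_central (h : FCLike G) {z : G} (hz1 : z ≠ 1) (hz2 : z ^ 2 = 1) (g : G) :
    g * z = z * g := by
  have h1 : (g * z * g⁻¹) ^ 2 = 1 := by rw [conj_pow, hz2, mul_one, mul_inv_cancel]
  have h2 : g * z * g⁻¹ ≠ 1 := by
    intro h3
    apply hz1
    have : z = g⁻¹ * (g * z * g⁻¹) * g := by group
    rw [this, h3]; group
  have h3 := h.invol _ _ h1 hz2 h2 hz1
  calc g * z = (g * z * g⁻¹) * g := by group
    _ = z * g := by rw [h3]

/-- `2`-elements of `C_G(L)` lie in `{1, z}`. -/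
theorem two_elt_centralizer (h : FCLike G) {L : Subgroup G} {z i j : G} (hzL : z ∈ L)
    (hiL : i ∈ L) (hjL : j ∈ L) (hz1 : z ≠ 1) (hz2 : z ^ 2 = 1) (hi : i ^ 2 = z)
    (hij : i * j ≠ j * i) :
    ∀ k : ℕ, ∀ d ∈ centralizer (L : Set G), d ^ 2 ^ k = 1 → d = 1 ∨ d = z := by
  have hzC : z ∈ centralizer (L : Set G) := by
    rw [Subgroup.mem_centralizer_iff]
    intro g _
    exact invol_central h hz1 hz2 g
  have hnot : ∀ d ∈ centralizer (L : Set G), d ^ 2 ≠ z := by
    intro d hd hd2
    have hid : i * d = d * i := Subgroup.mem_centralizer_iff.mp hd i hiL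
    have h1 : (i * d) ^ 2 = 1 := by
      have : (i * d) ^ 2 = i ^ 2 * d ^ 2 := (Commute.mul_pow hid 2)
      rw [this, hi, hd2, ← pow_two, hz2]
    have hiC : i ∈ centralizer (L : Set G) := by
      by_cases h2 : i * d = 1
      · have : i = d⁻¹ := eq_inv_of_mul_eq_one_left h2
        rw [this]
        exact inv_mem hd
      · have h3 := h.invol _ _ h1 hz2 h2 hz1
        have : i = z * d⁻¹ := by rw [← h3]; group
        rw [this]
        exact mul_mem hzC (inv_mem hd)
    exact hij (Subgroup.mem_centralizer_iff.mp hiC j hjL).symm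
  intro k
  induction k with
  | zero =>
    intro d _ hd1
    left
    simpa using hd1
  | succ k ih =>
    intro d hd hdk
    have h1 : (d ^ 2) ^ 2 ^ k = 1 := by rw [← pow_mul, ← pow_succ']; exact hdk
    rcases ih (d ^ 2) (pow_mem hd 2) h1 with h2 | h2
    · by_cases h3 : d = 1
      · exact Or.inl h3
      · exact Or.inr (h.invol _ _ h2 hz2 h3 hz1)
    · exact absurd h2 (hnot d hd)

end Cfsg.Agent.Helper95.FrobCompl
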