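import Mathlib
import Cfsg.Agent.Helper95.FrobCompl4

/-!
# Non-solvable Frobenius complements, part 5: assembly of the abstract structure theorem
-/

set_option autoImplicit false

namespace Cfsg.Agent.Helper95.FrobCompl

open Subgroup Cfsg.Agent.Helper24.Zas

variable {G : Type*} [Group G] [Finite G]

/-- `L ∩ C_G(L) = {1, z}` for `L ≅ SL(2,5)`. -/
theorem mem_inf_centralizer (L : Subgroup G) (e : L ≃* SL5) {z : G} (hzL : z ∈ L) (hz1 : z ≠ 1)
    (hzC : z ∈ centralizer (L : Set G)) {x : G} (hxL : x ∈ L)
    (hxC : x ∈ centralizer (L : Set G)) : x = 1 ∨ x = z := by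
  classical
  have hcard : Nat.card (center ↥L) = 2 := by rw [card_center_congr e, card_center_SL5]
  have hmem : ∀ {y : G} (hyL : y ∈ L), y ∈ centralizer (L : Set G) → (⟨y, hyL⟩ : L) ∈ center ↥L := by
    intro y hyL hyC
    rw [Subgroup.mem_center_iff]
    intro g
    exact Subtype.ext (Subgroup.mem_centralizer_iff.mp hyC g g.2)
  by_contra hcon
  push Not at hcon
  have h3 : 3 ≤ Nat.card (center ↥L) := by
    let a : center ↥L := 1
    let b : center ↥L := ⟨⟨z, hzL⟩, hmem hzL hzC⟩
    let c : center ↥L := ⟨⟨x, hxL⟩, hmem hxL hxC⟩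
    have hab : a ≠ b := by
      intro h
      apply hz1
      have := congrArg (fun t : center ↥L => ((t : L) : G)) h
      exact this.symm
    have hac : a ≠ c := by
      intro h
      apply hcon.1
      have := congrArg (fun t : center ↥L => ((t : L) : G)) h
      exact this.symm
    have hbc : b ≠ c := by
      intro h
      apply hcon.2
      have := congrArg (fun t : center ↥L => ((t : L) : G)) h
      exact this.symm
    have : Fintype (center ↥L) := Fintype.ofFinite _
    rw [Nat.card_eq_fintype_card]
    have hsub : ({a, b, c} : Finset (center ↥L)) ⊆ Finset.univ := Finset.subset_univ _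
    have := Finset.card_le_card hsub
    rw [Finset.card_univ] at this
    have h3' : ({a, b, c} : Finset (center ↥L)).card = 3 := by
      rw [Finset.card_insert_of_notMem, Finset.card_insert_of_notMem, Finset.card_singleton]
      · simpa using hbc
      · simp only [Finset.mem_insert, Finset.mem_singleton, not_or]
        exact ⟨hab, hac⟩
    omega
  omega

/-- **Abstract structure theorem** for non-solvable "Frobenius-complement-like" groups. -/
theorem structure_of_fclike (h : FCLike G) (hns : ¬ Group.IsSolvable G) :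
    ∃ G₀ : Subgroup G, G₀.Normal ∧ (G₀.index = 1 ∨ G₀.index = 2) ∧
      ∃ S M : Subgroup G, S ⊔ M = G₀ ∧ S ⊓ M = ⊥ ∧ (∀ s ∈ S, ∀ x ∈ M, s * x = x * s) ∧
        Nonempty (S ≃* SL5) ∧
        (∀ (p : ℕ) [Fact p.Prime] (P : Sylow p M), IsCyclic P) ∧ (Nat.card M).Coprime 30 := by
  classical
  obtain ⟨L, hLn, z, i, j, hLp, ⟨e⟩, hzL, hiL, hjL, hz1, hz2, hi, hij⟩ := exists_core h hns
  have : Fact (Nat.Prime 2) := ⟨Nat.prime_two⟩
  have htwo := two_elt_centralizer h hzL hiL hjL hz1 hz2 hi hij
  have hzC : z ∈ centralizer (L : Set G) := by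
    rw [Subgroup.mem_centralizer_iff]
    intro g _
    exact invol_central h hz1 hz2 g
  -- the Sylow 2-subgroup of `C`
  let C : Subgroup G := centralizer (L : Set G)
  have hCn : C.Normal := inferInstance
  obtain ⟨P, -⟩ := IsPGroup.exists_le_sylow (IsPGroup.of_bot : IsPGroup 2 (⊥ : Subgroup C))
  have hPelt : ∀ d : C, d ∈ P → (d : G) = 1 ∨ (d : G) = z := by
    intro d hd
    obtain ⟨k, hk⟩ := P.isPGroup' ⟨d, hd⟩
    have hk' : (d : G) ^ 2 ^ k = 1 := by
      have := congrArg (fun t : P => ((t : C) : G)) hk
      simpa using this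
    exact htwo k d d.2 hk'
  have hPcent : normalizer ((P : Subgroup C) : Set C) ≤ centralizer ((P : Subgroup C) : Set C) := by
    intro g _
    rw [Subgroup.mem_centralizer_iff]
    intro d hd
    apply Subtype.ext
    rcases hPelt d hd with h1 | h1
    · show (d : G) * g = g * d
      rw [h1, one_mul, mul_one]
    · show (d : G) * g = g * d
      rw [h1]
      exact (invol_central h hz1 hz2 g).symm
  have hcompl := MonoidHom.ker_transferSylow_isComplement' P hPcent
  let M' : Subgroup C := (MonoidHom.transferSylow P hPcent).ker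
  let M : Subgroup G := M'.map C.subtype
  have hMC : M ≤ C := by
    rintro _ ⟨m, -, rfl⟩
    exact m.2
  -- `M` has odd order
  have hMz : z ∉ M := by
    rintro ⟨m, hm, hmz⟩
    -- `m ∈ M' ∩ P`?  no: use the order
    have hm2 : m ^ 2 = 1 := by
      apply Subtype.ext
      have : ((m : C) : G) = z := hmz
      show ((m : C) : G) ^ 2 = 1
      rw [this, hz2]
    have hm1 : m ≠ 1 := by
      intro h1
      apply hz1
      rw [← hmz, h1]
      rfl
    -- `m` is a `2`-element, so conjugate into `P`; being central it lies in `P`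
    have hmP : m ∈ (P : Subgroup C) := by
      have hpg : IsPGroup 2 (zpowers m) := by
        apply IsPGroup.of_card (n := 1)
        rw [Nat.card_zpowers, pow_one]
        exact orderOf_eq_prime hm2 hm1
      obtain ⟨Q, hQ⟩ := hpg.exists_le_sylow
      obtain ⟨g, hg⟩ := MulAction.exists_smul_eq C Q P
      have h1 : m ∈ (Q : Subgroup C) := hQ (mem_zpowers m)
      have h2 : g * m * g⁻¹ ∈ (P : Subgroup C) := by
        rw [← hg, Sylow.coe_subgroup_smul, Subgroup.mem_smul_pointwise_iff_exists]
        exact ⟨m, h1, rfl⟩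
      have h3 : g * m * g⁻¹ = m := by
        apply Subtype.ext
        show (g : G) * (m : G) * (g : G)⁻¹ = m
        have : ((m : C) : G) = z := hmz
        rw [this, invol_central h hz1 hz2 g]
        group
      rwa [h3] at h2
    have := hcompl.disjoint.le_bot ⟨hm, hmP⟩
    exact hm1 (Subgroup.mem_bot.mp this)
  have hModd : ¬ 2 ∣ Nat.card M := by
    intro h2
    obtain ⟨m, hm⟩ := exists_prime_orderOf_dvd_card' (G := M) 2 h2
    have hm2 : ((m : M) : G) ^ 2 = 1 := by
      have := pow_orderOf_eq_one m
      rw [hm] at this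
      have := congrArg (Subtype.val : M → G) this
      simpa using this
    have hm1 : ((m : M) : G) ≠ 1 := by
      intro h1
      have : m = 1 := Subtype.ext h1
      rw [this, orderOf_one] at hm
      omega
    have := h.invol _ _ hm2 hz2 hm1 hz1
    exact hMz (this ▸ m.2)
  -- `L ⊓ M = ⊥`
  have hLM : L ⊓ M = ⊥ := by
    rw [eq_bot_iff]
    rintro x ⟨hxL, hxM⟩
    rw [Subgroup.mem_bot]
    rcases mem_inf_centralizer L e hzL hz1 hzC hxL (hMC hxM) with h1 | h1
    · exact h1
    · exact absurd (h1 ▸ hxM) hMz
  -- `L ⊔ M = L ⊔ C`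
  have hsup : L ⊔ M = L ⊔ C := by
    apply le_antisymm (sup_le_sup_left hMC L)
    apply sup_le le_sup_left
    intro c hc
    have h1 : (⟨c, hc⟩ : C) ∈ (M' ⊔ (P : Subgroup C)) := by
      rw [hcompl.sup_eq_top]; trivial
    rw [Subgroup.mem_sup_of_normal_left] at h1
    obtain ⟨m, hm, d, hd, hmd⟩ := h1
    have h2 : c = (m : G) * (d : G) := by
      have := congrArg (Subtype.val : C → G) hmd
      exact this.symm
    rw [h2]
    refine mul_mem (le_sup_right (a := L) ⟨m, hm, rfl⟩) (le_sup_left (b := M) ?_)
    rcases hPelt d hd with h3 | h3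
    · rw [h3]; exact L.one_mem
    · rw [h3]; exact hzL
  refine ⟨L ⊔ C, inferInstance, index_sup_centralizer L hLp e, L, M, hsup, hLM, ?_, ⟨e⟩, ?_, ?_⟩
  · intro s hs x hx
    exact Subgroup.mem_centralizer_iff.mp (hMC hx) s hs
  · -- Sylow subgroups of `M` are cyclic
    intro p hp Q
    by_cases hp2 : p = 2
    · subst hp2
      have h1 : Nat.card Q = 1 := by
        obtain ⟨n, hn⟩ := (IsPGroup.iff_card.mp Q.isPGroup')
        have hdvd : Nat.card Q ∣ Nat.card M := Subgroup.card_subgroup_dvd_card _
        rw [hn] at hdvd ⊢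
        rcases Nat.eq_zero_or_pos n with h0 | h0
        · rw [h0, pow_zero]
        · exact absurd (dvd_trans (dvd_pow_self 2 h0.ne') hdvd) hModd
      have : Subsingleton Q := (Nat.card_eq_one_iff_unique.mp h1).1
      exact isCyclic_of_subsingleton
    · have h1 : IsPGroup p ((Q : Subgroup M).map M.subtype) := Q.isPGroup'.map _
      have h2 := h.abel.pgroup_cyclic p hp2 _ h1
      let f := (Q : Subgroup M).equivMapOfInjective M.subtype M.subtype_injective
      exact isCyclic_of_surjective f.symm f.symm.surjective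
  · -- order prime to 30
    have hq : ∀ q : ℕ, q.Prime → q ∣ 120 → q ≠ 2 → ¬ q ∣ Nat.card M := by
      intro q hqp hq120 hq2 hqM
      have : Fact q.Prime := ⟨hqp⟩
      obtain ⟨x, hx⟩ := exists_prime_orderOf_dvd_card' (G := M) q hqM
      have hLcard : Nat.card L = 120 := by rw [Nat.card_congr e.toEquiv, card_SL5]
      obtain ⟨y, hy⟩ := exists_prime_orderOf_dvd_card' (G := L) q (by rw [hLcard]; exact hq120)
      have hx1 : ((x : M) : G) ≠ 1 := by
        intro h1
        have : x = 1 := Subtype.ext h1
        rw [this, orderOf_one] at hx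
        exact hqp.one_lt.ne hx
      have hy1 : ((y : L) : G) ≠ 1 := by
        intro h1
        have : y = 1 := Subtype.ext h1
        rw [this, orderOf_one] at hy
        exact hqp.one_lt.ne hy
      have hxq : ((x : M) : G) ^ q = 1 := by
        have := pow_orderOf_eq_one x
        rw [hx] at this
        have := congrArg (Subtype.val : M → G) this
        simpa using this
      have hyq : ((y : L) : G) ^ q = 1 := by
        have := pow_orderOf_eq_one y
        rw [hy] at this
        have := congrArg (Subtype.val : L → G) this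
        simpa using this
      have hcomm : ((x : M) : G) * (y : G) = (y : G) * (x : G) :=
        (Subgroup.mem_centralizer_iff.mp (hMC x.2) y y.2).symm
      have hmem := h.abel.mem_zpowers_of_comm hqp hx1 hxq hyq hcomm
      have hyM : (y : G) ∈ M := by
        have : zpowers ((x : M) : G) ≤ M := by
          rw [Subgroup.zpowers_le]; exact x.2
        exact this hmem
      have : (y : G) ∈ L ⊓ M := ⟨y.2, hyM⟩
      rw [hLM, Subgroup.mem_bot] at this
      exact hy1 this
    have h2 : Nat.Coprime (Nat.card M) 2 :=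
      (Nat.coprime_comm.mp ((Nat.Prime.coprime_iff_not_dvd Nat.prime_two).mpr hModd))
    have h3 : Nat.Coprime (Nat.card M) 3 :=
      (Nat.coprime_comm.mp ((Nat.Prime.coprime_iff_not_dvd Nat.prime_three).mpr
        (hq 3 Nat.prime_three (by norm_num) (by norm_num))))
    have h5 : Nat.Coprime (Nat.card M) 5 :=
      (Nat.coprime_comm.mp ((Nat.Prime.coprime_iff_not_dvd Nat.prime_five).mpr
        (hq 5 Nat.prime_five (by norm_num) (by norm_num))))
    have : (30 : ℕ) = 2 * (3 * 5) := by norm_num
    rw [this]
    exact Nat.Coprime.mul_right h2 (Nat.Coprime.mul_right h3 h5)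

end Cfsg.Agent.Helper95.FrobCompl
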