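import Mathlib
import Cfsg.Agent.Helper95.FrobCompl5
import Cfsg.Agent.Helper24.ZasLin
import Cfsg.Agent.S0035
import Cfsg.Agent.S0690
import Cfsg.Agent.S3375

/-!
# Non-solvable Frobenius complements, part 6: every Frobenius complement is `FCLike`
-/

set_option autoImplicit false

namespace Cfsg.Agent.Helper95.FrobCompl

open Subgroup Cfsg.Agent.Helper24.Zas
open scoped Pointwise

/-- Perfectness transports along isomorphisms. -/
theorem commutator_eq_top_of_equiv {A B : Type*} [Group A] [Group B] (f : A ≃* B)
    (h : _root_.commutator A = ⊤) : _root_.commutator B = ⊤ := by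
  have h1 : (_root_.commutator A).map (f : A →* B) = _root_.commutator B := by
    rw [_root_.commutator_def, Subgroup.map_commutator, _root_.commutator_def,
      ← MonoidHom.range_eq_map, MonoidHom.range_eq_top.mpr f.surjective]
  rw [← h1, h, ← MonoidHom.range_eq_map, MonoidHom.range_eq_top.mpr f.surjective]

/-- `FCLike` transports along isomorphisms. -/
theorem FCLike.of_equiv {G G' : Type*} [Group G] [Group G'] (f : G ≃* G') (h : FCLike G') :
    FCLike G where
  abel := by
    intro r hr B hB hBc
    have h1 : IsPGroup r (B.map (f : G →* G')) := hB.map _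
    have h2 : ∀ a ∈ B.map (f : G →* G'), ∀ b ∈ B.map (f : G →* G'), a * b = b * a := by
      rintro _ ⟨a, ha, rfl⟩ _ ⟨b, hb, rfl⟩
      show f a * f b = f b * f a
      rw [← map_mul, ← map_mul, hBc a ha b hb]
    have h3 := h.abel r hr _ h1 h2
    let g := B.equivMapOfInjective (f : G →* G') f.injective
    exact isCyclic_of_surjective g.symm g.symm.surjective
  invol := by
    intro a b ha hb ha1 hb1
    apply f.injective
    apply h.invol
    · rw [← map_pow, ha, map_one]
    · rw [← map_pow, hb, map_one]
    · intro h1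
      exact ha1 (f.injective (by rw [h1, map_one]))
    · intro h1
      exact hb1 (f.injective (by rw [h1, map_one]))
  zass := by
    intro P hP1 hPp
    let g := P.equivMapOfInjective (f : G →* G') f.injective
    have h1 : P.map (f : G →* G') ≠ ⊥ := by
      intro h2
      apply hP1
      rw [eq_bot_iff]
      intro x hx
      have : f x ∈ P.map (f : G →* G') := ⟨x, hx, rfl⟩
      rw [h2, Subgroup.mem_bot] at this
      rw [Subgroup.mem_bot]
      exact f.injective (by rw [this, map_one])
    obtain ⟨e⟩ := h.zass _ h1 (commutator_eq_top_of_equiv g hPp)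
    exact ⟨g.trans e⟩

/-- A group of fixed-point-free automorphisms of a nontrivial finite group is `FCLike`. -/
theorem fclike_of_fpf {K : Type*} [Group K] [Finite K] [Nontrivial K] (Γ : Subgroup (MulAut K))
    (hfpf : ∀ φ ∈ Γ, φ ≠ 1 → ∀ k : K, φ k = k → k = 1) : FCLike Γ where
  abel := abelR_of_fpf Γ hfpf
  invol := by
    intro a b ha hb ha1 hb1
    have key : ∀ c : Γ, c ^ 2 = 1 → c ≠ 1 → ∀ k : K, (c : MulAut K) k = k⁻¹ := by
      intro c hc hc1
      have hc1' : (c : MulAut K) ≠ 1 := fun h => hc1 (Subtype.ext h)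
      have hord : orderOf (c : MulAut K) = 2 := by
        apply orderOf_eq_prime
        · have := congrArg (Subtype.val : Γ → MulAut K) hc
          simpa using this
        · exact hc1'
      exact ((Cfsg.Agent.S3375.result (c : MulAut K) hord).1 (hfpf c c.2 hc1')).2
    apply Subtype.ext
    ext k
    rw [key a ha ha1, key b hb hb1]
  zass := by
    intro P hP1 hPp
    let g := P.equivMapOfInjective Γ.subtype Γ.subtype_injective
    have hle : P.map Γ.subtype ≤ Γ := by
      rintro _ ⟨x, -, rfl⟩
      exact x.2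
    have h1 : P.map Γ.subtype ≠ ⊥ := by
      intro h2
      apply hP1
      rw [eq_bot_iff]
      intro x hx
      have : Γ.subtype x ∈ P.map Γ.subtype := ⟨x, hx, rfl⟩
      rw [h2, Subgroup.mem_bot] at this
      rw [Subgroup.mem_bot]
      exact Subtype.ext this
    obtain ⟨e⟩ := Cfsg.Agent.S0690.result (P.map Γ.subtype)
      (fun φ hφ => hfpf φ (hle hφ)) (commutator_eq_top_of_equiv g hPp) h1
    exact ⟨g.trans e⟩

/-- A Frobenius complement acts fixed-point-freely on the Frobenius kernel; hence every group
isomorphic to a Frobenius complement is `FCLike`. -/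
theorem fclike_of_frobenius_complement {G : Type*} [Group G] [Finite G]
    (hFC : ∃ (L : Type) (_ : Group L) (_ : Finite L) (H : Subgroup L),
      Cfsg.IsFrobeniusComplement H ∧ Nonempty (G ≃* H)) : FCLike G := by
  obtain ⟨L, _, _, H, hH, ⟨e⟩⟩ := hFC
  obtain ⟨N, hN, hNn, hcompl⟩ := Cfsg.Agent.S0035.result H hH
  -- the kernel is nontrivial
  have hNnt : Nontrivial N := by
    by_contra hnt
    rw [not_nontrivial_iff_subsingleton] at hnt
    have h1 : Nat.card N = 1 := Nat.card_unique
    have h2 := hcompl.card_mul_card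
    rw [h1, one_mul] at h2
    exact hH.2.1 ((Subgroup.card_eq_iff_eq_top H).mp h2)
  -- the action
  let ρ : H →* MulAut N := (MulAut.conjNormal (H := N)).comp H.subtype
  have hρ : ∀ (h : H) (k : N), ((ρ h k : N) : L) = (h : L) * (k : L) * (h : L)⁻¹ := by
    intro h k
    show ((MulAut.conjNormal (h : L) k : N) : L) = _
    rw [MulAut.conjNormal_apply]
  have hfpf0 : ∀ h : H, h ≠ 1 → ∀ k : N, ρ h k = k → k = 1 := by
    intro h hh1 k hk
    by_contra hk1
    have hkL : (k : L) ≠ 1 := fun h0 => hk1 (Subtype.ext h0)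
    have hker : (k : L) ∈ Cfsg.frobeniusKernel H := by rw [← hN]; exact k.2
    have hnot : ∀ g : L, (k : L) ∉ MulAut.conj g • H := by
      rcases hker with h0 | h0
      · exact absurd h0 hkL
      · exact h0
    have hkH : (k : L)⁻¹ ∉ H := by
      intro h0
      have h1 : (k : L) ∈ H := by simpa using H.inv_mem h0
      apply hnot 1
      rw [map_one, one_smul]
      exact h1
    have hbot := hH.2.2 (k : L)⁻¹ hkH
    have h1 : (h : L) ∈ H ⊓ MulAut.conj (k : L)⁻¹ • H := by
      refine Subgroup.mem_inf.mpr ⟨h.2, ?_⟩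
      rw [Subgroup.mem_smul_pointwise_iff_exists]
      refine ⟨h, h.2, ?_⟩
      show MulAut.conj (k : L)⁻¹ (h : L) = h
      rw [MulAut.conj_apply, inv_inv]
      have h2 := congrArg (Subtype.val : N → L) hk
      rw [hρ] at h2
      calc (k : L)⁻¹ * h * k = (k : L)⁻¹ * (h * k * (h : L)⁻¹) * h := by group
        _ = h := by rw [h2]; group
    rw [hbot, Subgroup.mem_bot] at h1
    exact hh1 (Subtype.ext h1)
  have hinj : Function.Injective ρ := by
    rw [injective_iff_map_eq_one]
    intro h hh
    by_contra hh1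
    obtain ⟨k, hk⟩ := exists_ne (1 : N)
    apply hk
    apply hfpf0 h hh1 k
    rw [hh]
    rfl
  have hfpf : ∀ φ ∈ ρ.range, φ ≠ 1 → ∀ k : N, φ k = k → k = 1 := by
    rintro _ ⟨h, rfl⟩ hφ k hk
    apply hfpf0 h _ k hk
    intro h0
    apply hφ
    rw [h0, map_one]
  have hΓ := fclike_of_fpf ρ.range hfpf
  exact FCLike.of_equiv (e.trans (MonoidHom.ofInjective hinj)) hΓ

end Cfsg.Agent.Helper95.FrobCompl
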