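import Mathlib
import Cfsg.Agent.Helper95.CTGroup5
import Cfsg.Agent.Helper95.CTChar6

/-!
# Simple CA-groups of even order (helper95), part 6

The centralizer of an involution of a finite non-abelian simple CA-group is an elementary
abelian `2`-group.
-/

set_option autoImplicit false
set_option linter.unusedSectionVars false
set_option linter.style.haveILetI false

namespace Cfsg.Agent.Helper95.CT

open Cfsg Cfsg.Agent.Helper75 Cfsg.Agent.Helper21 Cfsg.Agent.Helper4
open Cfsg.Agent.Helper95.CTChar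

universe u

namespace CTData

variable {G : Type u} [Group G] (c : CTData G) [Finite G] [IsSimpleGroup G]

include c

/-- The centralizer of the involution has exponent `2`. -/
theorem exponent_two : ∀ x ∈ c.A, x ^ 2 = 1 := by
  classical
  by_contra hcon
  push Not at hcon
  obtain ⟨x₀, hx₀A, hx₀⟩ := hcon
  let _ : Fintype G := Fintype.ofFinite G
  let _ : Fintype ↥(Subgroup.normalizer (c.A : Set G)) := Fintype.ofFinite _
  let Ω : Subgroup G :=
    { carrier := {x | x ∈ c.A ∧ x ^ 2 = 1}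
      mul_mem' := by
        rintro a b ⟨ha, ha2⟩ ⟨hb, hb2⟩
        refine ⟨c.A.mul_mem ha hb, ?_⟩
        have h1 := c.hab a ha b hb
        calc (a * b) ^ 2 = a * (b * a) * b := by rw [pow_two]; group
          _ = a * (a * b) * b := by rw [h1]
          _ = a ^ 2 * b ^ 2 := by rw [pow_two, pow_two]; group
          _ = 1 := by rw [ha2, hb2, one_mul]
      one_mem' := ⟨c.A.one_mem, one_pow 2⟩
      inv_mem' := by
        rintro a ⟨ha, ha2⟩
        refine ⟨c.A.inv_mem ha, ?_⟩
        rw [inv_pow, ha2, inv_one] }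
  have hΩmem : ∀ x, x ∈ Ω ↔ x ∈ c.A ∧ x ^ 2 = 1 := fun x => Iff.rfl
  have hΩA : Ω < c.A := by
    refine lt_of_le_of_ne (fun x hx => ((hΩmem x).mp hx).1) ?_
    intro h
    have : x₀ ∈ Ω := by rw [h]; exact hx₀A
    exact hx₀ ((hΩmem x₀).mp this).2
  have hΩ1 : Ω ≠ ⊥ := by
    intro h
    have : c.t ∈ Ω := by
      rw [hΩmem]
      refine ⟨c.t_mem_A, ?_⟩
      rw [← c.ht]
      exact pow_orderOf_eq_one c.t
    rw [h, Subgroup.mem_bot] at this
    exact c.t_ne_one this
  have hΩN : ∀ n ∈ Subgroup.normalizer (c.A : Set G), ∀ x ∈ Ω, n * x * n⁻¹ ∈ Ω := by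
    intro n hn x hx
    obtain ⟨hxA, hx2⟩ := (hΩmem x).mp hx
    rw [hΩmem]
    refine ⟨c.conj_mem_A hn hxA, ?_⟩
    rw [conj_pow, hx2]
    group
  exact ct_char_false c.A c.hC c.hab (c.index_N c.two_le_caE) c.even_card_A c.odd_caE c.hcls
    Ω hΩA hΩ1 hΩN

end CTData

end Cfsg.Agent.Helper95.CT
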