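/-
helper95: fixed-point-free actions.  A finite CN-group acting (coprimely) on a nontrivial finite
abelian group so that every nonidentity element acts fixed-point-freely is nilpotent.
The proof is a norm/partition argument (`pow_card_eq_one`) applied to a minimal non-nilpotent
subgroup (Schmidt: `S0046.main`).
-/
import Mathlib
import Cfsg.Prelude.Def_LieExceptional
import Cfsg.Agent.S0536
import Cfsg.Agent.Lib.Nilpotent

set_option autoImplicit false

namespace Cfsg.Agent.Helper95.Fpf

open Subgroup

section norm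
variable {E V : Type*} [Group E] [CommGroup V] (φ : E →* MulAut V)

/-- Every nonidentity element of `E` fixes only the identity of `V`. -/
def IsFpf : Prop := ∀ e : E, e ≠ 1 → ∀ v : V, φ e v = v → v = 1

/-- The norm of a nontrivial subgroup kills `V`. -/
lemma norm_eq_one (hφ : IsFpf φ) (A : Subgroup E) [Fintype A] (hA : A ≠ ⊥) (v : V) :
    ∏ a : A, φ (a : E) v = 1 := by
  rw [Ne, Subgroup.eq_bot_iff_forall] at hA
  push Not at hA
  obtain ⟨a₀, ha₀, ha₀1⟩ := hA
  apply hφ a₀ ha₀1
  rw [map_prod]
  have h1 : ∀ a : A, φ a₀ (φ (a : E) v) = φ (((⟨a₀, ha₀⟩ : A) * a : A) : E) v := by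
    intro a
    simp [map_mul]
  simp_rw [h1]
  exact Equiv.prod_comp (Equiv.mulLeft (⟨a₀, ha₀⟩ : A)) (fun a => φ (a : E) v)

/-- If `H` normalizes `K` and acts on it without nontrivial fixed points (a "Frobenius
configuration" inside a fixed-point-free group), then `V` has exponent dividing `|K|`. -/
lemma pow_card_eq_one (hφ : IsFpf φ) (K H : Subgroup E) [Finite K] [Finite H] (hK : K ≠ ⊥)
    (hH : H ≠ ⊥) (hnorm : ∀ h ∈ H, ∀ k ∈ K, h * k * h⁻¹ ∈ K)
    (hfix : ∀ h ∈ H, h ≠ 1 → ∀ k ∈ K, h * k = k * h → k = 1) (v : V) :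
    v ^ Nat.card K = 1 := by
  classical
  have := Fintype.ofFinite K
  have := Fintype.ofFinite H
  have h1 : ∏ x : K, ∏ h : H, φ ((x : E) * h * (x : E)⁻¹) v = 1 := by
    apply Finset.prod_eq_one
    intro x _
    have h2 : ∀ h : H, φ ((x : E) * h * (x : E)⁻¹) v
        = φ (x : E) (φ (h : E) (φ (x : E)⁻¹ v)) := by
      intro h
      simp [map_mul]
    simp_rw [h2]
    rw [← map_prod, norm_eq_one φ hφ H hH, map_one]
  rw [Finset.prod_comm] at h1
  rw [Finset.prod_eq_single_of_mem (1 : H) (Finset.mem_univ _)] at h1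
  · simpa [Nat.card_eq_fintype_card] using h1
  · intro h _ hne
    have hh1 : (h : E) ≠ 1 := fun h0 => hne (Subtype.ext h0)
    have hmem : ∀ x : K, (x : E) * h * (x : E)⁻¹ * (h : E)⁻¹ ∈ K := by
      intro x
      have h3 := hnorm h h.2 (x : E)⁻¹ (K.inv_mem x.2)
      have e : (x : E) * h * (x : E)⁻¹ * (h : E)⁻¹ = x * (h * (x : E)⁻¹ * (h : E)⁻¹) := by group
      rw [e]
      exact K.mul_mem x.2 h3
    let σ : K → K := fun x => ⟨(x : E) * h * (x : E)⁻¹ * (h : E)⁻¹, hmem x⟩
    have hσ : Function.Injective σ := by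
      intro x x' hxx'
      have e : (x : E) * h * (x : E)⁻¹ * (h : E)⁻¹ = (x' : E) * h * (x' : E)⁻¹ * (h : E)⁻¹ :=
        congrArg Subtype.val hxx'
      have e3 : (x : E) * h * (x : E)⁻¹ = (x' : E) * h * (x' : E)⁻¹ := mul_right_cancel e
      have e2 : (h : E) * ((x' : E)⁻¹ * x) = ((x' : E)⁻¹ * x) * h := by
        calc (h : E) * ((x' : E)⁻¹ * x)
            = (x' : E)⁻¹ * ((x' : E) * h * (x' : E)⁻¹) * x := by group
          _ = (x' : E)⁻¹ * ((x : E) * h * (x : E)⁻¹) * x := by rw [e3]
          _ = ((x' : E)⁻¹ * x) * h := by group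
      have h4 := hfix h h.2 hh1 ((x' : E)⁻¹ * x) (K.mul_mem (K.inv_mem x'.2) x.2) e2
      rw [inv_mul_eq_one] at h4
      exact Subtype.ext h4.symm
    have hσb : Function.Bijective σ := hσ.bijective_of_finite
    have h5 : ∀ x : K, φ ((x : E) * h * (x : E)⁻¹) v = φ ((σ x : K) : E) (φ (h : E) v) := by
      intro x
      show _ = φ ((x : E) * h * (x : E)⁻¹ * (h : E)⁻¹) (φ (h : E) v)
      rw [← MulAut.mul_apply, ← map_mul]
      congr 2
      group
    simp_rw [h5]
    rw [hσb.prod_comp (fun k : K => φ (k : E) (φ (h : E) v))]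
    exact norm_eq_one φ hφ K hK _

end norm

/-- Subgroups of CN-groups are CN-groups. -/
lemma cn_subgroup {G : Type*} [Group G] (hCN : Cfsg.IsCNGroup G) (H : Subgroup G) :
    Cfsg.IsCNGroup H := by
  intro e he
  have hnil := hCN (e : G) (fun h => he (Subtype.ext h))
  let f : (centralizer {e} : Subgroup H) →* (centralizer {(e : G)} : Subgroup G) :=
    { toFun := fun x => ⟨((x : H) : G), by
        rw [mem_centralizer_singleton_iff]
        have := mem_centralizer_singleton_iff.mp x.2
        exact congrArg Subtype.val this⟩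
      map_one' := rfl
      map_mul' := fun _ _ => rfl }
  have hf : Function.Injective f := by
    intro x y hxy
    apply Subtype.ext
    apply Subtype.ext
    exact congrArg (fun z : (centralizer {(e : G)} : Subgroup G) => (z : G)) hxy
  have := hnil
  exact Subgroup.isNilpotent_of_ker_le_center f (by rw [(MonoidHom.ker_eq_bot_iff f).mpr hf]; exact bot_le)

/-- **Main theorem.** A finite CN-group acting coprimely on a nontrivial finite abelian group, with
every nonidentity element fixed-point-free, is nilpotent. -/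
theorem nilpotent_of_fpf_cn {V : Type*} [CommGroup V] [Finite V] [Nontrivial V] :
    ∀ (n : ℕ) (E : Type*) [Group E] [Finite E], Nat.card E = n →
    ∀ (φ : E →* MulAut V), IsFpf φ → (Nat.card E).Coprime (Nat.card V) → Cfsg.IsCNGroup E →
    Group.IsNilpotent E := by
  intro n
  induction n using Nat.strong_induction_on with
  | _ n ih =>
    intro E _ _ hn φ hφ hcop hCN
    have hprop : ∀ M : Subgroup E, M ≠ ⊤ → Group.IsNilpotent M := by
      intro M hM
      refine ih (Nat.card M) ?_ M rfl (φ.comp M.subtype) ?_ ?_ (cn_subgroup hCN M)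
      · rw [← hn]
        exact lt_of_le_of_ne (Subgroup.card_le_card_group M)
          (fun h => hM (Subgroup.eq_top_of_card_eq M h))
      · intro e he v hv
        exact hφ (e : E) (fun h => he (Subtype.ext h)) v hv
      · exact Nat.Coprime.coprime_dvd_left (Subgroup.card_subgroup_dvd_card M) hcop
    by_contra hnil
    -- trivial centre
    have hZ : ∀ z : E, (∀ g : E, g * z = z * g) → z = 1 := by
      intro z hz
      by_contra hz1
      have h1 := hCN z hz1
      have htop : centralizer {z} = ⊤ :=
        eq_top_iff.mpr (fun g _ => mem_centralizer_singleton_iff.mpr (hz g))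
      rw [htop] at h1
      exact hnil (Group.nilpotent_of_mulEquiv Subgroup.topEquiv)
    have hsol : Group.IsSolvable E := S0046.main (Nat.card E) E rfl (fun M hM => hprop M hM.1)
    have hnt : Nontrivial E := by
      by_contra h
      rw [not_nontrivial_iff_subsingleton] at h
      exact hnil inferInstance
    obtain ⟨M, hMn, hMq⟩ := S0536.exists_normal_prime_index (G := E)
    have hMtop : M ≠ ⊤ := by
      intro h
      rw [h, Subgroup.index_top] at hMq
      exact Nat.not_prime_one hMq
    have hMnil := hprop M hMtop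
    have := Fact.mk hMq
    -- a `q`-element outside `M`
    let Q : Sylow M.index E := default
    have hQM : ¬ (Q : Subgroup E) ≤ M := fun h =>
      Q.not_dvd_index (Subgroup.index_dvd_of_le h)
    obtain ⟨y, hyQ, hyM⟩ := SetLike.not_le_iff_exists.mp hQM
    have hsup : M ⊔ zpowers y = ⊤ := by
      have h1 := Subgroup.relIndex_mul_index (le_sup_left : M ≤ M ⊔ zpowers y)
      have h2 : M.relIndex (M ⊔ zpowers y) ≠ 1 := by
        rw [Ne, Subgroup.relIndex_eq_one]
        intro h
        exact hyM (h (mem_sup_right (mem_zpowers y)))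
      have h3 : M.relIndex (M ⊔ zpowers y) ∣ M.index := Dvd.intro _ h1
      have h4 : M.relIndex (M ⊔ zpowers y) = M.index :=
        ((Nat.dvd_prime hMq).mp h3).resolve_left h2
      rw [h4] at h1
      have h5 : (M ⊔ zpowers y).index = 1 := by
        have hpos : 0 < M.index := hMq.pos
        nlinarith [Nat.eq_of_mul_eq_mul_left hpos (h1.trans (mul_one _).symm)]
      exact Subgroup.index_eq_one.mp h5
    -- `K = Z(M)`
    set K : Subgroup E := M ⊓ centralizer (M : Set E) with hKdef
    have hKcomm : ∀ k ∈ K, ∀ m ∈ M, k * m = m * k := by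
      intro k hk m hm
      exact ((mem_centralizer_iff.mp (Subgroup.mem_inf.mp hk).2) m hm).symm
    have hKn : K.Normal := by
      have : (centralizer (M : Set E)).Normal := Subgroup.normal_centralizer
      exact Subgroup.normal_inf_normal _ _
    have hKy : ∀ k ∈ K, y * k = k * y → k = 1 := by
      intro k hk hyk
      apply hZ k
      have h1 : M ⊔ zpowers y ≤ centralizer {k} :=
        sup_le (fun m hm => mem_centralizer_singleton_iff.mpr (hKcomm k hk m hm).symm)
          (zpowers_le.mpr (mem_centralizer_singleton_iff.mpr hyk))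
      rw [hsup] at h1
      intro g
      exact mem_centralizer_singleton_iff.mp (h1 (mem_top g))
    have hy1 : y ≠ 1 := fun h => hyM (h ▸ M.one_mem)
    have hMbot : M ≠ ⊥ := by
      intro hM
      rw [hM, bot_sup_eq] at hsup
      apply hy1
      apply hZ y
      intro g
      have hg : g ∈ zpowers y := hsup ▸ mem_top g
      obtain ⟨i, rfl⟩ := mem_zpowers_iff.mp hg
      exact ((Commute.refl y).zpow_left i).eq
    have hKbot : K ≠ ⊥ := by
      have : Nontrivial M := (Subgroup.nontrivial_iff_ne_bot M).mpr hMbot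
      have := hMnil
      have h1 := Group.IsNilpotent.center_ne_bot (G := M)
      rw [Ne, Subgroup.eq_bot_iff_forall] at h1
      push Not at h1
      obtain ⟨z, hz, hz1⟩ := h1
      intro hK
      apply hz1
      have h2 : (z : E) ∈ K := by
        refine Subgroup.mem_inf.mpr ⟨z.2, ?_⟩
        rw [mem_centralizer_iff]
        intro m hm
        have := (Subgroup.mem_center_iff.mp hz) ⟨m, hm⟩
        exact congrArg Subtype.val this
      rw [hK, Subgroup.mem_bot] at h2
      exact Subtype.ext h2
    -- `y` has order `q`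
    have hyq : y ^ M.index = 1 := by
      by_contra hg
      have hgM : y ^ M.index ∈ M := Subgroup.pow_index_mem M y
      have hD := hCN (y ^ M.index) hg
      have hKD : K ≤ centralizer {y ^ M.index} := fun k hk =>
        mem_centralizer_singleton_iff.mpr (hKcomm k hk _ hgM)
      have hyD : y ∈ centralizer {y ^ M.index} :=
        mem_centralizer_singleton_iff.mpr ((Commute.refl y).pow_right _).eq
      have hKDn : (K.subgroupOf (centralizer {y ^ M.index})).Normal := inferInstance
      have hKDne : K.subgroupOf (centralizer {y ^ M.index}) ≠ ⊥ := by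
        intro h
        rw [Subgroup.subgroupOf_eq_bot, disjoint_iff, inf_eq_left.mpr hKD] at h
        exact hKbot h
      have h1 := Lib.normal_inf_center_ne_bot (K.subgroupOf (centralizer {y ^ M.index})) hKDne
      rw [Ne, Subgroup.eq_bot_iff_forall] at h1
      push Not at h1
      obtain ⟨k, hk, hk1⟩ := h1
      obtain ⟨hkK, hkc⟩ := Subgroup.mem_inf.mp hk
      apply hk1
      have h2 : (k : E) = 1 := by
        apply hKy (k : E) (Subgroup.mem_subgroupOf.mp hkK)
        have := (Subgroup.mem_center_iff.mp hkc) ⟨y, hyD⟩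
        exact congrArg Subtype.val this
      exact Subtype.ext h2
    have hyord : orderOf y = M.index :=
      orderOf_eq_prime hyq hy1
    -- the Frobenius configuration `K ⋊ ⟨y⟩`
    have hfix : ∀ h ∈ zpowers y, h ≠ 1 → ∀ k ∈ K, h * k = k * h → k = 1 := by
      intro h hh hh1 k hk hhk
      apply hKy k hk
      have hle : zpowers h ≤ zpowers y := zpowers_le.mpr hh
      have hcard : Nat.card (zpowers y) ≤ Nat.card (zpowers h) := by
        rw [Nat.card_zpowers, Nat.card_zpowers, hyord]
        have h1 : orderOf h ∣ M.index := by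
          rw [← hyord, ← Nat.card_zpowers y]
          exact Subgroup.orderOf_dvd_natCard _ hh
        rcases (Nat.dvd_prime hMq).mp h1 with h2 | h2
        · exact absurd (orderOf_eq_one_iff.mp h2) hh1
        · exact h2.ge
      have heq : zpowers h = zpowers y := Subgroup.eq_of_le_of_card_ge hle hcard
      have hyh : y ∈ zpowers h := heq ▸ mem_zpowers y
      obtain ⟨i, rfl⟩ := mem_zpowers_iff.mp hyh
      exact ((show Commute h k from hhk).zpow_left i).eq
    have hnorm : ∀ h ∈ zpowers y, ∀ k ∈ K, h * k * h⁻¹ ∈ K := fun h _ k hk =>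
      hKn.conj_mem k hk h
    have hHbot : zpowers y ≠ ⊥ := by
      rw [Ne, zpowers_eq_bot]
      exact hy1
    have hexp := pow_card_eq_one φ hφ K (zpowers y) hKbot hHbot hnorm hfix
    obtain ⟨v, hv⟩ := exists_ne (1 : V)
    apply hv
    have h1 : orderOf v ∣ Nat.card K := orderOf_dvd_of_pow_eq_one (hexp v)
    have h2 : orderOf v ∣ Nat.card E := h1.trans (Subgroup.card_subgroup_dvd_card K)
    have h3 : orderOf v ∣ Nat.card V := orderOf_dvd_natCard v
    exact orderOf_eq_one_iff.mp (Nat.eq_one_of_dvd_coprimes hcop h2 h3)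

/-- Version of `nilpotent_of_fpf_cn` for a group `V` with a commutativity hypothesis. -/
theorem nilpotent_of_fpf_cn' {V : Type*} [Group V] [Finite V] [Nontrivial V]
    (hV : ∀ a b : V, a * b = b * a) (E : Type*) [Group E] [Finite E] (φ : E →* MulAut V)
    (hφ : ∀ e : E, e ≠ 1 → ∀ v : V, φ e v = v → v = 1)
    (hcop : (Nat.card E).Coprime (Nat.card V)) (hCN : Cfsg.IsCNGroup E) :
    Group.IsNilpotent E := by
  letI : CommGroup V := { ‹Group V› with mul_comm := hV }
  exact nilpotent_of_fpf_cn (V := V) (Nat.card E) E rfl φ hφ hcop hCN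

end Cfsg.Agent.Helper95.Fpf
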