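import Mathlib
import Cfsg.Prelude.Def_LieExceptional
import Cfsg.Agent.Helper15.ZassCount
import Cfsg.Agent.Helper61.ZsData

/-!
# Zassenhaus groups: divisibility `d ∣ n - 1`, sharp triple transitivity, Zassenhaus data (helper95)
-/

set_option autoImplicit false
set_option linter.unusedSectionVars false
set_option linter.style.haveILetI false

namespace Cfsg.Agent.Helper95.ZassAbelian

open Cfsg MulAction

universe u v

variable {G : Type u} {Ω : Type v} [Group G] [MulAction G Ω]

/-- The two-point stabiliser acts semiregularly on the remaining points: its order divides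
`|Ω| - 2` (Burnside's lemma). -/
theorem card_stab2_dvd_sub_two [Finite G] [Fintype Ω]
    (h3f : ∀ g : G, ∀ a b c : Ω, a ≠ b → b ≠ c → a ≠ c → g • a = a → g • b = b → g • c = c → g = 1)
    {a b : Ω} (hab : a ≠ b) :
    Nat.card ↥(stabilizer G a ⊓ stabilizer G b) ∣ Fintype.card Ω - 2 := by
  classical
  haveI : Fintype ↥(stabilizer G a ⊓ stabilizer G b) := Fintype.ofFinite _
  have hB := MulAction.sum_card_fixedBy_eq_card_orbits_mul_card_group
    ↥(stabilizer G a ⊓ stabilizer G b) Ω
  have h2le : 2 ≤ Fintype.card Ω := by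
    have : ({a, b} : Finset Ω).card ≤ Fintype.card Ω := Finset.card_le_univ _
    rwa [Finset.card_pair hab] at this
  have hfix : ∀ h : ↥(stabilizer G a ⊓ stabilizer G b),
      Fintype.card (fixedBy Ω h) = if h = 1 then Fintype.card Ω else 2 := by
    intro h
    have hha : (h : G) • a = a := mem_stabilizer_iff.mp (Subgroup.mem_inf.mp h.2).1
    have hhb : (h : G) • b = b := mem_stabilizer_iff.mp (Subgroup.mem_inf.mp h.2).2
    by_cases h1 : h = 1
    · rw [if_pos h1, h1]
      have : fixedBy Ω (1 : ↥(stabilizer G a ⊓ stabilizer G b)) = Set.univ := by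
        ext c; simp [mem_fixedBy]
      rw [Fintype.card_congr (Equiv.setCongr this), Fintype.card_congr (Equiv.Set.univ Ω)]
    · rw [if_neg h1]
      have : fixedBy Ω h = ({a, b} : Set Ω) := by
        ext c
        rw [mem_fixedBy, Set.mem_insert_iff, Set.mem_singleton_iff]
        constructor
        · intro hc
          by_contra hcon
          push Not at hcon
          apply h1
          apply Subtype.ext
          exact h3f h a b c hab hcon.2.symm hcon.1.symm hha hhb hc
        · rintro (rfl | rfl)
          · exact hha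
          · exact hhb
      rw [Fintype.card_congr (Equiv.setCongr this), Fintype.card_eq_nat_card,
        Nat.card_coe_set_eq, Set.ncard_pair hab]
  rw [Finset.sum_congr rfl (fun h _ => hfix h),
    ← Finset.add_sum_erase Finset.univ _ (Finset.mem_univ (1 : ↥(stabilizer G a ⊓ stabilizer G b))),
    if_pos rfl] at hB
  have herase : ∑ h ∈ (Finset.univ : Finset ↥(stabilizer G a ⊓ stabilizer G b)).erase 1,
      (if h = 1 then Fintype.card Ω else 2) =
      (Fintype.card ↥(stabilizer G a ⊓ stabilizer G b) - 1) * 2 := by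
    rw [Finset.sum_congr rfl (fun h hh => if_neg (Finset.ne_of_mem_erase hh)),
      Finset.sum_const, Finset.card_erase_of_mem (Finset.mem_univ _), Finset.card_univ,
      smul_eq_mul]
  rw [herase] at hB
  rw [Nat.card_eq_fintype_card]
  have hpos : 0 < Fintype.card ↥(stabilizer G a ⊓ stabilizer G b) := Fintype.card_pos
  have hdvd : Fintype.card ↥(stabilizer G a ⊓ stabilizer G b) ∣
      Fintype.card Ω + (Fintype.card ↥(stabilizer G a ⊓ stabilizer G b) - 1) * 2 :=
    ⟨_, hB.trans (mul_comm _ _)⟩
  have e : Fintype.card Ω + (Fintype.card ↥(stabilizer G a ⊓ stabilizer G b) - 1) * 2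
      = (Fintype.card Ω - 2) + 2 * Fintype.card ↥(stabilizer G a ⊓ stabilizer G b) := by
    omega
  rw [e] at hdvd
  exact (Nat.dvd_add_left (dvd_mul_left _ _)).mp hdvd

/-- A doubly transitive group with trivial three-point stabilisers whose two-point stabilisers
have order `|Ω| - 2` is sharply triply transitive. -/
theorem sharp_of_card [Finite G] [Fintype Ω] (h2 : IsMultiplyPretransitive G Ω 2)
    (h3f : ∀ g : G, ∀ a b c : Ω, a ≠ b → b ≠ c → a ≠ c → g • a = a → g • b = b → g • c = c → g = 1)
    {a b : Ω} (hab : a ≠ b)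
    (hd : Nat.card ↥(stabilizer G a ⊓ stabilizer G b) = Fintype.card Ω - 2) :
    IsMultiplyPretransitive G Ω 3 ∧ ∀ t : Fin 3 ↪ Ω, stabilizer G t = ⊥ := by
  classical
  haveI : Fintype G := Fintype.ofFinite G
  have hfree : ∀ t : Fin 3 ↪ Ω, stabilizer G t = ⊥ := by
    intro t
    rw [eq_bot_iff]
    intro g hg
    rw [mem_stabilizer_iff] at hg
    rw [Subgroup.mem_bot]
    have hi : ∀ i, g • t i = t i := fun i => by
      have := DFunLike.congr_fun hg i
      simpa using this
    have h01 : t 0 ≠ t 1 := fun h => by simpa using t.injective h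
    have h12 : t 1 ≠ t 2 := fun h => by simpa using t.injective h
    have h02 : t 0 ≠ t 2 := fun h => by simpa using t.injective h
    exact h3f g (t 0) (t 1) (t 2) h01 h12 h02 (hi 0) (hi 1) (hi 2)
  refine ⟨?_, hfree⟩
  have hG := Cfsg.Agent.Helper15.Zass.card_group_eq h2 hab
  rw [hd] at hG
  have h2le : 2 ≤ Fintype.card Ω := by
    have : ({a, b} : Finset Ω).card ≤ Fintype.card Ω := Finset.card_le_univ _
    rwa [Finset.card_pair hab] at this
  have hE : Nat.card (Fin 3 ↪ Ω) = Nat.card G := by
    rw [Nat.card_eq_fintype_card, Fintype.card_embedding_eq, Fintype.card_fin, hG]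
    obtain ⟨m, hm⟩ : ∃ m, Fintype.card Ω = m + 2 := ⟨Fintype.card Ω - 2, by omega⟩
    rw [hm]
    have e1 : (m + 2) * (m + 2) - (m + 2) = (m + 2) * (m + 1) := by
      rw [Nat.sub_eq_iff_eq_add (Nat.le_mul_self _)]; ring
    rw [e1, Nat.add_sub_cancel]
    simp [Nat.descFactorial]
    ring
  refine ⟨fun s t => ?_⟩
  have horb : orbit G s = Set.univ := by
    apply Set.eq_of_subset_of_ncard_le (Set.subset_univ _) _ (Set.toFinite _)
    rw [Set.ncard_univ, hE, ← MulAction.index_stabilizer, hfree s, Subgroup.index_bot]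
  have : t ∈ orbit G s := by rw [horb]; exact Set.mem_univ _
  exact this

/-- Zassenhaus data from a Zassenhaus group with a regular normal subgroup of a point
stabiliser. -/
theorem zdata [Finite Ω] (hZ : Cfsg.IsZassenhausGroup G Ω) {x b : Ω} (hxb : x ≠ b)
    (F : Subgroup G) (hFle : F ≤ stabilizer G x)
    (hFn : ∀ h ∈ stabilizer G x, ∀ u ∈ F, h * u * h⁻¹ ∈ F)
    (hreg : ∀ y z : Ω, y ≠ x → z ≠ x → ∃! u : F, (u : G) • y = z) :
    Cfsg.Agent.Helper61.Zs.ZData x b F := by
  classical
  haveI : Fintype Ω := Fintype.ofFinite Ω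
  obtain ⟨hf, h2, h3f, -, -⟩ := id hZ
  have h3 := Cfsg.Agent.Helper60.Zassenhaus.three_le_card hZ
  obtain ⟨w, hw⟩ : ∃ w : Ω, w ≠ x ∧ w ≠ b := by
    by_contra hcon
    push Not at hcon
    have : (Finset.univ : Finset Ω) ⊆ {x, b} := by
      intro y _
      rw [Finset.mem_insert, Finset.mem_singleton]
      by_cases hy : y = x
      · exact Or.inl hy
      · exact Or.inr (hcon y hy)
    have := Finset.card_le_card this
    rw [Finset.card_univ] at this
    have h2' : ({x, b} : Finset Ω).card ≤ 2 := Finset.card_le_two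
    omega
  exact
    { ne := hxb
      third := ⟨w, hw⟩
      two_trans := fun y z y' z' hyz hyz' =>
        Cfsg.Agent.Helper60.Zassenhaus.exists_map2 h2 hyz hyz'
      three_fixed := h3f
      K_fix := fun k hk => mem_stabilizer_iff.mp (hFle hk)
      K_norm := fun g hg k hk => hFn g (mem_stabilizer_iff.mpr hg) k hk
      K_trans := fun y z hy hz => by
        obtain ⟨u, hu, -⟩ := hreg y z hy hz
        exact ⟨u.1, u.2, hu⟩
      K_free := fun k hk y hy hky => by
        obtain ⟨u, -, huniq⟩ := hreg y y hy hy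
        have h1 := huniq ⟨k, hk⟩ hky
        have h2' := huniq 1 (by simp)
        have : (⟨k, hk⟩ : F) = 1 := h1.trans h2'.symm
        exact congrArg Subtype.val this }

end Cfsg.Agent.Helper95.ZassAbelian
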