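import Mathlib
import Cfsg.Agent.Helper61.ZqPSL2

/-!
# Port of helper61's `Zq` uniqueness engine to `q ≡ 3 (mod 4)` (helper95), part 1

`ZrGroup Γ`: a subgroup `Γ` of `Perm (Option F)` (`F` a finite field with `q ≡ 3 (mod 4)`
elements) of order `(q+1) q (q-1)/2`, containing all translations, transitive on the `q + 1`
points and whose stabiliser of infinity consists of affine maps.  The lemmas below are copies of
helper61's `ZqStab`/`ZqSquares` lemmas for this structure (the definitions `tr`, `ml`, `stabB`,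
`stabH`, `mults` are helper61's).
-/

set_option autoImplicit false
set_option linter.unusedSectionVars false

namespace Cfsg.Agent.Helper95.Zr

open Equiv MulAction
open Cfsg.Agent.Helper61
open Cfsg.Agent.Helper61.Zq

variable {F : Type*} [Field F] [Fintype F] [DecidableEq F]

/-- The hypotheses on `Γ`. -/
structure ZrGroup (Γ : Subgroup (Perm (Option F))) : Prop where
  mod4 : Fintype.card F % 4 = 3
  card : Nat.card Γ = (Fintype.card F + 1) * Fintype.card F * ((Fintype.card F - 1) / 2)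
  tr_mem : ∀ b : F, tr b ∈ Γ
  affine : ∀ g ∈ Γ, g none = none → ∃ (k : Fˣ) (c : F), g = tr c * ml k
  trans : ∀ x y : Option F, ∃ g ∈ Γ, g x = y

variable {Γ : Subgroup (Perm (Option F))}


theorem ZrGroup.tr_mem_stabB (hΓ : ZrGroup Γ) (b : F) : tr b ∈ stabB Γ :=
  mem_stabB.mpr ⟨hΓ.tr_mem b, tr_none b⟩

theorem ZrGroup.card_stabB (hΓ : ZrGroup Γ) :
    Nat.card (stabB Γ) = Fintype.card F * ((Fintype.card F - 1) / 2) := by
  have h := Zp.card_eq_card_mul_stab Γ (none : Option F) Finset.univ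
    (fun _ _ => Finset.mem_univ _) (fun y _ => hΓ.trans none y)
  rw [Finset.card_univ, Fintype.card_option, hΓ.card] at h
  have hp : 0 < Fintype.card F + 1 := Nat.succ_pos _
  unfold stabB
  have h' : (Fintype.card F + 1) * (Fintype.card F * ((Fintype.card F - 1) / 2))
      = (Fintype.card F + 1) * Nat.card (Γ ⊓ stabilizer (Perm (Option F)) (none : Option F)
          : Subgroup _) := by
    rw [← h]; ring
  exact (Nat.eq_of_mul_eq_mul_left hp h').symm

theorem ZrGroup.card_stabH (hΓ : ZrGroup Γ) :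
    Nat.card (stabH Γ) = (Fintype.card F - 1) / 2 := by
  have h := Zp.card_eq_card_mul_stab (stabB Γ) (some (0 : F))
    (Finset.univ.image (some : F → Option F))
    (fun g hg => by
      rw [mem_stabB] at hg
      rcases hx : g (some 0) with _ | y
      · exfalso
        have := g.injective (hx.trans hg.2.symm)
        simp at this
      · simp)
    (fun y hy => by
      rw [Finset.mem_image] at hy
      obtain ⟨b, -, rfl⟩ := hy
      exact ⟨tr b, hΓ.tr_mem_stabB b, by simp⟩)
  rw [Finset.card_image_of_injective _ (Option.some_injective _), Finset.card_univ,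
    hΓ.card_stabB] at h
  have hp : 0 < Fintype.card F := Fintype.card_pos
  unfold stabH
  exact (Nat.eq_of_mul_eq_mul_left hp h).symm

/-- Elements of the stabiliser of infinity and zero are multiplications. -/
theorem ZrGroup.stabH_ml (hΓ : ZrGroup Γ) {g : Perm (Option F)}
    (hg : g ∈ stabH Γ) : ∃ k : Fˣ, g = ml k := by
  rw [mem_stabH] at hg
  obtain ⟨k, c, rfl⟩ := hΓ.affine g hg.1 hg.2.1
  have h0 := hg.2.2
  simp only [Perm.mul_apply, ml_some, mul_zero, tr_some, zero_add, Option.some.injEq] at h0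
  refine ⟨k, ?_⟩
  rw [h0, tr_zero, one_mul]

theorem ZrGroup.three_le (hΓ : ZrGroup Γ) : 3 ≤ Fintype.card F := by
  have h := hΓ.mod4
  omega

theorem ZrGroup.odd (hΓ : ZrGroup Γ) : Fintype.card F % 2 = 1 := by
  have h := hΓ.mod4
  omega

theorem ZrGroup.two_mul_half (hΓ : ZrGroup Γ) :
    2 * ((Fintype.card F - 1) / 2) = Fintype.card F - 1 := by
  have := hΓ.odd
  omega

theorem ZrGroup.ringChar_ne_two (hΓ : ZrGroup Γ) : ringChar F ≠ 2 := by
  intro h
  have h2 := FiniteField.even_card_iff_char_two.mp h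
  have := hΓ.odd
  omega

theorem ZrGroup.two_ne_zero (hΓ : ZrGroup Γ) : (2 : F) ≠ 0 :=
  Ring.two_ne_zero hΓ.ringChar_ne_two

theorem ZrGroup.map_mults (hΓ : ZrGroup Γ) : (mults Γ).map mlHom = stabH Γ := by
  ext g
  rw [Subgroup.mem_map, mem_stabH]
  constructor
  · rintro ⟨k, hk, rfl⟩
    exact ⟨hk, by simp, by simp⟩
  · intro hg
    obtain ⟨k, rfl⟩ := hΓ.stabH_ml (mem_stabH.mpr hg)
    exact ⟨k, hg.1, rfl⟩

theorem ZrGroup.card_mults (hΓ : ZrGroup Γ) :
    Nat.card (mults Γ) = (Fintype.card F - 1) / 2 := by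
  rw [← hΓ.card_stabH, ← hΓ.map_mults]
  exact (Subgroup.card_map_of_injective (f := mlHom) ml_injective).symm

theorem ZrGroup.index_mults (hΓ : ZrGroup Γ) : (mults Γ).index = 2 := by
  have h := Subgroup.card_mul_index (mults Γ)
  rw [hΓ.card_mults, Nat.card_eq_fintype_card, Fintype.card_units] at h
  have hpos : 0 < (Fintype.card F - 1) / 2 := by
    have := hΓ.three_le
    omega
  have h' : (Fintype.card F - 1) / 2 * (mults Γ).index = (Fintype.card F - 1) / 2 * 2 := by
    rw [h, mul_comm]; exact hΓ.two_mul_half.symm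
  exact Nat.eq_of_mul_eq_mul_left hpos h'

/-- multiplications by squares lie in `Γ` -/
theorem ZrGroup.ml_sq_mem (hΓ : ZrGroup Γ) {k : Fˣ} (hk : IsSquare k) : ml k ∈ Γ := by
  obtain ⟨j, rfl⟩ := hk
  exact Subgroup.mul_self_mem_of_index_two hΓ.index_mults j

/-- a multiplication lying in `Γ` is by a square -/
theorem ZrGroup.isSquare_of_ml_mem (hΓ : ZrGroup Γ) {k : Fˣ} (hk : ml k ∈ Γ) :
    IsSquare k := by
  have h1 : (⟨k, hk⟩ : mults Γ) ^ Nat.card (mults Γ) = 1 := pow_card_eq_one'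
  rw [hΓ.card_mults] at h1
  have h2 : k ^ ((Fintype.card F - 1) / 2) = 1 := by
    have := congrArg Subtype.val h1
    simpa using this
  have h3 : (Fintype.card F - 1) / 2 = Fintype.card F / 2 := by
    have := hΓ.odd
    omega
  rw [h3] at h2
  exact (FiniteField.unit_isSquare_iff hΓ.ringChar_ne_two k).mpr h2

theorem ZrGroup.ml_mem_iff (hΓ : ZrGroup Γ) {k : Fˣ} : ml k ∈ Γ ↔ IsSquare k :=
  ⟨hΓ.isSquare_of_ml_mem, hΓ.ml_sq_mem⟩

/-- Elements of the stabiliser of infinity: affine with square multiplier. -/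
theorem ZrGroup.stabB_affine_sq (hΓ : ZrGroup Γ) {g : Perm (Option F)}
    (hg : g ∈ Γ) (hgn : g none = none) :
    ∃ (k : Fˣ) (c : F), IsSquare k ∧ g = tr c * ml k := by
  obtain ⟨k, c, rfl⟩ := hΓ.affine g hg hgn
  refine ⟨k, c, ?_, rfl⟩
  apply hΓ.isSquare_of_ml_mem
  have : ml k = (tr c)⁻¹ * (tr c * ml k) := by rw [inv_mul_cancel_left]
  rw [this]
  exact Γ.mul_mem (Γ.inv_mem (hΓ.tr_mem c)) hg

/-- Elements of the stabiliser of infinity and zero: multiplications by squares. -/
theorem ZrGroup.stabH_ml_sq (hΓ : ZrGroup Γ) {g : Perm (Option F)}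
    (hg : g ∈ Γ) (hgn : g none = none) (hg0 : g (some 0) = some 0) :
    ∃ k : Fˣ, IsSquare k ∧ g = ml k := by
  obtain ⟨k, rfl⟩ := hΓ.stabH_ml (mem_stabH.mpr ⟨hg, hgn, hg0⟩)
  exact ⟨k, hΓ.isSquare_of_ml_mem hg, rfl⟩

end Cfsg.Agent.Helper95.Zr
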