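import Mathlib
import Cfsg.Agent.Helper95.Zr1

/-!
# Port of helper61's `Zq` uniqueness engine to `q ≡ 3 (mod 4)` (helper95), part 2

A `ZrGroup` with a *good swap* (an involution of `Γ` interchanging zero and infinity, inverting the
multiplications by squares, without fixed points) is the standard set, hence isomorphic to
`PSL(2,F)`.  The proofs are copies/ports of helper61's `ZqTau`/`ZqCore`/`ZqPSL2` and of the
`p ≡ 3 (mod 4)` branch of `ZpTau`.
-/

set_option autoImplicit false
set_option linter.unusedSectionVars false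

namespace Cfsg.Agent.Helper95.Zr

open Equiv MulAction Matrix
open Cfsg.Agent.Helper61
open Cfsg.Agent.Helper61.Zq

variable {F : Type*} [Field F] [Fintype F] [DecidableEq F] {Γ : Subgroup (Perm (Option F))}
  {t : Perm (Option F)}

/-- a good swap, for `q ≡ 3 (mod 4)` -/
structure GoodSwap3 (Γ : Subgroup (Perm (Option F))) (t : Perm (Option F)) : Prop where
  swap : IsSwap Γ t
  sq : t * t = 1
  inv : ∀ k : Fˣ, IsSquare k → t * ml k * t = ml k⁻¹
  fix3 : ∀ x : F, t (some x) ≠ some x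

section Basic

variable (ht : GoodSwap3 Γ t)
include ht

theorem GoodSwap3.apply_apply (u : Option F) : t (t u) = u := by
  have := congrArg (fun f : Perm (Option F) => f u) ht.sq
  simpa [Perm.mul_apply] using this

theorem GoodSwap3.tau_spec {x : F} (hx : x ≠ 0) :
    t (some x) = some (tau t x) ∧ tau t x ≠ 0 := by
  unfold tau
  rcases h : t (some x) with _ | y
  · exfalso
    have := ht.apply_apply (some x)
    rw [h, ht.swap.2.1] at this
    exact hx (Option.some.inj this).symm
  · refine ⟨by simp, ?_⟩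
    simp only [Option.getD_some]
    rintro rfl
    have := ht.apply_apply (some x)
    rw [h, ht.swap.2.2] at this
    simp at this

theorem GoodSwap3.tau_tau {x : F} (hx : x ≠ 0) : tau t (tau t x) = x := by
  obtain ⟨h1, h2⟩ := ht.tau_spec hx
  obtain ⟨h3, -⟩ := ht.tau_spec h2
  have := ht.apply_apply (some x)
  rw [h1, h3] at this
  exact Option.some.inj this

theorem GoodSwap3.tau_mul {k : Fˣ} (hk : IsSquare k) {x : F} (hx : x ≠ 0) :
    tau t ((k : F) * x) = ((k⁻¹ : Fˣ) : F) * tau t x := by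
  have hrel : t * ml k = ml k⁻¹ * t := by
    have := ht.inv k hk
    calc t * ml k = t * ml k * (t * t) := by rw [ht.sq, mul_one]
      _ = (t * ml k * t) * t := by group
      _ = ml k⁻¹ * t := by rw [this]
  have hkx : (k : F) * x ≠ 0 := mul_ne_zero k.ne_zero hx
  obtain ⟨h1, -⟩ := ht.tau_spec hkx
  obtain ⟨h2, -⟩ := ht.tau_spec hx
  have := congrArg (fun f : Perm (Option F) => f (some x)) hrel
  simp only [Perm.mul_apply, ml_some] at this
  rw [h1, h2, ml_some] at this
  exact Option.some.inj this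

/-- `x τ(x)` is invariant under multiplication of `x` by squares -/
theorem GoodSwap3.gam_mul {s : F} (hs : IsSquare s) (hs0 : s ≠ 0) {x : F} (hx : x ≠ 0) :
    (s * x) * tau t (s * x) = x * tau t x := by
  have hk : IsSquare (Units.mk0 s hs0) := (isSquare_units_iff _).mpr (by simpa using hs)
  have h := ht.tau_mul hk hx
  rw [Units.val_mk0] at h
  rw [h]
  have : s * ((Units.mk0 s hs0)⁻¹ : Fˣ) = 1 := by
    have := (Units.mk0 s hs0).mul_inv
    rwa [Units.val_mk0] at this
  linear_combination (x * tau t x) * this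

theorem GoodSwap3.gam_sq {s : F} (hs : IsSquare s) (hs0 : s ≠ 0) :
    s * tau t s = tau t 1 := by
  have := ht.gam_mul hs hs0 (x := 1) one_ne_zero
  rwa [mul_one, one_mul] at this

theorem GoodSwap3.gam_nonsq {n n' : F} (hn : ¬ IsSquare n) (hn' : ¬ IsSquare n') :
    n * tau t n = n' * tau t n' := by
  have hn0 := ne_zero_of_not_isSquare hn
  have hn'0 := ne_zero_of_not_isSquare hn'
  have hs : IsSquare (n * n'⁻¹) := by
    rw [isSquare_mul_iff hn0 (inv_ne_zero hn'0), isSquare_inv_iff hn'0]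
    exact ⟨fun h => absurd h hn, fun h => absurd h hn'⟩
  have := ht.gam_mul hs (mul_ne_zero hn0 (inv_ne_zero hn'0)) hn'0
  have e : n * n'⁻¹ * n' = n := by rw [mul_assoc, inv_mul_cancel₀ hn'0, mul_one]
  rwa [e] at this

end Basic

/-- **Determination of the swap**: `x τ(x) = κ` is constant, and `-κ` is a square. -/
theorem GoodSwap3.tau_eq (hΓ : ZrGroup Γ) (ht : GoodSwap3 Γ t) :
    ∃ κ : F, κ ≠ 0 ∧ IsSquare (-κ) ∧ ∀ x : F, x ≠ 0 → x * tau t x = κ := by
  have h1ne : (1 : F) ≠ 0 := one_ne_zero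
  have hκ0 : tau t 1 ≠ 0 := (ht.tau_spec h1ne).2
  have hτκ : tau t (tau t 1) = 1 := ht.tau_tau h1ne
  have hconst_of_nonsq : ¬ IsSquare (tau t 1) → ∀ x : F, x ≠ 0 → x * tau t x = tau t 1 := by
    intro hns x hx
    by_cases hxs : IsSquare x
    · exact ht.gam_sq hxs hx
    · rw [ht.gam_nonsq hxs hns, hτκ, mul_one]
  have hm1 : ¬ IsSquare (-1 : F) := by
    rw [FiniteField.isSquare_neg_one_iff]
    have := hΓ.mod4
    omega
  have hm1ne : (-1 : F) ≠ 0 := neg_ne_zero.mpr h1ne
  have hnegsq : ∀ y : F, y ≠ 0 → (IsSquare (-y) ↔ ¬ IsSquare y) := by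
    intro y hy
    have : -y = (-1) * y := by ring
    rw [this, isSquare_mul_iff hm1ne hy]
    exact ⟨fun h hy' => hm1 (h.mpr hy'), fun h => ⟨fun h' => absurd h' hm1, fun h' => absurd h' h⟩⟩
  have hκns : ¬ IsSquare (tau t 1) := by
    rintro ⟨w, hw⟩
    have hw0 : w ≠ 0 := by
      rintro rfl
      rw [mul_zero] at hw
      exact hκ0 hw
    have key : ∀ x : F, x ≠ 0 → IsSquare x → x * x = tau t 1 → False := by
      intro x hx hxs hxx
      have h1 := ht.gam_sq hxs hx
      have h2 : tau t x = x := by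
        have : x * (tau t x - x) = 0 := by linear_combination h1 - hxx
        rcases mul_eq_zero.mp this with h | h
        · exact absurd h hx
        · linear_combination h
      have h3 := (ht.tau_spec hx).1
      rw [h2] at h3
      exact ht.fix3 x h3
    by_cases hws : IsSquare w
    · exact key w hw0 hws hw.symm
    · exact key (-w) (neg_ne_zero.mpr hw0) ((hnegsq w hw0).mpr hws) (by rw [hw]; ring)
  exact ⟨tau t 1, hκ0, (hnegsq _ hκ0).mpr hκns, hconst_of_nonsq hκns⟩

/-- **Core theorem.** -/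
theorem ZrGroup.eq_std (hΓ : ZrGroup Γ) {t : Perm (Option F)} (ht : GoodSwap3 Γ t) :
    (Γ : Set (Perm (Option F))) = Std F := by
  obtain ⟨κ, hκ0, hκsq, hγ⟩ := ht.tau_eq hΓ
  have hnκ0 : -κ ≠ 0 := neg_ne_zero.mpr hκ0
  set c₀ : Fˣ := Units.mk0 (-κ) hnκ0 with hc₀
  have hc₀sq : IsSquare c₀ := (isSquare_units_iff _).mpr (by rw [hc₀, Units.val_mk0]; exact hκsq)
  have ht_eq : t = ml c₀ * inv0 := by
    ext u : 1
    rcases u with _ | x
    · rw [ht.swap.2.1, Perm.mul_apply, inv0_none, ml_some, mul_zero]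
    · by_cases hx : x = 0
      · rw [hx, ht.swap.2.2, Perm.mul_apply, inv0_zero, ml_none]
      · rw [(ht.tau_spec hx).1, Perm.mul_apply, inv0_some hx, ml_some, hc₀, Units.val_mk0]
        congr 1
        have := hγ x hx
        field_simp
        linear_combination this
  have htinv : t⁻¹ = t := inv_eq_of_mul_eq_one_left ht.sq
  have hinv0 : inv0 ∈ Γ := by
    have : (inv0 : Perm (Option F)) = (ml c₀)⁻¹ * t := by rw [ht_eq, inv_mul_cancel_left]
    rw [this]
    exact Γ.mul_mem (Γ.inv_mem (hΓ.ml_sq_mem hc₀sq)) ht.swap.1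
  ext g
  simp only [SetLike.mem_coe]
  constructor
  · intro hg
    rcases hgn : g none with _ | f
    · obtain ⟨k, c, hk, rfl⟩ := hΓ.stabB_affine_sq hg hgn
      exact Or.inl ⟨k, c, hk, rfl⟩
    · have hmem : t * tr (-f) * g ∈ Γ := Γ.mul_mem (Γ.mul_mem ht.swap.1 (hΓ.tr_mem _)) hg
      have hnone : (t * tr (-f) * g : Perm (Option F)) none = none := by
        simp only [Perm.mul_apply]
        rw [hgn, tr_some, add_neg_cancel, ht.swap.2.2]
      obtain ⟨k, c, hk, hE⟩ := hΓ.stabB_affine_sq hmem hnone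
      refine Or.inr ⟨f, c₀, k, c, hc₀sq, hk, ?_⟩
      have : g = tr f * t * (t * tr (-f) * g) := by
        rw [tr_neg]
        calc g = tr f * (t * t) * (tr f)⁻¹ * g := by rw [ht.sq]; group
          _ = tr f * t * (t * (tr f)⁻¹ * g) := by group
      rw [this, hE, ht_eq]
      group
  · rintro (⟨k, c, hk, rfl⟩ | ⟨f, a, k, c, ha, hk, rfl⟩)
    · exact Γ.mul_mem (hΓ.tr_mem c) (hΓ.ml_sq_mem hk)
    · exact Γ.mul_mem (Γ.mul_mem (Γ.mul_mem (hΓ.tr_mem f) (hΓ.ml_sq_mem ha)) hinv0)
        (Γ.mul_mem (hΓ.tr_mem c) (hΓ.ml_sq_mem hk))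

/-- Two `ZrGroup`s with good swaps coincide. -/
theorem ZrGroup.unique {Γ₁ Γ₂ : Subgroup (Perm (Option F))} (h₁ : ZrGroup Γ₁)
    (h₂ : ZrGroup Γ₂) {t₁ t₂ : Perm (Option F)} (ht₁ : GoodSwap3 Γ₁ t₁) (ht₂ : GoodSwap3 Γ₂ t₂) :
    Γ₁ = Γ₂ :=
  SetLike.coe_injective ((h₁.eq_std ht₁).trans (h₂.eq_std ht₂).symm)

theorem card_mobRange (hq : Fintype.card F % 4 = 3) :
    Nat.card (mobRange : Subgroup (Perm (Option F)))
      = (Fintype.card F + 1) * Fintype.card F * ((Fintype.card F - 1) / 2) := by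
  rw [← Nat.card_congr (pslEquivMobRange (F := F)).toEquiv]
  have hodd : Odd (Fintype.card F) := Nat.odd_iff.mpr (by omega)
  have hc := Cfsg.Agent.Helper5.card_PSL2_mul (F := F)
  rw [Cfsg.Agent.Helper5.card_center_SL2_of_two_ne_zero
    (Cfsg.Agent.Helper5.two_ne_zero_of_odd_card hodd)] at hc
  set q := Fintype.card F with hqdef
  have h1 : 1 ≤ q := by omega
  have hsq : q ^ 2 - 1 = (q + 1) * (q - 1) := by
    zify [h1, Nat.one_le_pow 2 q (by omega)]
    ring
  have hhalf : 2 * ((q - 1) / 2) = q - 1 := by omega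
  have : Nat.card (Matrix.ProjectiveSpecialLinearGroup (Fin 2) F) * 2
      = ((q + 1) * q * ((q - 1) / 2)) * 2 := by
    rw [hc, hsq]
    calc q * ((q + 1) * (q - 1)) = q * ((q + 1) * (2 * ((q - 1) / 2))) := by rw [hhalf]
      _ = ((q + 1) * q * ((q - 1) / 2)) * 2 := by ring
  exact Nat.eq_of_mul_eq_mul_right (by norm_num) this

theorem zrGroup_mobRange (hq : Fintype.card F % 4 = 3) :
    ZrGroup (mobRange : Subgroup (Perm (Option F))) where
  mod4 := hq
  card := card_mobRange hq
  tr_mem := fun b => ⟨umat b, mob_umat b⟩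
  affine := by
    rintro _ ⟨g, rfl⟩ hnone
    rw [mob_none] at hnone
    have hc : g.1 1 0 = 0 := by
      by_contra hc
      rw [if_neg hc] at hnone
      exact absurd hnone (by simp)
    have hdet := g.2
    rw [Matrix.det_fin_two, hc] at hdet
    have ha : g.1 0 0 ≠ 0 := by
      rintro h
      rw [h] at hdet
      simp at hdet
    have hd : g.1 1 1 ≠ 0 := by
      rintro h
      rw [h] at hdet
      simp at hdet
    refine ⟨Units.mk0 (g.1 0 0 / g.1 1 1) (div_ne_zero ha hd), g.1 0 1 / g.1 1 1, ?_⟩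
    ext o : 1
    cases o with
    | none => rw [mob_none, hc]; simp
    | some x =>
      rw [mob_some, hc]
      simp only [zero_mul, zero_add, hd, if_false, Perm.mul_apply, ml_some, tr_some,
        Units.val_mk0, Option.some.injEq]
      field_simp
  trans := by
    have key : ∀ x : Option F, ∃ g ∈ (mobRange : Subgroup (Perm (Option F))), g (some 0) = x := by
      intro x
      cases x with
      | none => exact ⟨mob wmat, ⟨wmat, rfl⟩, mob_wmat_zero⟩
      | some b => exact ⟨mob (umat b), ⟨umat b, rfl⟩, by rw [mob_umat]; simp⟩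
    intro x y
    obtain ⟨g₁, hg₁, h₁⟩ := key x
    obtain ⟨g₂, hg₂, h₂⟩ := key y
    refine ⟨g₂ * g₁⁻¹, Subgroup.mul_mem _ hg₂ (Subgroup.inv_mem _ hg₁), ?_⟩
    rw [Perm.mul_apply, ← h₁, Perm.inv_eq_iff_eq.mpr rfl, h₂]

theorem mob_wmat_eq : mob (wmat : SpecialLinearGroup (Fin 2) F) = inv0 := by
  ext o : 1
  cases o with
  | none => rw [mob_none]; simp [wmat]
  | some x =>
    by_cases hx : x = 0
    · rw [hx, mob_wmat_zero, inv0_zero]
    · rw [mob_some, inv0_some hx]
      simp [wmat, hx, neg_div]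

theorem inv0_mul_ml_mul_inv0 (k : Fˣ) : (inv0 : Perm (Option F)) * ml k * inv0 = ml k⁻¹ := by
  ext o : 1
  cases o with
  | none => simp [Perm.mul_apply]
  | some x =>
    by_cases hx : x = 0
    · simp [Perm.mul_apply, hx]
    · have hx' : -x⁻¹ ≠ 0 := neg_ne_zero.mpr (inv_ne_zero hx)
      have hkx : (k : F) * -x⁻¹ ≠ 0 := mul_ne_zero k.ne_zero hx'
      rw [Perm.mul_apply, Perm.mul_apply, inv0_some hx, ml_some, inv0_some hkx, ml_some,
        Option.some.injEq, Units.val_inv_eq_inv_val]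
      field_simp

theorem goodSwap3_mobRange (hq : Fintype.card F % 4 = 3) :
    GoodSwap3 (mobRange : Subgroup (Perm (Option F))) inv0 where
  swap := ⟨⟨wmat, mob_wmat_eq⟩, inv0_none, inv0_zero⟩
  sq := inv0_mul_self
  inv := fun k _ => inv0_mul_ml_mul_inv0 k
  fix3 := by
    intro x hx
    by_cases hx0 : x = 0
    · rw [hx0, inv0_zero] at hx
      exact absurd hx (by simp)
    · rw [inv0_some hx0, Option.some.injEq] at hx
      have h1 : IsSquare (-1 : F) := by
        refine ⟨x, ?_⟩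
        field_simp at hx
        linear_combination hx
      rw [FiniteField.isSquare_neg_one_iff] at h1
      omega

/-- **Every `ZrGroup` with a good swap is isomorphic to `PSL(2,F)`.** -/
theorem ZrGroup.iso_psl (hΓ : ZrGroup Γ) (ht : GoodSwap3 Γ t) :
    Nonempty (Γ ≃* Matrix.ProjectiveSpecialLinearGroup (Fin 2) F) := by
  have h := hΓ.unique (zrGroup_mobRange hΓ.mod4) ht (goodSwap3_mobRange hΓ.mod4)
  exact ⟨(MulEquiv.subgroupCongr h).trans pslEquivMobRange.symm⟩

end Cfsg.Agent.Helper95.Zr
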