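import Mathlib
import Cfsg.Agent.Helper61.ZsEmbed
import Cfsg.Agent.Helper95.Zr2

/-!
# Zassenhaus data with two-point stabiliser of odd order `d = (n - 1) / 2` (helper95)

Port of helper61's `ZsField`/`ZsEmbed` to the case of an odd two-point stabiliser: given that `K`
and the two-point stabiliser `H` are abelian, `2 |H| + 1 = |K|`, `|H|` odd, and an involution
interchanging the two points and inverting `H`, the group is `PSL(2, R)` for a field `R` with
`|R| = |K| ≡ 3 (mod 4)`.
-/

set_option autoImplicit false
set_option linter.unusedSectionVars false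

namespace Cfsg.Agent.Helper61.Zs

open MulAction Equiv
open Cfsg.Agent.Helper61.Zq (tr ml)

universe u v

variable {G : Type u} {Ω : Type v} [Group G] [MulAction G Ω] {inf zero : Ω} {K : Subgroup G}

namespace ZData

variable (D : ZData inf zero K)
include D

section Odd

variable [Finite G] [Fintype Ω]
  (hKab : ∀ x ∈ K, ∀ y ∈ K, x * y = y * x)
  (hHab : ∀ h ∈ stabH G inf zero, ∀ h' ∈ stabH G inf zero, h * h' = h' * h)
  (h2d : 2 * Nat.card (stabH G inf zero) + 1 = Nat.card K)

include h2d in
/-- irreducibility -/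
theorem irreducible_h95 (W : Subgroup K) (hW : ∀ h : stabH G inf zero, ∀ w ∈ W, D.conjAct h w ∈ W) :
    W = ⊥ ∨ W = ⊤ := by
  by_cases hbot : W = ⊥
  · exact Or.inl hbot
  · right
    obtain ⟨⟨w0, hw0mem⟩, hw01⟩ := (Subgroup.ne_bot_iff_exists_ne_one).mp hbot
    have hw01' : (w0 : G) ≠ 1 := by
      intro h
      apply hw01
      apply Subtype.ext
      apply Subtype.ext
      exact h
    -- an injection `Option H → W`
    let ι : Option (stabH G inf zero) → W := fun o =>
      match o with
      | none => 1
      | some h => ⟨D.conjAct h w0, hW h w0 hw0mem⟩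
    have hι : Function.Injective ι := by
      intro a b hab
      cases a with
      | none =>
        cases b with
        | none => rfl
        | some h =>
          exfalso
          have h1 : (1 : G) = h.1 * w0.1 * h.1⁻¹ := by
            have := congrArg (fun x : W => ((x : K) : G)) hab
            exact this
          apply hw01'
          have : (w0 : G) = h.1⁻¹ * (h.1 * w0.1 * h.1⁻¹) * h.1 := by group
          rw [this, ← h1]; group
      | some h =>
        cases b with
        | none =>
          exfalso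
          have h1 : h.1 * w0.1 * h.1⁻¹ = (1 : G) := by
            have := congrArg (fun x : W => ((x : K) : G)) hab
            exact this
          apply hw01'
          have : (w0 : G) = h.1⁻¹ * (h.1 * w0.1 * h.1⁻¹) * h.1 := by group
          rw [this, h1]; group
        | some h' =>
          have h1 : h.1 * w0.1 * h.1⁻¹ = h'.1 * w0.1 * h'.1⁻¹ := by
            have := congrArg (fun x : W => ((x : K) : G)) hab
            exact this
          have h2 : (h'.1⁻¹ * h.1) * w0.1 * (h'.1⁻¹ * h.1)⁻¹ = w0.1 := by
            have : (h'.1⁻¹ * h.1) * w0.1 * (h'.1⁻¹ * h.1)⁻¹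
                = h'.1⁻¹ * (h.1 * w0.1 * h.1⁻¹) * h'.1 := by group
            rw [this, h1]; group
          have h3 := D.eq_one_of_conj_eq
            ((stabH G inf zero).mul_mem ((stabH G inf zero).inv_mem h'.2) h.2) w0.2 hw01' h2
          congr 1
          apply Subtype.ext
          exact (inv_mul_eq_one.mp h3).symm
    have hcard := Nat.card_le_card_of_injective ι hι
    rw [Finite.card_option] at hcard
    have hdvd : Nat.card W ∣ Nat.card K := Subgroup.card_subgroup_dvd_card W
    have h2 := h2d
    rw [← Subgroup.card_eq_iff_eq_top]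
    obtain ⟨m, hm⟩ := hdvd
    have hm1 : m = 1 := by
      rcases Nat.lt_or_ge m 2 with h | h
      · interval_cases m
        · rw [mul_zero] at hm; omega
        · rfl
      · exfalso
        have : Nat.card W * 2 ≤ Nat.card W * m := Nat.mul_le_mul_left _ h
        omega
    rw [hm, hm1, mul_one]

include hKab hHab h2d in
/-- **The field.** -/
theorem exists_field_h95 :
    ∃ (R : Type u) (_ : Field R) (_ : Finite R) (ψ : R → K) (c : stabH G inf zero → R),
      Function.Bijective ψ ∧ (∀ r s, ψ (r + s) = ψ r * ψ s) ∧ (∀ h, c h ≠ 0) ∧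
      (∀ h r, ψ (c h * r) = D.conjAct h (ψ r)) := by
  have : Nontrivial K := by
    obtain ⟨k, hk, hk1⟩ := D.exists_K_ne_one
    exact ⟨⟨⟨k, hk⟩, 1, fun h => hk1 (congrArg Subtype.val h)⟩⟩
  apply exists_field_of_irreducible (K := K) (H := stabH G inf zero)
  · intro x y
    exact Subtype.ext (hKab x.1 x.2 y.1 y.2)
  · intro h x y
    apply Subtype.ext
    change h.1 * (x.1 * y.1) * h.1⁻¹ = (h.1 * x.1 * h.1⁻¹) * (h.1 * y.1 * h.1⁻¹)
    group
  · intro h x y hxy
    have : h.1 * x.1 * h.1⁻¹ = h.1 * y.1 * h.1⁻¹ := congrArg Subtype.val hxy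
    exact Subtype.ext (mul_left_cancel (mul_right_cancel this))
  · intro h h' x
    apply Subtype.ext
    change h.1 * (h'.1 * x.1 * h'.1⁻¹) * h.1⁻¹ = h'.1 * (h.1 * x.1 * h.1⁻¹) * h'.1⁻¹
    have hc := hHab h.1 h.2 h'.1 h'.2
    calc h.1 * (h'.1 * x.1 * h'.1⁻¹) * h.1⁻¹ = (h.1 * h'.1) * x.1 * (h.1 * h'.1)⁻¹ := by group
      _ = (h'.1 * h.1) * x.1 * (h'.1 * h.1)⁻¹ := by rw [hc]
      _ = h'.1 * (h.1 * x.1 * h.1⁻¹) * h'.1⁻¹ := by group
  · exact D.irreducible_h95 h2d

end Odd

end ZData

end Cfsg.Agent.Helper61.Zs
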