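import Mathlib
import Cfsg.Agent.Helper95.ZsOdd1

/-!
# Zassenhaus data with odd two-point stabiliser of order `(n - 1) / 2`: `G ≅ PSL(2, R)` (helper95)
-/

set_option autoImplicit false
set_option linter.unusedSectionVars false
set_option linter.style.haveILetI false

namespace Cfsg.Agent.Helper95.ZsOdd

open MulAction Equiv
open Cfsg.Agent.Helper61.Zs
open Cfsg.Agent.Helper61.Zq (tr ml)
open Cfsg.Agent.Helper95.Zr

universe u v

variable {G : Type u} {Ω : Type v} [Group G] [MulAction G Ω] {inf zero : Ω} {K : Subgroup G}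

/-- An involution interchanging the two points has no fixed point (the point stabiliser has odd
order). -/
theorem no_fixed [Finite G] [Fintype Ω] (D : ZData inf zero K)
    (hodd : Odd (Nat.card (stabH G inf zero)))
    (h2d : 2 * Nat.card (stabH G inf zero) + 1 = Nat.card K)
    {s : G} (hs : IsSwap inf zero s) (hss : s * s = 1) (x : Ω) : s • x ≠ x := by
  intro hx
  obtain ⟨g, hg⟩ := D.trans x inf
  have hj : (g * s * g⁻¹) • inf = inf := by
    rw [mul_smul, mul_smul, ← hg, inv_smul_smul, hx]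
  have hs1 : s ≠ 1 := by
    intro h
    have h1 := hs.1
    rw [h, one_smul] at h1
    exact D.ne h1
  have hj1 : g * s * g⁻¹ ≠ 1 := by
    intro h
    apply hs1
    have : s = g⁻¹ * (g * s * g⁻¹) * g := by group
    rw [this, h]; group
  have ho : orderOf (g * s * g⁻¹) = 2 := by
    apply orderOf_eq_prime _ hj1
    rw [pow_two]
    have : g * s * g⁻¹ * (g * s * g⁻¹) = g * (s * s) * g⁻¹ := by group
    rw [this, hss]; group
  have hdvd : 2 ∣ Nat.card (stabilizer G inf) := by
    have := orderOf_dvd_natCard (⟨g * s * g⁻¹, mem_stabilizer_iff.mpr hj⟩ : stabilizer G inf)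
    rwa [Subgroup.orderOf_mk, ho] at this
  rw [D.card_stab, ← h2d] at hdvd
  obtain ⟨m, hm⟩ := hodd
  rw [hm] at hdvd
  rcases (Nat.Prime.dvd_mul Nat.prime_two).mp hdvd with h | h <;> omega

/-- **Zassenhaus data with odd two-point stabiliser of order `(n-1)/2`.** -/
theorem iso_psl_odd [Finite G] [Fintype Ω] (D : ZData inf zero K)
    (hKab : ∀ x ∈ K, ∀ y ∈ K, x * y = y * x)
    (hHab : ∀ h ∈ stabH G inf zero, ∀ h' ∈ stabH G inf zero, h * h' = h' * h)
    (hodd : Odd (Nat.card (stabH G inf zero)))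
    (h2d : 2 * Nat.card (stabH G inf zero) + 1 = Nat.card K)
    {s : G} (hs : IsSwap inf zero s) (hss : s * s = 1)
    (hsinv : ∀ h ∈ stabH G inf zero, s * h * s⁻¹ = h⁻¹) :
    ∃ (R : Type u) (_ : Field R) (_ : Fintype R), Fintype.card R + 1 = Fintype.card Ω ∧
      Fintype.card R % 4 = 3 ∧
      Nonempty (G ≃* Matrix.ProjectiveSpecialLinearGroup (Fin 2) R) := by
  classical
  obtain ⟨R, hRf, hRfin, ψ, c, hψ, hadd, hc, hconj⟩ := D.exists_field_h95 hKab hHab h2d
  haveI : Fintype R := Fintype.ofFinite R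
  have hcardR : Fintype.card R = Nat.card K := by
    rw [← Nat.card_eq_fintype_card]
    exact Nat.card_congr (Equiv.ofBijective ψ hψ)
  have hK := D.card_K
  have hpos : 0 < Nat.card K := Nat.card_pos
  have hmod4 : Fintype.card R % 4 = 3 := by
    rw [hcardR, ← h2d]
    obtain ⟨m, hm⟩ := hodd
    omega
  refine ⟨R, hRf, inferInstance, by rw [hcardR, hK]; omega, hmod4, ?_⟩
  have hinj : Function.Injective (rho D ψ hψ) := rho_injective D ψ hψ
  have hψ0 : ((ψ 0 : K) : G) = 1 := by
    have h := hadd 0 0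
    rw [add_zero] at h
    have h' : (ψ 0 : K) = 1 := by
      have : ψ 0 * 1 = ψ 0 * ψ 0 := by rw [mul_one]; exact h
      exact (mul_left_cancel this).symm
    rw [h']; rfl
  have hzero : eqv D ψ hψ zero = some 0 := by
    have := eqv_smul_zero D ψ hψ (0 : R)
    rwa [hψ0, one_smul] at this
  have hZ : ZrGroup (rho D ψ hψ).range := by
    refine ⟨hmod4, ?_, ?_, ?_, ?_⟩
    · -- card
      rw [← Nat.card_congr (MonoidHom.ofInjective hinj).toEquiv, D.card_G, hcardR, hK]
      have hΩ : Fintype.card Ω - 1 + 1 = Fintype.card Ω := by omega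
      rw [hΩ]
      have : Nat.card (stabH G inf zero) = (Fintype.card Ω - 1 - 1) / 2 := by omega
      rw [this]
      ring
    · -- translations
      intro b
      exact ⟨(ψ b : G), rho_K D ψ hψ hadd b⟩
    · -- affine
      rintro _ ⟨g, rfl⟩ hnone
      rw [rho_apply, eqv_symm_none] at hnone
      have hg : g • inf = inf := by
        have := congrArg (eqv D ψ hψ).symm hnone
        rwa [Equiv.symm_apply_apply, eqv_symm_none] at this
      obtain ⟨k, hk, h, hh, rfl⟩ := D.exists_K_mul_H hg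
      obtain ⟨b, hb⟩ := hψ.2 ⟨k, hk⟩
      refine ⟨Units.mk0 (c ⟨h, hh⟩) (hc _), b, ?_⟩
      rw [map_mul]
      have h1 : (rho D ψ hψ) k = tr b := by
        have := rho_K D ψ hψ hadd b
        rw [hb] at this
        exact this
      have h2 : (rho D ψ hψ) h = ml (Units.mk0 (c ⟨h, hh⟩) (hc _)) :=
        rho_H D ψ c hψ hconj ⟨h, hh⟩ _ (Units.val_mk0 _)
      rw [h1, h2]
    · -- transitivity
      intro x y
      obtain ⟨g, hg⟩ := D.trans ((eqv D ψ hψ).symm x) ((eqv D ψ hψ).symm y)
      refine ⟨(rho D ψ hψ) g, ⟨g, rfl⟩, ?_⟩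
      rw [rho_apply, hg, Equiv.apply_symm_apply]
  have hsinv' : s⁻¹ = s := inv_eq_of_mul_eq_one_left hss
  have hsw : GoodSwap3 (rho D ψ hψ).range ((rho D ψ hψ) s) := by
    refine ⟨⟨⟨s, rfl⟩, ?_, ?_⟩, ?_, ?_, ?_⟩
    · rw [rho_apply, eqv_symm_none, hs.1, hzero]
    · rw [rho_apply, eqv_symm_some, hψ0, one_smul, hs.2, eqv_inf]
    · rw [← map_mul, hss, map_one]
    · intro k hk
      obtain ⟨h, hh⟩ := hZ.ml_sq_mem hk
      have hhinf : h • inf = inf := by
        have h1 := congrArg (fun f : Perm (Option R) => f none) hh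
        simp only [Cfsg.Agent.Helper61.Zq.ml_none] at h1
        rw [rho_apply, eqv_symm_none] at h1
        have := congrArg (eqv D ψ hψ).symm h1
        rwa [Equiv.symm_apply_apply, eqv_symm_none] at this
      have hhzero : h • zero = zero := by
        have h1 := congrArg (fun f : Perm (Option R) => f (some 0)) hh
        simp only [Cfsg.Agent.Helper61.Zq.ml_some, mul_zero] at h1
        rw [rho_apply, eqv_symm_some, hψ0, one_smul, ← hzero] at h1
        exact (eqv D ψ hψ).injective h1
      have hmem : h ∈ stabH G inf zero := mem_stabH.mpr ⟨hhinf, hhzero⟩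
      have h3 := hsinv h hmem
      rw [hsinv'] at h3
      rw [← hh, ← map_mul, ← map_mul, h3, map_inv, hh, Cfsg.Agent.Helper61.Zq.ml_inv]
    · intro x hx
      rw [rho_apply] at hx
      have := congrArg (eqv D ψ hψ).symm hx
      rw [Equiv.symm_apply_apply] at this
      exact no_fixed D hodd h2d hs hss _ this
  obtain ⟨e⟩ := hZ.iso_psl hsw
  exact ⟨(MonoidHom.ofInjective hinj).trans e⟩

end Cfsg.Agent.Helper95.ZsOdd
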