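import Mathlib
import Cfsg.Prelude.Def_LieExceptional
import Cfsg.Agent.S0739
import Cfsg.Agent.S0740
import Cfsg.Agent.S0741
import Cfsg.Agent.S0742
import Cfsg.Agent.Helper15.ZassInv
import Cfsg.Agent.Helper61.ZsMain
import Cfsg.Agent.Helper95.ZassEven
import Cfsg.Agent.Helper95.ZassNormal
import Cfsg.Agent.Helper95.ZassAbelian1
import Cfsg.Agent.Helper95.ZsOdd2

/-!
# Zassenhaus groups with abelian kernel, given Feit's inequality (helper95)

`abelian_kernel`: a Zassenhaus group whose point stabiliser has an abelian regular normal subgroup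
is sharply triply transitive or `PSL(2, K)` with `K` of odd characteristic.  Feit's inequality
(S0885) is taken as a hypothesis `FeitHyp`.
-/

set_option autoImplicit false
set_option linter.unusedSectionVars false
set_option linter.style.haveILetI false

namespace Cfsg.Agent.Helper95.ZassAbelian

open Cfsg MulAction

universe u v

/-- Feit's inequality for Zassenhaus groups with odd two-point stabilisers (the statement of
S0885), as a hypothesis. -/
def FeitHyp : Prop :=
  ∀ {G : Type u} {Ω : Type v} [Group G] [Finite G] [MulAction G Ω] [Fintype Ω]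
    (_ : Cfsg.IsZassenhausGroup G Ω) {a b : Ω} (_ : a ≠ b) (h e : ℕ)
    (_ : Fintype.card Ω = h + 1)
    (_ : Nat.card ↥(stabilizer G a ⊓ stabilizer G b : Subgroup G) = e) (_ : Odd e)
    (H : Subgroup G) (_ : H ≤ stabilizer G a) (_ : Nat.card H + 1 = Fintype.card Ω)
    (_ : ∀ u ∈ H, u ≠ 1 → ∀ c : Ω, u • c = c → c = a),
    h - 1 ≤ 2 * e ∨ (IsPGroup 2 H ∧ (∃ u v : H, u * v ≠ v * u) ∧
      (commutator H).index ≤ 4 * e ^ 2 + 1)

variable {G : Type u} {Ω : Type v} [Group G] [MulAction G Ω]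

/-- Feit's inequality for an abelian kernel. -/
theorem feit_abelian (hfeit : FeitHyp.{u, v}) [Finite G] [Fintype Ω]
    (hZ : Cfsg.IsZassenhausGroup G Ω) {x b : Ω} (hxb : x ≠ b)
    (hodd : Odd (Nat.card ↥(stabilizer G x ⊓ stabilizer G b : Subgroup G)))
    (F : Subgroup G) (hFle : F ≤ stabilizer G x) (hFcard : Nat.card F + 1 = Fintype.card Ω)
    (hFfix : ∀ u ∈ F, u ≠ 1 → ∀ c : Ω, u • c = c → c = x)
    (hFab : ∀ u ∈ F, ∀ v ∈ F, u * v = v * u) :
    Fintype.card Ω - 2 ≤ 2 * Nat.card ↥(stabilizer G x ⊓ stabilizer G b : Subgroup G) := by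
  rcases hfeit hZ hxb (Fintype.card Ω - 1) _ (by omega) rfl hodd F hFle hFcard hFfix with h | h
  · omega
  · exfalso
    obtain ⟨-, ⟨u, v, huv⟩, -⟩ := h
    apply huv
    apply Subtype.ext
    exact hFab u.1 u.2 v.1 v.2

/-- With an abelian kernel and odd `d = (n - 1) / 2` the group is simple. -/
theorem simple_of_abelian (hfeit : FeitHyp.{u, v}) [Finite G] [Fintype Ω]
    (hZ : Cfsg.IsZassenhausGroup G Ω) {x b : Ω} (hxb : x ≠ b)
    (hodd : Odd (Nat.card ↥(stabilizer G x ⊓ stabilizer G b : Subgroup G)))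
    (h2d : 2 * Nat.card ↥(stabilizer G x ⊓ stabilizer G b : Subgroup G) = Fintype.card Ω - 2)
    (F : Subgroup G) (hFle : F ≤ stabilizer G x) (hFcard : Nat.card F + 1 = Fintype.card Ω)
    (hFfix : ∀ u ∈ F, u ≠ 1 → ∀ c : Ω, u • c = c → c = x)
    (hFab : ∀ u ∈ F, ∀ v ∈ F, u * v = v * u) : IsSimpleGroup G := by
  classical
  haveI : Fintype G := Fintype.ofFinite G
  obtain ⟨N, hNn, hN, hFN, hZN, hNs⟩ :=
    Cfsg.Agent.Helper95.ZassNormal.exists_simple_normal hZ F hFle hFcard hFfix
  have hdvd := Cfsg.Agent.Helper95.ZassNormal.card_stab2_dvd N x b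
  have hodd0 : Odd (Nat.card ↥(stabilizer N x ⊓ stabilizer N b : Subgroup N)) := by
    obtain ⟨k, hk⟩ := hdvd
    rw [hk] at hodd
    exact (Nat.odd_mul.mp hodd).1
  -- Feit in `N`
  have hFle' : F.subgroupOf N ≤ stabilizer N x := by
    intro k hk
    rw [Subgroup.mem_subgroupOf] at hk
    exact mem_stabilizer_iff.mpr (mem_stabilizer_iff.mp (hFle hk))
  have hFcard' : Nat.card (F.subgroupOf N) + 1 = Fintype.card Ω := by
    rw [Nat.card_congr (Subgroup.subgroupOfEquivOfLe hFN).toEquiv]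
    exact hFcard
  have hFfix' : ∀ u ∈ F.subgroupOf N, u ≠ 1 → ∀ c : Ω, u • c = c → c = x := by
    intro u hu hu1 c hc
    rw [Subgroup.mem_subgroupOf] at hu
    exact hFfix u hu (fun h => hu1 (Subtype.ext h)) c hc
  have hFab' : ∀ u ∈ F.subgroupOf N, ∀ v ∈ F.subgroupOf N, u * v = v * u := by
    intro u hu v hv
    rw [Subgroup.mem_subgroupOf] at hu hv
    apply Subtype.ext
    exact hFab u hu v hv
  have hineq := feit_abelian hfeit hZN hxb hodd0 (F.subgroupOf N) hFle' hFcard' hFfix' hFab'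
  have hle := Nat.le_of_dvd Nat.card_pos hdvd
  have heq : Nat.card ↥(stabilizer N x ⊓ stabilizer N b : Subgroup N) =
      Nat.card ↥(stabilizer G x ⊓ stabilizer G b : Subgroup G) := by omega
  have hGc := Cfsg.Agent.Helper15.Zass.card_group_eq hZ.2.1 hxb
  have hNc := Cfsg.Agent.Helper15.Zass.card_group_eq hZN.2.1 hxb
  rw [heq, ← hGc] at hNc
  have htop : N = ⊤ := (Subgroup.card_eq_iff_eq_top N).mp hNc
  subst htop
  exact (Subgroup.topEquiv (G := G)).symm.isSimpleGroup

/-- **Zassenhaus groups with abelian kernel** (given Feit's inequality). -/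
theorem abelian_kernel (hfeit : FeitHyp.{u, v}) [Finite G] [Finite Ω]
    (hZ : Cfsg.IsZassenhausGroup G Ω) (x : Ω) (F : Subgroup G)
    (hFle : F ≤ stabilizer G x) (hFn : (F.subgroupOf (stabilizer G x)).Normal)
    (hFab : IsMulCommutative F)
    (hreg : ∀ y z : Ω, y ≠ x → z ≠ x → ∃! u : F, (u : G) • y = z) :
    (IsMultiplyPretransitive G Ω 3 ∧ ∀ t : Fin 3 ↪ Ω, stabilizer G t = ⊥) ∨
      ∃ (K : Type) (_ : Field K) (_ : Fintype K), ringChar K ≠ 2 ∧
        Nonempty (G ≃* Matrix.ProjectiveSpecialLinearGroup (Fin 2) K) := by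
  classical
  haveI : Fintype Ω := Fintype.ofFinite Ω
  obtain ⟨hf, h2, h3f, -, -⟩ := id hZ
  have h3 := Cfsg.Agent.Helper60.Zassenhaus.three_le_card hZ
  have hFcard : Nat.card F + 1 = Fintype.card Ω := by
    have := Cfsg.Agent.Helper95.ZassEven.card_eq hZ F hFle hreg
    rw [Nat.card_eq_fintype_card] at this
    omega
  have hFfix : ∀ u ∈ F, u ≠ 1 → ∀ c : Ω, u • c = c → c = x := fun u hu hu1 c hc =>
    Cfsg.Agent.Helper95.ZassEven.eq_of_fix F hreg hu hu1 hc
  have hFn' : ∀ h ∈ stabilizer G x, ∀ u ∈ F, h * u * h⁻¹ ∈ F := by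
    intro h hh u hu
    have := hFn.conj_mem ⟨u, hFle hu⟩ (Subgroup.mem_subgroupOf.mpr hu) ⟨h, hh⟩
    rw [Subgroup.mem_subgroupOf] at this
    exact this
  have hFab' : ∀ u ∈ F, ∀ v ∈ F, u * v = v * u := by
    intro u hu v hv
    have := hFab.is_comm.comm (⟨u, hu⟩ : F) ⟨v, hv⟩
    exact congrArg Subtype.val this
  -- a second point
  obtain ⟨b, hxb⟩ : ∃ b : Ω, x ≠ b := by
    by_contra hcon
    push Not at hcon
    have : Fintype.card Ω ≤ 1 := Fintype.card_le_one_iff.mpr (fun y z => by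
      rw [← hcon y, ← hcon z])
    omega
  have hdvd := card_stab2_dvd_sub_two h3f hxb
  have hdpos : 0 < Nat.card ↥(stabilizer G x ⊓ stabilizer G b : Subgroup G) := Nat.card_pos
  -- the inequality `n - 1 ≤ 2 d`
  have hineq : Fintype.card Ω - 2 ≤
      2 * Nat.card ↥(stabilizer G x ⊓ stabilizer G b : Subgroup G) := by
    rcases Nat.even_or_odd (Nat.card ↥(stabilizer G x ⊓ stabilizer G b : Subgroup G)) with
      heven | hodd
    · exact Cfsg.Agent.S0741.result hZ hxb heven
    · exact feit_abelian hfeit hZ hxb hodd F hFle hFcard hFfix hFab'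
  obtain ⟨m, hm⟩ := hdvd
  have hm12 : m = 1 ∨ m = 2 := by
    have hm0 : m ≠ 0 := by
      rintro rfl
      rw [mul_zero] at hm
      omega
    have hm2 : m ≤ 2 := by
      by_contra hcon
      push Not at hcon
      have : Nat.card ↥(stabilizer G x ⊓ stabilizer G b : Subgroup G) * 3 ≤
          Nat.card ↥(stabilizer G x ⊓ stabilizer G b : Subgroup G) * m :=
        Nat.mul_le_mul_left _ hcon
      omega
    omega
  rcases hm12 with rfl | rfl
  · -- sharply triply transitive
    left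
    rw [mul_one] at hm
    exact sharp_of_card h2 h3f hxb hm.symm
  · right
    have h2d : 2 * Nat.card ↥(stabilizer G x ⊓ stabilizer G b : Subgroup G) =
        Fintype.card Ω - 2 := by rw [hm, mul_comm]
    rcases Nat.even_or_odd (Nat.card ↥(stabilizer G x ⊓ stabilizer G b : Subgroup G)) with
      heven | hodd
    · obtain ⟨p, f, K, hKf, hKfin, hp, hp2, hKcard, -, hiso⟩ :=
        Cfsg.Agent.S0742.result hZ hxb heven (le_of_eq h2d)
      refine ⟨K, hKf, hKfin, ?_, hiso⟩
      intro hchar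
      have h2' := FiniteField.even_card_iff_char_two.mp hchar
      rw [hKcard] at h2'
      have hpodd : Odd p := hp.odd_of_ne_two hp2
      have := Nat.odd_iff.mp (hpodd.pow (n := f))
      omega
    · -- the new case: `d` odd
      haveI hsimple : IsSimpleGroup G :=
        simple_of_abelian hfeit hZ hxb hodd h2d F hFle hFcard hFfix hFab'
      have hnil := Cfsg.Agent.Helper15.Zass.hnil_of_simple hZ hxb
      obtain ⟨hcyc, -, hinv⟩ := Cfsg.Agent.S0739.result hZ hxb hodd hnil
      obtain ⟨⟨s, hs2, hsx, hsb⟩, -, -⟩ := Cfsg.Agent.S0740.result hZ hxb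
      have D := zdata hZ hxb F hFle hFn' hreg
      have hHab : ∀ h ∈ Cfsg.Agent.Helper61.Zs.stabH G x b,
          ∀ h' ∈ Cfsg.Agent.Helper61.Zs.stabH G x b, h * h' = h' * h := by
        intro h hh h' hh'
        haveI := hcyc
        letI := IsCyclic.commGroup (α := ↥(stabilizer G x ⊓ stabilizer G b : Subgroup G))
        have := mul_comm (⟨h, hh⟩ : ↥(stabilizer G x ⊓ stabilizer G b : Subgroup G)) ⟨h', hh'⟩
        exact congrArg Subtype.val this
      have hss : s * s = 1 := by
        have := pow_orderOf_eq_one s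
        rwa [hs2, pow_two] at this
      have h2d' : 2 * Nat.card ↥(Cfsg.Agent.Helper61.Zs.stabH G x b) + 1 = Nat.card F := by
        show 2 * Nat.card ↥(stabilizer G x ⊓ stabilizer G b : Subgroup G) + 1 = Nat.card F
        omega
      obtain ⟨R, hRf, hRfin, -, hR4, ⟨e⟩⟩ :=
        Cfsg.Agent.Helper95.ZsOdd.iso_psl_odd D hFab' hHab hodd h2d' (s := s) ⟨hsx, hsb⟩ hss
          (fun h hh => hinv s hsx hsb h hh)
      obtain ⟨p, f, K, hKf, hKfin, hp, hKcard, hRcard, hiso⟩ :=
        Cfsg.Agent.Helper61.Zs.exists_galois_psl e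
      refine ⟨K, hKf, hKfin, ?_, hiso⟩
      intro hchar
      have h2' := FiniteField.even_card_iff_char_two.mp hchar
      rw [hKcard, ← hRcard] at h2'
      omega

end Cfsg.Agent.Helper95.ZassAbelian
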