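import Mathlib
import Cfsg.Agent.Helper81.RO2
import Cfsg.Agent.Helper81.RealN2
import Cfsg.Agent.Helper81.CliffordInd
import Cfsg.Agent.Helper74.RestrictIrr
import Cfsg.Agent.S4914
import Cfsg.Agent.S4801

/-!
# (SK) for S4581: normal subgroups of odd order lie in the kernel of odd-degree characters
of groups with self-normalizing Sylow `2`-subgroups
-/

set_option autoImplicit false

namespace Cfsg.Agent.Helper95.ROSK

open Cfsg Cfsg.Agent.Helper81.RO

universe u

/-- With self-normalizing Sylow `2`-subgroups, a Sylow `2`-subgroup has no nontrivial fixed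
points on a subgroup of odd order. -/
theorem cent_eq_one {G : Type u} [Group G] [Finite G] (h : SelfNorm G) (P : Sylow 2 G)
    (M : Subgroup G) (hM : (Nat.card M).Coprime 2) {k : G} (hk : k ∈ M)
    (hc : ∀ x ∈ (P : Subgroup G), x * k * x⁻¹ * k⁻¹ = 1) : k = 1 := by
  have : Fact (Nat.Prime 2) := ⟨Nat.prime_two⟩
  have hcomm : ∀ x ∈ (P : Subgroup G), x * k = k * x := by
    intro x hx
    have h1 := hc x hx
    have h2 : x * k * x⁻¹ = k := by
      have := mul_inv_eq_one.mp h1
      exact this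
    calc x * k = (x * k * x⁻¹) * x := by group
      _ = k * x := by rw [h2]
  have hkN : k ∈ Subgroup.normalizer ((P : Subgroup G) : Set G) := by
    apply Subgroup.centralizer_le_normalizer
    rw [Subgroup.mem_centralizer_iff]
    intro x hx
    exact hcomm x hx
  have hkP : k ∈ (P : Subgroup G) := h (P : Subgroup G) P.isPGroup' P.not_dvd_index hkN
  obtain ⟨n, hn⟩ := P.isPGroup' ⟨k, hkP⟩
  have hn' : k ^ 2 ^ n = 1 := by
    have := congrArg Subtype.val hn
    simpa using this
  have hm : k ^ Nat.card M = 1 := by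
    have h1 : (⟨k, hk⟩ : M) ^ Nat.card M = 1 := pow_card_eq_one'
    have := Subtype.ext_iff.mp h1
    simpa only [Subgroup.coe_pow, Subgroup.coe_mk, Subgroup.coe_one] using this
  have hcop : Nat.Coprime (Nat.card M) (2 ^ n) := Nat.Coprime.pow_right n hM
  have := pow_gcd_eq_one.mpr ⟨hm, hn'⟩
  rwa [hcop.gcd_eq_one, pow_one] at this

/-- The irreducible characters of a trivial group form a subsingleton. -/
theorem irr_bot_subsingleton {G : Type u} [Group G] [Finite G]
    (ξ ξ' : IrrCharacter (⊥ : Subgroup G)) : ξ = ξ' := by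
  have hx : ∀ ζ : IrrCharacter (⊥ : Subgroup G), ζ = Cfsg.Agent.S4801.trivIrr _ := by
    intro ζ
    apply Cfsg.Agent.S4801.eq_trivIrr_of_const
    intro g
    have : g = 1 := Subsingleton.elim _ _
    rw [this]
  rw [hx ξ, hx ξ']

/-- **(SK)** -/
theorem selfNorm_ker {G : Type u} [Group G] [Fintype G] (h : SelfNorm G) {χ : G → ℂ}
    (hχ : IsIrrCharacter G χ) (hodd : Odd (charDegree χ)) (M : Subgroup G) [hMn : M.Normal]
    (hM : (Nat.card M).Coprime 2) : ∀ m ∈ M, χ m = χ 1 := by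
  classical
  have : Fact (Nat.Prime 2) := ⟨Nat.prime_two⟩
  let _ : Fintype M := Fintype.ofFinite M
  have hχc : IsCharacter G χ := Helper74.isCharacter_of_isIrr hχ
  have hres : IsCharacter M (fun m : M => χ m) := Helper74.isCharacter_restrict M hχc
  have h1 : (fun m : M => χ m) 1 ≠ 0 := Helper80.IsIrrCharacter.map_one_ne_zero hχ
  obtain ⟨θ₀, hθ₀⟩ := Helper81.exists_irr_constituent hres h1
  obtain ⟨e, he, hdeg, -⟩ := Helper74.clifford_degree_data M hχ θ₀.2 hθ₀
  -- the orbit has odd size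
  have hdeg' : charDegree χ
      = e * (Helper15.conjOrbit M (θ₀ : M → ℂ)).card * charDegree (θ₀ : M → ℂ) := by
    have h2 := Helper74.charDegree_cast hχc
    have h3 := Helper74.charDegree_cast (Helper74.irr_isCharacter θ₀)
    have h4 : (charDegree χ : ℂ)
        = ((e * (Helper15.conjOrbit M (θ₀ : M → ℂ)).card * charDegree (θ₀ : M → ℂ) : ℕ) : ℂ) := by
      rw [h2, hdeg, Nat.cast_mul (e * _), h3]
    exact_mod_cast h4
  have hcard : Odd (Helper15.conjOrbit M (θ₀ : M → ℂ)).card := by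
    apply Odd.of_dvd_nat hodd
    rw [hdeg']
    exact Dvd.dvd.mul_right (Dvd.intro_left e rfl) _
  have hidx : ¬ 2 ∣ (Helper15.inertia M (θ₀ : M → ℂ)).index := by
    rw [← Helper15.card_conjOrbit]
    exact fun h2 => (Nat.not_even_iff_odd.mpr hcard) (even_iff_two_dvd.mpr h2)
  let P : Sylow 2 G := default
  obtain ⟨g, hg⟩ := Helper81.exists_conj_invariant M (P : Subgroup G) P.isPGroup'
    (θ₀ : M → ℂ) hidx
  have hθ'irr : IsIrrCharacter M (Helper15.conjFun M g (θ₀ : M → ℂ)) :=
    Helper15.isIrrCharacter_conjFun M θ₀.2 g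
  -- apply S4914 with `Q = C = ⊥`
  obtain ⟨f, hf, -⟩ := Cfsg.Agent.S4914.result (G := G) 2 (P : Subgroup G) M ⊥ ⊥ P.isPGroup'
    (by rw [Subgroup.normalizer_eq_top]; exact le_top) bot_le
    (by
      intro k _ q hq
      rw [Subgroup.mem_bot] at hq ⊢
      rw [hq]; group)
    ⟨0, by rw [Subgroup.card_bot, pow_zero]⟩
    (by
      rw [Subgroup.relIndex_bot_left]
      exact fun h2 => by
        have := Nat.Coprime.eq_one_of_dvd hM.symm h2
        omega)
    bot_le
    (by
      intro k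
      constructor
      · intro hk
        rw [Subgroup.mem_bot] at hk
        rw [hk]
        refine ⟨M.one_mem, fun x _ => ?_⟩
        rw [Subgroup.mem_bot]; group
      · rintro ⟨hkM, hc⟩
        rw [Subgroup.mem_bot]
        exact cent_eq_one h P M hM hkM (fun x hx => Subgroup.mem_bot.mp (hc x hx)))
  -- two P-invariant irreducible characters of `M`
  have hinv1 : ∀ x ∈ (P : Subgroup G), ∀ k k' : M, (k' : G) = x * (k : G) * x⁻¹ →
      (Helper15.conjFun M g (θ₀ : M → ℂ)) k' = (Helper15.conjFun M g (θ₀ : M → ℂ)) k := by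
    intro x hx k k' hk
    have h2 := (Helper15.mem_inertia_iff M _ x).mp (hg x hx) k
    rw [← h2]
    congr 1
    exact Subtype.ext hk
  let a : {χ : Cfsg.IrrCharacter M // ∀ x ∈ (P : Subgroup G), ∀ k k' : M,
      (k' : G) = x * (k : G) * x⁻¹ → (χ : M → ℂ) k' = (χ : M → ℂ) k} :=
    ⟨⟨Helper15.conjFun M g (θ₀ : M → ℂ), hθ'irr⟩, hinv1⟩
  let b : {χ : Cfsg.IrrCharacter M // ∀ x ∈ (P : Subgroup G), ∀ k k' : M,
      (k' : G) = x * (k : G) * x⁻¹ → (χ : M → ℂ) k' = (χ : M → ℂ) k} :=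
    ⟨Cfsg.Agent.S4801.trivIrr M, fun _ _ _ _ _ => rfl⟩
  have hab : a = b := by
    apply hf.1
    apply Subtype.ext
    exact irr_bot_subsingleton _ _
  have hθ' : ∀ m : M, Helper15.conjFun M g (θ₀ : M → ℂ) m = 1 := by
    intro m
    have h2 := congrArg (fun z => ((z.1 : Cfsg.IrrCharacter M) : M → ℂ) m) hab
    exact h2
  have hθ0 : ∀ m : M, (θ₀ : M → ℂ) m = 1 := by
    intro m
    have h2 := hθ' ⟨g⁻¹ * m * g⁻¹⁻¹, hMn.conj_mem (m : G) m.2 g⁻¹⟩
    rw [Helper15.conjFun_apply] at h2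
    rw [← h2]
    refine congrArg (θ₀ : M → ℂ) (Subtype.ext ?_)
    simp only
    group
  -- Clifford
  have hcl := Helper15.clifford_restrict M hχ θ₀.2 hθ₀
  have horb : ∀ φ ∈ Helper15.conjOrbit M (θ₀ : M → ℂ), ∀ m : M, φ m = 1 := by
    intro φ hφ m
    obtain ⟨y, rfl⟩ := (Helper15.mem_conjOrbit M).mp hφ
    rw [Helper15.conjFun_apply]
    exact hθ0 _
  have hval : ∀ m : M, χ m = classInner (fun n : M => χ n) (θ₀ : M → ℂ)
      * ((Helper15.conjOrbit M (θ₀ : M → ℂ)).card : ℂ) := by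
    intro m
    have h2 := congrFun hcl m
    simp only [Pi.smul_apply, Finset.sum_apply, smul_eq_mul] at h2
    rw [h2, Finset.sum_congr rfl (fun φ hφ => horb φ hφ m)]
    simp
  intro m hm
  have h2 := hval ⟨m, hm⟩
  have h3 := hval 1
  simp only at h2
  rw [h2]
  exact h3.symm

end Cfsg.Agent.Helper95.ROSK
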