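import Mathlib
import Cfsg.Agent.Helper34.SqfCL

/-!
# Piece (DG4) for S4130 (helper74)
-/

namespace Cfsg.Agent.Helper95.Sqf

open scoped commutatorElement

/-- conjugation identity with a central commutator -/
theorem conj_pow_eq_of_central {Q : Type*} [Group Q] (g h z : Q)
    (hz : g * h * g⁻¹ = z * h) (hzc : ∀ q : Q, z * q = q * z) (n : ℕ) :
    g ^ n * h * (g ^ n)⁻¹ = z ^ n * h := by
  induction n with
  | zero => simp
  | succ n ih =>
    have hzn : ∀ q : Q, z ^ n * q = q * z ^ n := by
      intro q
      exact ((Commute.pow_left (show Commute z q from hzc q) n)).eq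
    calc g ^ (n + 1) * h * (g ^ (n + 1))⁻¹
        = g * (g ^ n * h * (g ^ n)⁻¹) * g⁻¹ := by
          rw [pow_succ']; group
      _ = g * (z ^ n * h) * g⁻¹ := by rw [ih]
      _ = z ^ n * (g * h * g⁻¹) := by
          rw [← mul_assoc, ← hzn g]; group
      _ = z ^ n * (z * h) := by rw [hz]
      _ = z ^ (n + 1) * h := by rw [pow_succ]; group

/-- (DG4) -/
theorem card_commutator_le_of_abelian {G : Type*} [Group G] [Finite G] (r : ℕ) [Fact r.Prime]
    (h : ∀ x : G, ¬ r ^ 2 ∣ (Subgroup.centralizer ({x} : Set G)).index)
    (P : Sylow r G) (hG' : commutator G ≤ (P : Subgroup G))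
    (hab : ∀ a ∈ (P : Subgroup G), ∀ b ∈ (P : Subgroup G), a * b = b * a) :
    Nat.card (commutator G) ≤ r := by
  have hr : r.Prime := Fact.out
  have hPn : (P : Subgroup G).Normal := Subgroup.Normal.of_commutator_le G hG'
  -- P ≤ C_G(P)
  have hPC : (P : Subgroup G) ≤ Subgroup.centralizer ((P : Subgroup G) : Set G) := by
    intro a ha
    rw [Subgroup.mem_centralizer_iff]
    intro b hb
    exact hab b hb a ha
  have hCn : (Subgroup.centralizer ((P : Subgroup G) : Set G)).Normal := inferInstance
  have hidx : ¬ r ∣ (P : Subgroup G).index := P.not_dvd_index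
  have hCidx : ¬ r ∣ (Subgroup.centralizer ((P : Subgroup G) : Set G)).index := by
    intro hd
    exact hidx (hd.trans (Subgroup.index_dvd_of_le hPC))
  have hW := Cfsg.Agent.Helper34.Sqf34.card_commutator_le r (P : Subgroup G) ⊤ P.isPGroup' hab
    (by
      intro e _ e' _
      apply hPC
      apply hG'
      rw [commutator_def]
      have := Subgroup.commutator_mem_commutator (Subgroup.mem_top e) (Subgroup.mem_top e')
      rwa [commutatorElement_def] at this)
    (by
      intro e _ he
      set C := Subgroup.centralizer ((P : Subgroup G) : Set G) with hC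
      have h1 : e ^ C.index ∈ C := Subgroup.pow_index_mem C e
      have hcop : Nat.Coprime r C.index := (Nat.Prime.coprime_iff_not_dvd hr).mpr hCidx
      have h2 : e ^ (Nat.gcd r C.index) ∈ C := by
        rw [← zpow_natCast, Nat.gcd_eq_gcd_ab]
        rw [zpow_add, zpow_mul, zpow_mul, zpow_natCast, zpow_natCast]
        exact C.mul_mem (C.zpow_mem he _) (C.zpow_mem h1 _)
      rw [hcop] at h2
      simpa using h2)
    (fun e _ => h e)
  set W : Subgroup G := ⁅(P : Subgroup G), (⊤ : Subgroup G)⁆ with hWdef
  have hWn : W.Normal := Subgroup.commutator_normal _ _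
  -- G' ≤ W
  have hle : commutator G ≤ W := by
    rw [commutator_def, Subgroup.commutator_le]
    intro g _ k _
    rw [commutatorElement_def]
    set z : G := g * k * g⁻¹ * k⁻¹ with hz
    have hzG' : z ∈ commutator G := by
      rw [commutator_def]
      have := Subgroup.commutator_mem_commutator (Subgroup.mem_top g) (Subgroup.mem_top k)
      rwa [commutatorElement_def] at this
    have hzP : z ∈ (P : Subgroup G) := hG' hzG'
    let π := QuotientGroup.mk' W
    have hcentral : ∀ a ∈ (P : Subgroup G), ∀ q : G ⧸ W, π a * q = q * π a := by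
      intro a ha q
      obtain ⟨g', rfl⟩ := QuotientGroup.mk'_surjective W q
      rw [← map_mul, ← map_mul]
      apply (QuotientGroup.eq).mpr
      have : ⁅a⁻¹, g'⁻¹⁆ ∈ W :=
        Subgroup.commutator_mem_commutator (inv_mem ha) (Subgroup.mem_top _)
      rw [commutatorElement_def] at this
      have this2 := W.inv_mem this
      convert this2 using 1
      group
    have hconj : π g * π k * (π g)⁻¹ = π z * π k := by
      rw [← map_inv, ← map_mul, ← map_mul, ← map_mul]
      congr 1
      rw [hz]; group
    have key := conj_pow_eq_of_central (π g) (π k) (π z) hconj (hcentral z hzP)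
      (P : Subgroup G).index
    have hgn : g ^ (P : Subgroup G).index ∈ (P : Subgroup G) := Subgroup.pow_index_mem _ g
    have hcomm := hcentral _ hgn (π k)
    rw [map_pow] at hcomm
    have h1 : (π z) ^ (P : Subgroup G).index = 1 := by
      have : π g ^ (P : Subgroup G).index * π k * (π g ^ (P : Subgroup G).index)⁻¹ = π k := by
        rw [hcomm]; group
      rw [this] at key
      exact (mul_eq_right.mp key.symm)
    have h2 : (π z) ^ Nat.card (P : Subgroup G) = 1 := by
      have : z ^ Nat.card (P : Subgroup G) = 1 := by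
        have h0 : ((⟨z, hzP⟩ : (P : Subgroup G)) ^ Nat.card (P : Subgroup G)) = 1 :=
          pow_card_eq_one'
        have h0' := Subtype.ext_iff.mp h0
        rw [Subgroup.coe_pow] at h0'
        exact h0'
      rw [← map_pow, this, map_one]
    have hcop : (Nat.card (P : Subgroup G)).Coprime (P : Subgroup G).index := P.card_coprime_index
    have h3 : orderOf (π z) ∣ 1 := by
      rw [← Nat.Coprime.gcd_eq_one hcop]
      exact Nat.dvd_gcd (orderOf_dvd_of_pow_eq_one h2) (orderOf_dvd_of_pow_eq_one h1)
    have h4 : π z = 1 := orderOf_eq_one_iff.mp (Nat.dvd_one.mp h3)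
    exact (QuotientGroup.eq_one_iff z).mp h4
  calc Nat.card (commutator G) ≤ Nat.card W := Subgroup.card_le_of_le hle
    _ ≤ r := hW

end Cfsg.Agent.Helper95.Sqf
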