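import Mathlib

/-!
# Piece (DR) for S4130 (helper74): normal `r`-complement inside a nilpotent derived subgroup
-/

namespace Cfsg.Agent.Helper95.Sqf

/-- In a finite nilpotent group, the elements of order prime to `r` form a subgroup of order prime
to `r` and `r`-power index. -/
theorem exists_rprime_part {H : Type*} [Group H] [Finite H] (hnil : Group.IsNilpotent H)
    (r : ℕ) [hr : Fact r.Prime] :
    ∃ K : Subgroup H, (∀ x : H, x ∈ K ↔ (orderOf x).Coprime r) ∧ (Nat.card K).Coprime r ∧
      ∃ k : ℕ, Nat.card H = Nat.card K * r ^ k := by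
  classical
  by_cases hdvd : r ∣ Nat.card H
  · have hn : ∀ {p : ℕ} [Fact p.Prime] (P : Sylow p H), (P : Subgroup H).Normal := by
      intro p _ P
      exact (Group.isNilpotent_of_finite_tfae.out 0 3 rfl rfl).mp hnil p ‹_› P
    let e := Sylow.directProductOfNormal (G := H) hn
    have hrmem : r ∈ (Nat.card H).primeFactors :=
      Nat.mem_primeFactors.mpr ⟨hr.out, hdvd, Nat.card_pos.ne'⟩
    let r' : (Nat.card H).primeFactors := ⟨r, hrmem⟩
    let Q := ∀ P : Sylow r H, (P : Subgroup H)
    let f : H →* Q :=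
      (Pi.evalMonoidHom (fun p : (Nat.card H).primeFactors => ∀ P : Sylow p H, (P : Subgroup H))
        r').comp e.symm.toMonoidHom
    have hfsurj : Function.Surjective f := by
      intro q
      refine ⟨e (Function.update 1 r' q), ?_⟩
      simp [f]
    let P₁ : Sylow r H := default
    let _iu : Unique (Sylow r H) := Sylow.unique_of_normal P₁ (hn P₁)
    have hQcard : Nat.card Q = r ^ (Nat.card H).factorization r := by
      have h1 : Nat.card Q = Nat.card ((default : Sylow r H) : Subgroup H) :=
        Nat.card_congr (MulEquiv.piUnique (fun P : Sylow r H => (P : Subgroup H))).toEquiv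
      rw [h1]
      exact Sylow.card_eq_multiplicity (default : Sylow r H)
    have hQp : IsPGroup r Q := IsPGroup.of_card hQcard
    have hcard : Nat.card H = Nat.card f.ker * r ^ (Nat.card H).factorization r := by
      have h1 := Subgroup.card_eq_card_quotient_mul_card_subgroup f.ker
      have h2 : Nat.card (H ⧸ f.ker) = Nat.card Q :=
        Nat.card_congr (QuotientGroup.quotientKerEquivOfSurjective f hfsurj).toEquiv
      rw [h2, hQcard, mul_comm] at h1
      exact h1
    have hcop : (Nat.card f.ker).Coprime r := by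
      have hpos : 0 < Nat.card H := Nat.card_pos
      have h3 : Nat.card f.ker = Nat.card H / r ^ (Nat.card H).factorization r :=
        (Nat.div_eq_of_eq_mul_left (pow_pos hr.out.pos _) hcard).symm
      rw [h3]
      exact (Nat.coprime_ordCompl hr.out hpos.ne').symm
    refine ⟨f.ker, ?_, hcop, _, hcard⟩
    intro x
    constructor
    · intro hx
      have h1 : orderOf (⟨x, hx⟩ : f.ker) ∣ Nat.card f.ker := orderOf_dvd_natCard _
      have h2 : orderOf (⟨x, hx⟩ : f.ker) = orderOf x := Subgroup.orderOf_mk x hx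
      rw [h2] at h1
      exact Nat.Coprime.coprime_dvd_left h1 hcop
    · intro hx
      rw [MonoidHom.mem_ker]
      obtain ⟨n, hn'⟩ := hQp (f x)
      have h1 : orderOf (f x) ∣ r ^ n := orderOf_dvd_of_pow_eq_one hn'
      have h2 : orderOf (f x) ∣ orderOf x := orderOf_map_dvd f x
      have h3 : (orderOf (f x)).Coprime (r ^ n) :=
        Nat.Coprime.coprime_dvd_left h2 (Nat.Coprime.pow_right n hx)
      have h4 : orderOf (f x) = 1 := Nat.Coprime.eq_one_of_dvd h3 h1
      exact orderOf_eq_one_iff.mp h4
  · refine ⟨⊤, ?_, ?_, 0, ?_⟩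
    · intro x
      simp only [Subgroup.mem_top, true_iff]
      have h1 : orderOf x ∣ Nat.card H := orderOf_dvd_natCard x
      exact Nat.Coprime.coprime_dvd_left h1
        ((Nat.Coprime.symm ((Nat.Prime.coprime_iff_not_dvd hr.out).mpr hdvd)))
    · rw [Subgroup.card_top]
      exact (Nat.Coprime.symm ((Nat.Prime.coprime_iff_not_dvd hr.out).mpr hdvd))
    · simp

/-- (DR) -/
theorem exists_normal_compl_in_commutator {G : Type*} [Group G] [Finite G]
    (hnil : Group.IsNilpotent (commutator G)) (r : ℕ) [Fact r.Prime] :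
    ∃ K : Subgroup G, K.Normal ∧ K ≤ commutator G ∧ (Nat.card K).Coprime r ∧
      ∃ k : ℕ, Nat.card (commutator G) = Nat.card K * r ^ k := by
  obtain ⟨K₀, hmem, hcop, k, hk⟩ := exists_rprime_part hnil r
  have hcardK : Nat.card (K₀.map (commutator G).subtype) = Nat.card K₀ :=
    Subgroup.card_map_of_injective (Subgroup.subtype_injective _)
  refine ⟨K₀.map (commutator G).subtype, ?_, ?_, ?_, k, ?_⟩
  · constructor
    intro y hy g
    obtain ⟨x, hx, rfl⟩ := Subgroup.mem_map.mp hy
    have hnorm : (commutator G).Normal := inferInstance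
    have hz : g * (x : G) * g⁻¹ ∈ commutator G := hnorm.conj_mem _ x.2 g
    refine Subgroup.mem_map.mpr ⟨⟨g * (x : G) * g⁻¹, hz⟩, ?_, rfl⟩
    rw [hmem]
    have h1 : orderOf (⟨g * (x : G) * g⁻¹, hz⟩ : commutator G) = orderOf (g * (x : G) * g⁻¹) :=
      Subgroup.orderOf_mk _ hz
    have h2 : orderOf (g * (x : G) * g⁻¹) = orderOf (x : G) :=
      (SemiconjBy.orderOf_eq g (SemiconjBy.conj_mk g (x : G))).symm
    have h3 : orderOf (x : G) = orderOf x := Subgroup.orderOf_coe x
    rw [h1, h2, h3]
    exact (hmem x).mp hx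
  · intro y hy
    obtain ⟨x, _, rfl⟩ := Subgroup.mem_map.mp hy
    exact x.2
  · rw [hcardK]; exact hcop
  · rw [hcardK]; exact hk

end Cfsg.Agent.Helper95.Sqf
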