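import Mathlib
import Cfsg.Prelude.Def_Blocks
import Cfsg.Agent.Helper80.CharLevel
import Cfsg.Agent.Helper32.BlichG2
import Cfsg.Agent.Helper62.BlichG3
import Cfsg.Agent.Helper65.BlichG4
import Cfsg.Agent.Helper10.BlichC1
import Cfsg.Agent.Helper10.BlichC3
import Cfsg.Agent.Helper60.BlichC4
import Cfsg.Agent.Helper60.BlichC5
import Cfsg.Agent.Helper31.BlichC6

/-! # Blichfeldt's theorem on abelian Hall subgroups of linear groups: main induction (helper95) -/

set_option autoImplicit false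

open Cfsg

universe u

namespace Cfsg.Agent.Helper95.Blich


/-- Restriction of a faithful character of degree `≤ n` to a subgroup. -/
theorem lin_subgroup {G : Type u} [Group G] (n : ℕ)
    (h : ∃ χ : G → ℂ, IsCharacter G χ ∧ (∀ g : G, χ g = χ 1 → g = 1) ∧ charDegree χ ≤ n)
    (K : Subgroup G) :
    ∃ χ : K → ℂ, IsCharacter K χ ∧ (∀ g : K, χ g = χ 1 → g = 1) ∧ charDegree χ ≤ n := by
  obtain ⟨χ, ⟨m, ρ, hρ⟩, hf, hn⟩ := h
  refine ⟨fun k => χ k, ⟨m, ρ.comp K.subtype, ?_⟩, ?_, ?_⟩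
  · funext k
    rw [← hρ]
    rfl
  · intro g hg
    have := hf g (by simpa using hg)
    exact Subtype.ext this
  · simpa [charDegree] using hn


/-- Transport a Hall subgroup of `↥K` to `G`. -/
theorem hall_map_subtype {G : Type u} [Group G] (P : ℕ → Prop) (K : Subgroup G)
    (A' : Subgroup K) (h1 : ∀ q : ℕ, q.Prime → q ∣ Nat.card A' → P q)
    (h2 : ∀ q : ℕ, q.Prime → q ∣ A'.index → ¬ P q) :
    ∃ A : Subgroup G, A ≤ K ∧ (∀ q : ℕ, q.Prime → q ∣ Nat.card A → P q) ∧
      (∀ q : ℕ, q.Prime → q ∣ A.relIndex K → ¬ P q) := by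
  refine ⟨A'.map K.subtype, ?_, ?_, ?_⟩
  · exact Subgroup.map_subtype_le A'
  · intro q hq hd
    apply h1 q hq
    rwa [Nat.card_congr (Subgroup.equivMapOfInjective A' K.subtype
      (Subgroup.subtype_injective K)).toEquiv.symm] at hd
  · intro q hq hd
    apply h2 q hq
    have : (A'.map K.subtype).subgroupOf K = A' := by
      ext x
      simp [Subgroup.mem_subgroupOf]
    rwa [Subgroup.relIndex, this] at hd

theorem card_lt_of_ne_top {G : Type u} [Group G] [Finite G] (K : Subgroup G) (hK : K ≠ ⊤) :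
    Nat.card K < Nat.card G := by
  rcases lt_or_eq_of_le (Subgroup.card_le_card_group K) with h | h
  · exact h
  · exact absurd (Subgroup.card_eq_iff_eq_top K |>.mp h) hK


/-- The property "`G` has a faithful character of degree `≤ n`". -/
def Lin (n : ℕ) (G : Type u) [Group G] : Prop :=
  ∃ χ : G → ℂ, IsCharacter G χ ∧ (∀ g : G, χ g = χ 1 → g = 1) ∧ charDegree χ ≤ n

/-- Subgroups with only large prime divisors are abelian. -/
theorem comm_of_lin {G : Type u} [Group G] [Finite G] (n : ℕ) (h : Lin n G) (K : Subgroup G)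
    (hK : ∀ q : ℕ, q.Prime → q ∣ Nat.card K → n + 1 < q) :
    ∀ x ∈ K, ∀ y ∈ K, x * y = y * x := by
  obtain ⟨χ, hχ, hf, hn⟩ := lin_subgroup n h K
  have := Cfsg.Agent.Helper10.Blich.comm_of_faithful_of_large_primes χ hχ hf n hn (fun q hq hd => by
    have := hK q hq hd; omega)
  intro x hx y hy
  have h1 := this ⟨x, hx⟩ ⟨y, hy⟩
  exact congrArg Subtype.val h1

theorem blichfeldt_aux (n : ℕ) : ∀ (N : ℕ) (G : Type u) [Group G] [Finite G], Nat.card G = N →
    Lin n G →
    ∃ A : Subgroup G, (∀ q : ℕ, q.Prime → q ∣ Nat.card A → n + 1 < q) ∧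
      (∀ q : ℕ, q.Prime → q ∣ A.index → ¬ (n + 1 < q)) := by
  intro N
  induction N using Nat.strong_induction_on with
  | _ N IH =>
  intro G _ _ hN hlin
  classical
  -- induction hypothesis for proper subgroups
  have hIH : ∀ K : Subgroup G, K ≠ ⊤ → ∃ A : Subgroup G, A ≤ K ∧
      (∀ q : ℕ, q.Prime → q ∣ Nat.card A → n + 1 < q) ∧
      (∀ q : ℕ, q.Prime → q ∣ A.relIndex K → ¬ (n + 1 < q)) := by
    intro K hK
    have hlt : Nat.card K < N := hN ▸ card_lt_of_ne_top K hK
    obtain ⟨A', h1, h2⟩ := IH (Nat.card K) hlt K rfl (lin_subgroup n hlin K)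
    exact hall_map_subtype (fun q => n + 1 < q) K A' h1 h2
  have hab : ∀ K : Subgroup G, (∀ q : ℕ, q.Prime → q ∣ Nat.card K → n + 1 < q) →
      ∀ x ∈ K, ∀ y ∈ K, x * y = y * x := fun K hK => comm_of_lin n hlin K hK
  obtain ⟨χ, hχ, hf, hn⟩ := hlin
  obtain ⟨S, hS1, hS2⟩ := Cfsg.Agent.Helper10.Blich.exists_irr_family χ hχ hf n hn
  by_cases hcase : ∃ ψ ∈ S, ∀ g : G, ψ g = ψ 1 → g = 1
  · -- Case B: a faithful irreducible character
    obtain ⟨ψ, hψS, hψf⟩ := hcase
    obtain ⟨hψ, hψn⟩ := hS1 ψ hψS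
    have hZ := Cfsg.Agent.Helper60.Blich.isCyclic_center_of_faithful_irr ψ hψ hψf
    by_cases hsplit : ∃ p : ℕ, p.Prime ∧ n + 1 < p ∧ p ∣ Nat.card (Subgroup.center G) ∧
        ∀ g : G, (∃ k : ℕ, orderOf g = p ^ k) →
          orderOf g ≤ ordProj[p] (Nat.card (Subgroup.center G))
    · obtain ⟨p, hp, hnp, hpZ, hexp⟩ := hsplit
      have : Fact p.Prime := ⟨hp⟩
      refine Cfsg.Agent.Helper62.Blich.hall_step_split (fun q => n + 1 < q) p hnp hZ ?_ hpZ hexp hIH
      intro Sy x hx y hy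
      refine hab (Sy : Subgroup G) ?_ x hx y hy
      intro q hq hd
      have hpg : IsPGroup p (Sy : Subgroup G) := Sy.isPGroup'
      obtain ⟨k, hk⟩ := IsPGroup.iff_card.mp hpg
      rw [hk] at hd
      have := (Nat.prime_dvd_prime_iff_eq hq hp).mp (hq.dvd_of_dvd_pow hd)
      rw [this]; exact hnp
    · refine Cfsg.Agent.Helper65.Blich.hall_step_main (fun q => n + 1 < q) hab hIH ?_
      intro p r hp hr hpr hPp hPr hpG hrG
      -- elements of large order
      have key : ∀ q : ℕ, q.Prime → n + 1 < q → q ∣ Nat.card G →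
          ∃ g : G, (∃ k : ℕ, orderOf g = q ^ k) ∧
            q ^ ((Nat.card (Subgroup.center G)).factorization q) < orderOf g := by
        intro q hq hnq hqG
        by_cases hqZ : q ∣ Nat.card (Subgroup.center G)
        · by_contra hcon
          push Not at hcon
          exact hsplit ⟨q, hq, hnq, hqZ, fun g hg => hcon g hg⟩
        · have : Fact q.Prime := ⟨hq⟩
          obtain ⟨g, hg⟩ := exists_prime_orderOf_dvd_card' q hqG
          refine ⟨g, ⟨1, by rw [hg, pow_one]⟩, ?_⟩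
          rw [Nat.factorization_eq_zero_of_not_dvd hqZ, pow_zero, hg]
          exact hq.one_lt
      obtain ⟨x, y, hxy, hx1, hx2, hy1, hy2⟩ := Cfsg.Agent.Helper31.Blich.exists_commute_of_galois ψ hψ hψf n hψn p r hp hr hpr
        hPp hPr _ _ (key p hp hPp hpG) (key r hr hPr hrG)
      have notcentral : ∀ (q : ℕ) (z : G), q.Prime → (∃ k : ℕ, orderOf z = q ^ k) →
          q ^ ((Nat.card (Subgroup.center G)).factorization q) < orderOf z →
          z ∉ Subgroup.center G := by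
        intro q z hq ⟨k, hk⟩ hlt hz
        have hd : orderOf z ∣ Nat.card (Subgroup.center G) := by
          have := orderOf_dvd_natCard (⟨z, hz⟩ : Subgroup.center G)
          rwa [Subgroup.orderOf_mk] at this
        rw [hk] at hd hlt
        have hpos : Nat.card (Subgroup.center G) ≠ 0 := Nat.card_pos.ne'
        have hle : k ≤ (Nat.card (Subgroup.center G)).factorization q :=
          (hq.pow_dvd_iff_le_factorization hpos).mp hd
        exact absurd (Nat.pow_le_pow_right hq.pos hle) (not_le.mpr hlt)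
      exact ⟨x, y, hxy, hx1, hy1, notcentral p x hp hx1 hx2, notcentral r y hr hy1 hy2⟩
  · -- Case A: no irreducible constituent is faithful
    push Not at hcase
    have hSc : ∀ ψ ∈ S, IsCharacter G ψ := fun ψ hψ => by
      obtain ⟨m, ρ, _, h⟩ := (hS1 ψ hψ).1
      exact ⟨m, ρ, h⟩
    let ker : (G → ℂ) → Subgroup G := fun ψ =>
      if h : IsCharacter G ψ then Cfsg.Agent.Helper80.kerChar ψ h else ⊤
    have hker : ∀ ψ ∈ S, ∀ g : G, g ∈ ker ψ ↔ ψ g = ψ 1 := by
      intro ψ hψ g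
      simp only [ker, dif_pos (hSc ψ hψ)]
      exact Cfsg.Agent.Helper80.mem_kerChar (hSc ψ hψ) g
    have hkernorm : ∀ ψ ∈ S, (ker ψ).Normal := by
      intro ψ hψ
      simp only [ker, dif_pos (hSc ψ hψ)]
      infer_instance
    refine Cfsg.Agent.Helper32.Blich.hall_step_subdirect (fun q => n + 1 < q) (S.image ker) ?_ ?_ ?_ hIH
    · intro g hg
      apply hS2 g
      intro ψ hψ
      exact (hker ψ hψ g).mp (hg (ker ψ) (Finset.mem_image_of_mem ker hψ))
    · intro K hKn hK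
      obtain ⟨ψ, hψS, rfl⟩ := Finset.mem_image.mp hK
      obtain ⟨hψ, hψn⟩ := hS1 ψ hψS
      obtain ⟨φ, hφ, hφψ⟩ := Cfsg.Agent.Helper60.Blich.exists_irr_quotient ψ hψ (ker ψ)
        (fun g hg => (hker ψ hψS g).mp hg)
      -- the quotient is smaller
      obtain ⟨g0, hg0, hg01⟩ := hcase ψ hψS
      have hg0K : g0 ∈ ker ψ := (hker ψ hψS g0).mpr hg0
      have hlt : Nat.card (G ⧸ ker ψ) < N := by
        rw [← hN, ← Subgroup.index_eq_card, ← Subgroup.card_mul_index (ker ψ)]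
        have h2 : 1 < Nat.card (ker ψ) := by
          rw [Finite.one_lt_card_iff_nontrivial]
          exact ⟨⟨⟨g0, hg0K⟩, 1, fun h => hg01 (congrArg Subtype.val h)⟩⟩
        have h3 : 0 < (ker ψ).index := Nat.pos_of_ne_zero (Subgroup.index_ne_zero_of_finite)
        nlinarith
      have hφc : IsCharacter (G ⧸ ker ψ) φ := by
        obtain ⟨m, ρ, _, h⟩ := hφ
        exact ⟨m, ρ, h⟩
      have hφf : ∀ q : G ⧸ ker ψ, φ q = φ 1 → q = 1 := by
        intro q hq
        obtain ⟨g, rfl⟩ := QuotientGroup.mk_surjective q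
        have h1 : φ ((1 : G) : G ⧸ ker ψ) = ψ 1 := hφψ 1
        rw [hφψ g, show (1 : G ⧸ ker ψ) = ((1 : G) : G ⧸ ker ψ) from rfl, h1] at hq
        exact (QuotientGroup.eq_one_iff g).mpr ((hker ψ hψS g).mpr hq)
      have hφn : charDegree φ ≤ n := by
        have h1 : φ 1 = ψ 1 := hφψ 1
        simpa [charDegree, h1] using hψn
      have hlinQ : Lin n (G ⧸ ker ψ) := ⟨φ, hφc, hφf, hφn⟩
      obtain ⟨Abar, h1, h2⟩ := IH _ hlt (G ⧸ ker ψ) rfl hlinQ
      exact ⟨Abar, comm_of_lin n hlinQ Abar h1, h1, h2⟩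
    · intro K hK
      obtain ⟨ψ, hψS, rfl⟩ := Finset.mem_image.mp hK
      exact hkernorm ψ hψS

/-- Blichfeldt: a finite group with a faithful character of degree `n` has an abelian Hall
`π`-subgroup, `π` the set of primes `> n + 1`. -/
theorem blichfeldt {G : Type u} [Group G] [Finite G] (χ : G → ℂ) (hχ : IsCharacter G χ)
    (hfaith : ∀ g : G, χ g = χ 1 → g = 1) (n : ℕ) (hn : charDegree χ ≤ n) :
    ∃ A : Subgroup G, (∀ x ∈ A, ∀ y ∈ A, x * y = y * x) ∧
      (∀ q : ℕ, q.Prime → q ∣ Nat.card A → n + 1 < q) ∧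
      (∀ q : ℕ, q.Prime → q ∣ A.index → q ≤ n + 1) := by
  have hlin : Lin n G := ⟨χ, hχ, hfaith, hn⟩
  obtain ⟨A, h1, h2⟩ := blichfeldt_aux n (Nat.card G) G rfl hlin
  exact ⟨A, comm_of_lin n hlin A h1, h1, fun q hq hd => not_lt.mp (h2 q hq hd)⟩

end Cfsg.Agent.Helper95.Blich
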