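import Cfsg.Agent.Helper78.HKDefs

/-!
# Harris–Knörr (S4674), piece N2: blocks of `N` covered by the same block of `G` are conjugate
-/

set_option autoImplicit false

namespace Cfsg.Agent.Helper95.HKN2

open Cfsg Cfsg.Agent.Helper78

universe u

variable {G : Type u} [Group G] [Fintype G] {M : Ideal AlgInt}

variable (N : Subgroup G) [hN : N.Normal] [Fintype N]

/-- Two blocks of the normal subgroup `N` covered by the same block of `G` are `G`-conjugate. -/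
theorem exists_conjBlk_of_covers [hMp : M.IsPrime] {B : Set (IrrCharacter G)}
    (hB : IsPBlock M B) {d d₁ : Set (IrrCharacter ↥N)} (hd : IsPBlock M d)
    (hd₁ : IsPBlock M d₁)
    (hcov : ∃ χ ∈ B, ∃ θ ∈ d, classInner (fun n : N => (χ : G → ℂ) n) (θ : N → ℂ) ≠ 0)
    (hcov₁ : ∃ χ ∈ B, ∃ θ ∈ d₁, classInner (fun n : N => (χ : G → ℂ) n) (θ : N → ℂ) ≠ 0) :
    ∃ g : G, d₁ = conjBlk N g d := by
  obtain ⟨χ, hχ, θ, hθ, hne⟩ := hcov
  obtain ⟨χ₁, hχ₁, θ₁, hθ₁, hne₁⟩ := hcov₁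
  have hlo : Helper16.LiesOver N (χ : G → ℂ) (Helper16.conjUnion N d) :=
    ⟨θ, Helper16.subset_conjUnion N d hθ, hne⟩
  have hsame : SameBlock M (χ : G → ℂ) (χ₁ : G → ℂ) :=
    Helper78.sameBlock_of_mem_of_mem hMp hB hχ hχ₁
  obtain ⟨θ', hθ'O, hne'⟩ :=
    (Helper16.liesOver_iff_of_sameBlock N (Helper16.gStable_conjUnion N d)
      (Helper16.memLocalRing_blockCoeff_conjUnion N hd) hsame).mp hlo
  obtain ⟨g, hg⟩ := Helper15.exists_conj_of_constituents N χ₁.2 θ'.2 θ₁.2 hne' hne₁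
  have hθ₁eq : θ₁ = Helper16.irrConj N g θ' := Subtype.ext hg
  have hθ₁O : θ₁ ∈ Helper16.conjUnion N d := by
    rw [hθ₁eq]
    exact Helper16.gStable_conjUnion N d θ' hθ'O g
  have hsub : d₁ ⊆ Helper16.conjUnion N d := by
    intro θ'' hθ''
    have hs : SameBlock M (θ₁ : N → ℂ) (θ'' : N → ℂ) :=
      Helper78.sameBlock_of_mem_of_mem hMp hd₁ hθ₁ hθ''
    exact Helper16.conjUnion_closed N hd θ₁ hθ₁O θ'' hs
  exact Helper16.eq_conjBlk_of_subset_conjUnion N hd hd₁ hsub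

end Cfsg.Agent.Helper95.HKN2
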