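import Mathlib
import Cfsg.Agent.Helper81.RO2
import Cfsg.Agent.Helper63.Class2Exp4
import Cfsg.Agent.Helper63.Frattini
import Cfsg.Agent.Helper47.Frattini

/-!
# (F1) for S4581: in a finite `2`-group, `P' = Φ(P)` iff every linear character is a sign
-/

set_option autoImplicit false

namespace Cfsg.Agent.Helper95.ROF1

open Cfsg

/-- A homomorphism to a commutative group kills the commutator subgroup. -/
theorem lin_commutator_eq_one {P : Type*} [Group P] (μ : P →* ℂˣ) {y : P}
    (hy : y ∈ commutator P) : μ y = 1 := by
  have hle : commutator P ≤ μ.ker := by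
    rw [commutator_eq_closure, Subgroup.closure_le]
    rintro _ ⟨a, b, rfl⟩
    rw [SetLike.mem_coe, MonoidHom.mem_ker, commutatorElement_def, map_mul, map_mul, map_mul,
      map_inv, map_inv]
    rw [mul_comm (μ a) (μ b), mul_assoc (μ b), mul_inv_cancel, mul_one, mul_inv_cancel]
  exact MonoidHom.mem_ker.mp (hle hy)

/-- If every linear character of the finite group `P` kills `y`, then `y ∈ P'`. -/
theorem mem_commutator_of_forall_lin {P : Type*} [Group P] [Finite P] {y : P}
    (h : ∀ μ : P →* ℂˣ, μ y = 1) : y ∈ commutator P := by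
  by_contra hy
  have hne : (QuotientGroup.mk y : Abelianization P) ≠ 1 := by
    intro h1
    exact hy ((QuotientGroup.eq_one_iff y).mp h1)
  have hexp : NeZero (Monoid.exponent (Abelianization P)) :=
    ⟨Monoid.exponent_ne_zero_of_finite⟩
  have hexp' : NeZero ((Monoid.exponent (Abelianization P) : ℕ) : ℂ) :=
    ⟨by exact_mod_cast hexp.out⟩
  obtain ⟨φ, hφ⟩ :=
    CommGroup.exists_apply_ne_one_of_hasEnoughRootsOfUnity (Abelianization P) ℂ hne
  exact hφ (h (φ.comp (QuotientGroup.mk' (commutator P))))

/-- **(F1)** In a finite `2`-group, `P' = Φ(P)` iff every linear character squares to one. -/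
theorem commutator_eq_frattini_iff {P : Type*} [Group P] [Finite P] (hP : IsPGroup 2 P) :
    commutator P = frattini P ↔ ∀ μ : P →* ℂˣ, ∀ x, μ x * μ x = 1 := by
  have : Fact (Nat.Prime 2) := ⟨Nat.prime_two⟩
  constructor
  · intro h μ x
    have h1 : x ^ 2 ∈ commutator P := by
      rw [h]; exact Cfsg.Agent.Helper63.pow_prime_mem_frattini hP x
    have h2 := lin_commutator_eq_one μ h1
    rwa [map_pow, pow_two] at h2
  · intro h
    apply le_antisymm (Cfsg.Agent.Helper63.commutator_le_frattini_of_isPGroup_two hP)
    refine Cfsg.Agent.Helper47.frattini_le_of_commutator_pow_mem (p := 2) (commutator P) ?_ ?_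
    · intro a b
      rw [commutator_eq_closure]
      exact Subgroup.subset_closure ⟨a, b, rfl⟩
    · intro a
      apply mem_commutator_of_forall_lin
      intro μ
      rw [map_pow, pow_two]
      exact h μ a

end Cfsg.Agent.Helper95.ROF1
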