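/-
helper95: basic tools for CN-groups (groups in which centralizers of nonidentity elements are
nilpotent): `p`-part / `p'`-part decomposition of elements, commuting of coprime parts inside a
nilpotent subgroup.
-/
import Mathlib
import Cfsg.Prelude.Def_LieExceptional
import Cfsg.Agent.S0581
import Cfsg.Agent.Lib.Nilpotent

set_option autoImplicit false

namespace Cfsg.Agent.Helper95.CN

open Subgroup

variable {G : Type*} [Group G] [Finite G]

/-- In a nilpotent subgroup, a `p`-element commutes with a `p'`-element. -/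
lemma commute_in_nilpotent {D : Subgroup G} (hD : Group.IsNilpotent D) {p : ℕ} (hp : p.Prime)
    {a b : G} (ha : a ∈ D) (hb : b ∈ D) (hap : ∃ k, a ^ p ^ k = 1) (hbp : ¬ p ∣ orderOf b) :
    a * b = b * a := by
  have := Fact.mk hp
  obtain ⟨T, hTn, hTc, k, hk⟩ := S0581.exists_normal_compl (M := D) p
  obtain ⟨j, hj⟩ := hap
  have hzp : IsPGroup p (zpowers (⟨a, ha⟩ : D)) := by
    have h1 : orderOf (⟨a, ha⟩ : D) ∣ p ^ j :=
      orderOf_dvd_of_pow_eq_one (Subtype.ext (by simpa using hj))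
    obtain ⟨i, -, hi⟩ := (Nat.dvd_prime_pow hp).mp h1
    exact IsPGroup.of_card (n := i) (by rw [Nat.card_zpowers, hi])
  obtain ⟨P', hP'⟩ := hzp.exists_le_sylow
  have hbT : (⟨b, hb⟩ : D) ∈ T := by
    have h1 : (⟨b, hb⟩ : D) ^ (p ^ k) ∈ T := by
      rw [← QuotientGroup.eq_one_iff, QuotientGroup.mk_pow, ← hk, Subgroup.index_eq_card]
      exact pow_card_eq_one'
    have hcop : (p ^ k).Coprime (orderOf (⟨b, hb⟩ : D)) := by
      rw [Subgroup.orderOf_mk]
      exact Nat.Coprime.pow_left _ ((Nat.Prime.coprime_iff_not_dvd hp).mpr hbp)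
    obtain ⟨m, hm⟩ := exists_pow_eq_self_of_coprime hcop
    rw [← hm]
    exact T.pow_mem h1 m
  have hdisj : Disjoint (P' : Subgroup D) T := by
    apply Subgroup.disjoint_of_coprime_natCard
    obtain ⟨i, hi⟩ := P'.2.exists_card_eq
    rw [hi]
    exact Nat.Coprime.pow_left _ ((Nat.Prime.coprime_iff_not_dvd hp).mpr hTc)
  have hc := Subgroup.commute_of_normal_of_disjoint (P' : Subgroup D) T inferInstance hTn hdisj
    ⟨a, ha⟩ ⟨b, hb⟩ (hP' (mem_zpowers _)) hbT
  exact congrArg Subtype.val hc.eq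

/-- Every element of a finite group is the product of a `p`-element and a `p'`-element, both
powers of it. -/
lemma exists_parts (p : ℕ) (hp : p.Prime) (y : G) :
    ∃ a b : G, a ∈ zpowers y ∧ b ∈ zpowers y ∧ a * b = y ∧ (∃ k, a ^ p ^ k = 1) ∧
      ¬ p ∣ orderOf b := by
  have hpos : 0 < orderOf y := orderOf_pos y
  obtain ⟨k, m, hm, hkm⟩ := Nat.exists_eq_pow_mul_and_not_dvd hpos.ne' p hp.ne_one
  have hcop : Nat.Coprime (p ^ k) m :=
    Nat.Coprime.pow_left _ ((Nat.Prime.coprime_iff_not_dvd hp).mpr hm)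
  have hbez : ((p ^ k : ℕ) : ℤ) * Nat.gcdA (p ^ k) m + (m : ℤ) * Nat.gcdB (p ^ k) m = 1 := by
    have := Nat.gcd_eq_gcd_ab (p ^ k) m
    rw [hcop.gcd_eq_one] at this
    exact_mod_cast this.symm
  set u := Nat.gcdA (p ^ k) m
  set v := Nat.gcdB (p ^ k) m
  have hy1 : y ^ (p ^ k * m) = 1 := by rw [← hkm]; exact pow_orderOf_eq_one y
  refine ⟨(y ^ m) ^ v, (y ^ (p ^ k)) ^ u, ?_, ?_, ?_, ⟨k, ?_⟩, ?_⟩
  · exact (zpowers y).zpow_mem ((zpowers y).pow_mem (mem_zpowers y) _) _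
  · exact (zpowers y).zpow_mem ((zpowers y).pow_mem (mem_zpowers y) _) _
  · rw [← zpow_natCast y m, ← zpow_natCast y (p ^ k), ← zpow_mul, ← zpow_mul, ← zpow_add,
      add_comm, hbez, zpow_one]
  · rw [← zpow_natCast, ← zpow_mul, ← zpow_natCast y m, ← zpow_mul]
    have : (m : ℤ) * (v * ((p ^ k : ℕ) : ℤ)) = ((p ^ k * m : ℕ) : ℤ) * v := by push_cast; ring
    rw [this, zpow_mul, zpow_natCast, hy1, one_zpow]
  · intro hdvd
    have h1 : ((y ^ (p ^ k)) ^ u) ^ m = 1 := by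
      rw [← zpow_natCast, ← zpow_mul, ← zpow_natCast y (p ^ k), ← zpow_mul]
      have : ((p ^ k : ℕ) : ℤ) * (u * (m : ℤ)) = ((p ^ k * m : ℕ) : ℤ) * u := by push_cast; ring
      rw [this, zpow_mul, zpow_natCast, hy1, one_zpow]
    exact hm (hdvd.trans (orderOf_dvd_of_pow_eq_one h1))

/-- If `z, z'` lie in a nilpotent subgroup `D`, `z` a `p'`-element and `z'` a `p`-element, and
everything commuting with `z` (resp. `z'`) lies in `H`, then `D ≤ H`. -/
lemma le_of_commute_parts {D H : Subgroup G} (hD : Group.IsNilpotent D) {p : ℕ} (hp : p.Prime)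
    {z z' : G} (hz : z ∈ D) (hz' : z' ∈ D) (hzp : ¬ p ∣ orderOf z) (hz'p : ∃ k, z' ^ p ^ k = 1)
    (hcz : ∀ y : G, y * z = z * y → y ∈ H) (hcz' : ∀ y : G, y * z' = z' * y → y ∈ H) :
    D ≤ H := by
  intro y hy
  obtain ⟨a, b, ha, hb, hab, hap, hbp⟩ := exists_parts p hp y
  have haD : a ∈ D := (zpowers_le.mpr hy) ha
  have hbD : b ∈ D := (zpowers_le.mpr hy) hb
  have h1 : a ∈ H := hcz a (commute_in_nilpotent hD hp haD hz hap hzp)
  have h2 : b ∈ H := hcz' b (commute_in_nilpotent hD hp hz' hbD hz'p hbp).symm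
  rw [← hab]
  exact H.mul_mem h1 h2

end Cfsg.Agent.Helper95.CN
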