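import Mathlib
import Cfsg.Prelude.Def_Solvable
import Cfsg.Agent.Lib.Cores
import Cfsg.Agent.Helper63.Frobenius
import Cfsg.Agent.Helper75.FrobeniusConj

/-!
# S4839 (Gagola): the Frobenius complement, and the converse

* `exists_frobenius_complement`: a normal `p`-subgroup `N` with `|G : N| + 1 = |N|` all of whose
  nonidentity elements have `p`-groups as centralizers is the kernel of a Frobenius complement of
  order `|N| - 1`.
* `eq_pCore_of_frobenius`: conversely, the kernel `N` (a `p`-group) of a Frobenius complement of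
  order `|N| - 1` is `O_p(G)`.
-/

set_option autoImplicit false

namespace Cfsg.Agent.Helper95.Gagola

open Cfsg

theorem exists_frobenius_complement {G : Type*} [Group G] [Finite G] {p : ℕ} [hp : Fact p.Prime]
    (N : Subgroup G) [hNn : N.Normal] (hNp : IsPGroup p N) (hN1 : N ≠ ⊥)
    (hcent : ∀ x ∈ N, x ≠ 1 → IsPGroup p (Subgroup.centralizer ({x} : Set G)))
    (hidx : N.index + 1 = Nat.card N) (hG : 2 < Nat.card G) :
    ∃ H : Subgroup G, Cfsg.IsFrobeniusComplement H ∧ Cfsg.frobeniusKernel H = (N : Set G) ∧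
      Nat.card H + 1 = Nat.card N := by
  classical
  have hcop : Nat.Coprime (Nat.card N) N.index := by
    rw [← hidx]
    simp
  obtain ⟨H, hH⟩ := Subgroup.exists_right_complement'_of_coprime hcop
  have hHcard : Nat.card H = N.index := hH.symm.index_eq_card.symm
  have hdisj : N ⊓ H = ⊥ := hH.disjoint.eq_bot
  have hmul : Nat.card N * Nat.card H = Nat.card G := hH.card_mul_card
  have hNcard1 : 1 < Nat.card N := by
    rw [Subgroup.one_lt_card_iff_ne_bot]
    exact hN1
  -- elements of `H` have order prime to `p`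
  have hHcop : (Nat.card H).Coprime (Nat.card N) := by
    rw [hHcard]
    exact hcop.symm
  have hfpf : ∀ k ∈ H, ∀ n ∈ N, n ≠ 1 → k * n = n * k → k = 1 := by
    intro k hk n hn hn1 hkn
    have hkC : k ∈ Subgroup.centralizer ({n} : Set G) := by
      rw [Subgroup.mem_centralizer_singleton_iff]
      exact hkn
    obtain ⟨j, hj⟩ := (hcent n hn hn1) ⟨k, hkC⟩
    have hj' : k ^ p ^ j = 1 := by simpa using congrArg Subtype.val hj
    have h1 : orderOf k ∣ p ^ j := orderOf_dvd_of_pow_eq_one hj'
    have h2 : orderOf k ∣ Nat.card H := by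
      have := orderOf_dvd_natCard (⟨k, hk⟩ : H)
      rwa [Subgroup.orderOf_mk] at this
    obtain ⟨a, ha⟩ := IsPGroup.iff_card.mp hNp
    have h3 : (Nat.card H).Coprime (p ^ j) := by
      rw [ha] at hHcop
      have ha0 : a ≠ 0 := by
        rintro rfl
        rw [pow_zero] at ha
        omega
      have : (Nat.card H).Coprime p := (Nat.coprime_pow_right_iff (Nat.pos_of_ne_zero ha0) _ _).mp hHcop
      exact Nat.Coprime.pow_right j this
    have h4 : orderOf k = 1 := Nat.eq_one_of_dvd_coprimes h3 h2 h1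
    exact orderOf_eq_one_iff.mp h4
  have hFC : Cfsg.IsFrobeniusComplement H := by
    refine ⟨?_, ?_, ?_⟩
    · -- `H ≠ ⊥`
      intro hb
      rw [hb, Subgroup.card_bot, mul_one] at hmul
      rw [hb, Subgroup.card_bot] at hHcard
      omega
    · -- `H ≠ ⊤`
      intro ht
      rw [ht, Subgroup.card_top] at hmul
      have hGpos : 0 < Nat.card G := Nat.card_pos
      nlinarith
    · -- trivial intersections
      intro g hg
      rw [Subgroup.eq_bot_iff_forall]
      intro k hk
      obtain ⟨hk1, hk2⟩ := Subgroup.mem_inf.mp hk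
      rw [Cfsg.Agent.Helper63.mem_conj_smul] at hk2
      -- `g = n * h`
      have hgtop : g ∈ ((N ⊔ H : Subgroup G) : Set G) := by
        rw [hH.sup_eq_top]
        trivial
      rw [Subgroup.normal_mul] at hgtop
      obtain ⟨n, hn, h, hh, hgeq⟩ := hgtop
      have hgeq' : n * h = g := hgeq
      subst hgeq'
      have hn1 : n ≠ 1 := by
        rintro rfl
        apply hg
        rw [one_mul]
        exact hh
      -- `k' := n⁻¹ k n ∈ H`
      have hk' : n⁻¹ * k * n ∈ H := by
        have h5 : n⁻¹ * k * n = h * ((n * h)⁻¹ * k * (n * h)) * h⁻¹ := by group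
        rw [h5]
        exact H.mul_mem (H.mul_mem hh hk2) (H.inv_mem hh)
      -- `k⁻¹ * (n⁻¹ k n) ∈ N ⊓ H`
      have h6 : k⁻¹ * (n⁻¹ * k * n) ∈ N ⊓ H := by
        refine Subgroup.mem_inf.mpr ⟨?_, H.mul_mem (H.inv_mem hk1) hk'⟩
        have h7 : k⁻¹ * (n⁻¹ * k * n) = (k⁻¹ * n⁻¹ * k⁻¹⁻¹) * n := by group
        rw [h7]
        exact N.mul_mem (hNn.conj_mem _ (N.inv_mem hn) _) hn
      rw [hdisj, Subgroup.mem_bot] at h6
      have h8 : k * n = n * k := by
        have : n⁻¹ * k * n = k := by
          have := congrArg (fun z => k * z) h6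
          simpa using this
        calc k * n = n * (n⁻¹ * k * n) := by group
          _ = n * k := by rw [this]
      exact hfpf k hk1 n hn hn1 h8
  refine ⟨H, hFC, ?_, ?_⟩
  · -- the kernel is `N`
    have hsub : (N : Set G) ⊆ Cfsg.frobeniusKernel H :=
      Cfsg.Agent.Helper63.frob_subset_kernel_of_inf_eq_bot N hdisj
    have hcardK : (Cfsg.frobeniusKernel H).ncard = H.index :=
      Cfsg.Agent.Helper63.frob_card_kernel hFC
    have hHidx : H.index = Nat.card N := hH.index_eq_card
    symm
    apply Set.eq_of_subset_of_ncard_le hsub _ (Set.toFinite _)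
    rw [hcardK, hHidx, ← Nat.card_coe_set_eq]
    rfl
  · rw [hHcard, hidx]

theorem eq_pCore_of_frobenius {G : Type*} [Group G] [Finite G] {p : ℕ} [hp : Fact p.Prime]
    (N : Subgroup G) [hNn : N.Normal] (hNp : IsPGroup p N) (hN1 : N ≠ ⊥) (H : Subgroup G)
    (hH : Cfsg.IsFrobeniusComplement H) (hker : Cfsg.frobeniusKernel H = (N : Set G))
    (hcard : Nat.card H + 1 = Nat.card N) : N = Cfsg.pCore p G := by
  obtain ⟨N', hN', -, -, -, hcardN', -⟩ := Cfsg.Agent.Helper75.fc_data hH
  have hNN' : N' = N := by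
    apply SetLike.coe_injective
    rw [hN', hker]
  subst hNN'
  have hle : N' ≤ Cfsg.pCore p G := Cfsg.Agent.Lib.le_pCore hNn hNp
  have hG : Nat.card G = Nat.card N' * Nat.card H := by
    rw [hcardN', mul_comm]
    exact (Subgroup.card_mul_index H).symm
  obtain ⟨a, ha⟩ := IsPGroup.iff_card.mp hNp
  obtain ⟨b, hb⟩ := IsPGroup.iff_card.mp (Cfsg.Agent.Lib.isPGroup_pCore (G := G) p)
  have ha0 : a ≠ 0 := by
    rintro rfl
    rw [pow_zero] at ha
    have : 1 < Nat.card N' := by
      rw [Subgroup.one_lt_card_iff_ne_bot]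
      exact hN1
    omega
  have hdvd : p ^ b ∣ Nat.card N' * Nat.card H := by
    rw [← hG, ← hb]
    exact Subgroup.card_subgroup_dvd_card _
  have hcopH : (Nat.card H).Coprime p := by
    have h1 : Nat.card H + 1 = p ^ a := by rw [hcard, ha]
    have h2 : p ∣ Nat.card H + 1 := by
      rw [h1]
      exact dvd_pow_self p ha0
    rw [Nat.coprime_comm, Nat.Prime.coprime_iff_not_dvd hp.out]
    intro h3
    have := (Nat.dvd_add_right h3).mp h2
    exact hp.out.one_lt.ne' (Nat.dvd_one.mp this)
  have hdvd' : p ^ b ∣ Nat.card N' :=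
    (Nat.Coprime.pow_left b hcopH.symm).dvd_of_dvd_mul_right hdvd
  apply Subgroup.eq_of_le_of_card_ge hle
  rw [hb]
  exact Nat.le_of_dvd Nat.card_pos hdvd'

end Cfsg.Agent.Helper95.Gagola
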