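import Mathlib
import Cfsg.Agent.Helper81.GA1
import Cfsg.Agent.S4838
import Cfsg.Agent.Helper80.TwoClassesSylow

/-!
# S4839 (Gagola): the data coming from the character

From a character `χ` nonzero on exactly two classes, with support the given normal `p`-subgroup
`N`: the `GagolaData` of helper81 for this `N` and `p`, and the arithmetic consequences of
"every `p`-element lies in `N`".
-/

set_option autoImplicit false

namespace Cfsg.Agent.Helper95.Gagola

open Cfsg Cfsg.Agent.Helper81.GA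

universe u

variable {G : Type u} [Group G] [Finite G]

theorem gagolaData_of_support (hG : 2 < Nat.card G) (χ : Cfsg.IrrCharacter G)
    (hχ : Nat.card {C : ConjClasses G // ∃ g ∈ C.carrier, (χ : G → ℂ) g ≠ 0} = 2) (p : ℕ)
    [hp : Fact p.Prime] (N : Subgroup G) [hNn : N.Normal]
    (hN : ∀ g : G, g ∈ N ↔ (χ : G → ℂ) g ≠ 0) (hNp : IsPGroup p N) (hN1 : N ≠ ⊥) :
    GagolaData G p N := by
  obtain ⟨N', hNn', hN1', hmin, ⟨p', hp', hcomm, hexp⟩, hsupp, hconj⟩ :=
    Cfsg.Agent.S4835.result hG χ hχ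
  have hNN' : N' = N := by
    ext g
    rw [hN g]
    exact (hsupp g).symm
  subst hNN'
  -- a nonidentity element
  obtain ⟨x, hx, hx1⟩ : ∃ x ∈ N', x ≠ 1 := by
    by_contra hcon
    push Not at hcon
    exact hN1 ((Subgroup.eq_bot_iff_forall N').mpr hcon)
  have hpp' : p' = p := by
    have hxp' : x ^ p' = 1 := hexp x hx
    have ho : orderOf x = p' := by
      rcases (Nat.dvd_prime hp').mp (orderOf_dvd_of_pow_eq_one hxp') with h1 | h1
      · exact absurd (orderOf_eq_one_iff.mp h1) hx1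
      · exact h1
    obtain ⟨k, hk⟩ := hNp ⟨x, hx⟩
    have hk' : x ^ p ^ k = 1 := by simpa using congrArg Subtype.val hk
    have hdvd : p' ∣ p ^ k := ho ▸ orderOf_dvd_of_pow_eq_one hk'
    exact (Nat.prime_dvd_prime_iff_eq hp' hp.out).mp (hp'.dvd_of_dvd_pow hdvd)
  subst hpp'
  have h37 := (Cfsg.Agent.S4837.result hG χ hχ p' N' hN hNp hN1).1
  refine ⟨hp', hNn, hN1, ?_, hexp, hmin, ?_, ?_⟩
  · intro a ha b hb
    have := hcomm.is_comm.comm (⟨a, ha⟩ : N') ⟨b, hb⟩
    exact congrArg Subtype.val this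
  · intro x hx y hy hx1 hy1
    obtain ⟨g, hg⟩ := hconj x hx y hy hx1 hy1
    exact isConj_iff.mpr ⟨g, hg⟩
  · intro x hx hx1
    obtain ⟨P, hP⟩ := h37 x hx hx1
    rw [hP]
    exact P.isPGroup'

/-- If `p` is odd then `|G|` is even. -/
theorem even_card_of_odd (hG : 2 < Nat.card G) (χ : Cfsg.IrrCharacter G)
    (hχ : Nat.card {C : ConjClasses G // ∃ g ∈ C.carrier, (χ : G → ℂ) g ≠ 0} = 2) (p : ℕ)
    [hp : Fact p.Prime] (N : Subgroup G) [hNn : N.Normal]
    (hN : ∀ g : G, g ∈ N ↔ (χ : G → ℂ) g ≠ 0) (hNp : IsPGroup p N) (hN1 : N ≠ ⊥)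
    (hp2 : p ≠ 2) : 2 ∣ Nat.card G := by
  obtain ⟨g, hgN, hg1, -, -, -, -, hNcard, -⟩ :=
    Cfsg.Agent.Helper80.two_classes_setup hG χ hχ p N hN hNp hN1
  obtain ⟨a, ha⟩ := IsPGroup.iff_card.mp hNp
  have hodd : Odd (Nat.card N) := by
    rw [ha]
    exact Odd.pow (hp.out.odd_of_ne_two hp2)
  have h2 : 2 ∣ (Subgroup.centralizer ({g} : Set G)).index := by
    rw [hNcard] at hodd
    obtain ⟨m, hm⟩ := hodd
    exact ⟨m, by omega⟩
  exact h2.trans (Subgroup.index_dvd_card _)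

/-- If every `p`-element lies in `N` then `|G : N| + 1 = |N|`. -/
theorem index_add_one_eq (hG : 2 < Nat.card G) (χ : Cfsg.IrrCharacter G)
    (hχ : Nat.card {C : ConjClasses G // ∃ g ∈ C.carrier, (χ : G → ℂ) g ≠ 0} = 2) (p : ℕ)
    [hp : Fact p.Prime] (N : Subgroup G) [hNn : N.Normal]
    (hN : ∀ g : G, g ∈ N ↔ (χ : G → ℂ) g ≠ 0) (hNp : IsPGroup p N) (hN1 : N ≠ ⊥)
    (hpel : ∀ (y : G) (k : ℕ), y ^ p ^ k = 1 → y ∈ N) : N.index + 1 = Nat.card N := by
  obtain ⟨g, hgN, hg1, -, -, -, hcent, hNcard, -⟩ :=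
    Cfsg.Agent.Helper80.two_classes_setup hG χ hχ p N hN hNp hN1
  obtain ⟨P⟩ : Nonempty (Sylow p G) := inferInstance
  have hPN : (P : Subgroup G) ≤ N := by
    intro y hy
    obtain ⟨k, hk⟩ := P.isPGroup' ⟨y, hy⟩
    have hk' : y ^ p ^ k = 1 := by simpa using congrArg Subtype.val hk
    exact hpel y k hk'
  have hNP : N ≤ (P : Subgroup G) := hNp.le_sylow_of_normal P
  have hPeq : (P : Subgroup G) = N := le_antisymm hPN hNP
  have hcardN : Nat.card N = p ^ (Nat.card G).factorization p := by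
    rw [← hPeq]
    exact P.card_eq_multiplicity
  have hC : Nat.card (Subgroup.centralizer ({g} : Set G)) = Nat.card N := by
    rw [hcent g hgN hg1, hcardN]
  have h1 := Subgroup.card_mul_index (Subgroup.centralizer ({g} : Set G))
  have h2 := Subgroup.card_mul_index N
  have hidx : (Subgroup.centralizer ({g} : Set G)).index = N.index := by
    rw [hC, ← h2] at h1
    exact Nat.eq_of_mul_eq_mul_left Nat.card_pos h1
  rw [← hidx, ← hNcard]

end Cfsg.Agent.Helper95.Gagola
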