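import Mathlib
import Cfsg.Prelude.Def_Blocks
import Cfsg.Agent.Helper76.CharBasic
import Cfsg.Agent.Helper95.BlichMain
import Cfsg.Agent.Helper37.BlichJC
import Cfsg.Agent.Helper89.JordanJA3
import Cfsg.Agent.Helper97.JordanJA1
import Cfsg.Agent.Helper25.JordanJA2
import Cfsg.Agent.Helper33.BlichJB

/-! # Jordan's theorem with the Blichfeldt–Isaacs bound: assembly (helper95) -/

set_option autoImplicit false

open Cfsg

universe u

namespace Cfsg.Agent.Helper95.Jordan


/-- If `q ∤ [G : H]` then the `q`-part of `[G : A]` divides `[H : A ⊓ H]`. -/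
theorem ordProj_index_dvd_relIndex {G : Type*} [Group G] [Finite G] (A H : Subgroup G) (q : ℕ)
    (hq : q.Prime) (hqH : ¬ q ∣ H.index) : ordProj[q] A.index ∣ A.relIndex H := by
  have hG : Nat.card G ≠ 0 := Nat.card_pos.ne'
  have hA0 : Nat.card A ≠ 0 := Nat.card_pos.ne'
  have hH0 : Nat.card H ≠ 0 := Nat.card_pos.ne'
  have hAi : A.index ≠ 0 := Subgroup.index_ne_zero_of_finite
  have hHi : H.index ≠ 0 := Subgroup.index_ne_zero_of_finite
  have hS0 : Nat.card (A.subgroupOf H) ≠ 0 := Nat.card_pos.ne'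
  have hR0 : A.relIndex H ≠ 0 := Subgroup.index_ne_zero_of_finite
  have e1 : (Nat.card G).factorization q = (Nat.card H).factorization q := by
    rw [← Subgroup.card_mul_index H, Nat.factorization_mul hH0 hHi]
    simp [Nat.factorization_eq_zero_of_not_dvd hqH]
  have e2 : (Nat.card G).factorization q
      = (Nat.card A).factorization q + A.index.factorization q := by
    rw [← Subgroup.card_mul_index A, Nat.factorization_mul hA0 hAi]; rfl
  have e3 : (Nat.card H).factorization q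
      = (Nat.card (A.subgroupOf H)).factorization q + (A.relIndex H).factorization q := by
    rw [← Subgroup.card_mul_index (A.subgroupOf H)]
    change (Nat.card (A.subgroupOf H) * A.relIndex H).factorization q = _
    rw [Nat.factorization_mul hS0 hR0]; rfl
  have e4 : (Nat.card (A.subgroupOf H)).factorization q ≤ (Nat.card A).factorization q := by
    have hd : Nat.card (A.subgroupOf H) ∣ Nat.card A := by
      have h1 : Nat.card (A.subgroupOf H) = Nat.card (A ⊓ H : Subgroup G) := by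
        rw [← Subgroup.inf_subgroupOf_right]
        exact Nat.card_congr (Subgroup.subgroupOfEquivOfLe inf_le_right).toEquiv
      rw [h1]
      exact Subgroup.card_dvd_of_le inf_le_left
    exact (Nat.factorization_le_iff_dvd hS0 hA0).mpr hd q
  have e5 : A.index.factorization q ≤ (A.relIndex H).factorization q := by omega
  exact dvd_trans (pow_dvd_pow q e5) (Nat.ordProj_dvd _ q)


section norms

variable {V : Type*} [NormedAddCommGroup V] [InnerProductSpace ℂ V] [FiniteDimensional ℂ V]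

/-- Conjugation by a unitary does not change the distance to a scalar. -/
theorem norm_conj_sub_smul (u v : unitary (V →L[ℂ] V)) (c : ℂ) :
    ‖((u * v * u⁻¹ : unitary (V →L[ℂ] V)) : V →L[ℂ] V) - c • (1 : V →L[ℂ] V)‖
      = ‖(v : V →L[ℂ] V) - c • (1 : V →L[ℂ] V)‖ := by
  have h1 : ((u * v * u⁻¹ : unitary (V →L[ℂ] V)) : V →L[ℂ] V) - c • (1 : V →L[ℂ] V)
      = (u : V →L[ℂ] V) * ((v : V →L[ℂ] V) - c • (1 : V →L[ℂ] V)) *
          ((u⁻¹ : unitary (V →L[ℂ] V)) : V →L[ℂ] V) := by
    have h2 : (u : V →L[ℂ] V) * ((u⁻¹ : unitary (V →L[ℂ] V)) : V →L[ℂ] V) = 1 := by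
      rw [← Submonoid.coe_mul, mul_inv_cancel]; rfl
    rw [mul_sub, sub_mul, mul_smul_comm, mul_one, smul_mul_assoc, h2]
    rfl
  rw [h1, CStarRing.norm_mul_coe_unitary, CStarRing.norm_coe_unitary_mul]

/-- An element within `1/2` of `√3/2` is within `√2` of `1`. -/
theorem norm_one_sub_lt_sqrt_two (v : V →L[ℂ] V)
    (hv : ‖v - ((Real.sqrt 3 / 2 : ℝ) : ℂ) • (1 : V →L[ℂ] V)‖ < 1 / 2) :
    ‖(1 : V →L[ℂ] V) - v‖ < Real.sqrt 2 := by
  set c : ℂ := ((Real.sqrt 3 / 2 : ℝ) : ℂ) with hc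
  have h3 : (1.7 : ℝ) < Real.sqrt 3 := by
    rw [show (1.7 : ℝ) = Real.sqrt (1.7 ^ 2) by rw [Real.sqrt_sq]; norm_num]
    exact Real.sqrt_lt_sqrt (by norm_num) (by norm_num)
  have h3' : Real.sqrt 3 < 2 := by
    rw [show (2 : ℝ) = Real.sqrt (2 ^ 2) by rw [Real.sqrt_sq]; norm_num]
    exact Real.sqrt_lt_sqrt (by norm_num) (by norm_num)
  have h2 : (1.4 : ℝ) < Real.sqrt 2 := by
    rw [show (1.4 : ℝ) = Real.sqrt (1.4 ^ 2) by rw [Real.sqrt_sq]; norm_num]
    exact Real.sqrt_lt_sqrt (by norm_num) (by norm_num)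
  have e : (1 : V →L[ℂ] V) - v = (1 - c) • (1 : V →L[ℂ] V) - (v - c • (1 : V →L[ℂ] V)) := by
    rw [sub_smul, one_smul]; abel
  have hn1 : ‖(1 - c) • (1 : V →L[ℂ] V)‖ ≤ 0.15 := by
    rw [norm_smul]
    have h1 : ‖(1 : V →L[ℂ] V)‖ ≤ 1 := ContinuousLinearMap.norm_id_le
    have hcn : ‖(1 - c : ℂ)‖ ≤ 0.15 := by
      have : (1 - c : ℂ) = ((1 - Real.sqrt 3 / 2 : ℝ) : ℂ) := by rw [hc]; push_cast; ring
      rw [this, Complex.norm_real, Real.norm_eq_abs, abs_le]
      constructor <;> linarith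
    calc ‖(1 - c : ℂ)‖ * ‖(1 : V →L[ℂ] V)‖ ≤ 0.15 * 1 :=
          mul_le_mul hcn h1 (norm_nonneg _) (by norm_num)
      _ = 0.15 := by norm_num
  calc ‖(1 : V →L[ℂ] V) - v‖ = ‖(1 - c) • (1 : V →L[ℂ] V) - (v - c • (1 : V →L[ℂ] V))‖ := by
        rw [← e]
    _ ≤ ‖(1 - c) • (1 : V →L[ℂ] V)‖ + ‖v - c • (1 : V →L[ℂ] V)‖ := norm_sub_le _ _
    _ < Real.sqrt 2 := by linarith

end norms


/-- Jordan's theorem with the bound `n! * 12 ^ (n * (π (n + 1) + 1))`. -/
theorem jordan {G : Type u} [Group G] [Finite G] (χ : G → ℂ) (hχ : IsCharacter G χ)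
    (hfaith : ∀ g : G, χ g = χ 1 → g = 1) (n : ℕ) (hn : charDegree χ = n) :
    ∃ A : Subgroup G, A.Normal ∧ (∀ x ∈ A, ∀ y ∈ A, x * y = y * x) ∧
      A.index ≤ Nat.factorial n * 12 ^ (n * (Nat.primeCounting (n + 1) + 1)) := by
  classical
  have hχ' := hχ
  obtain ⟨m, ρ, hρ⟩ := hχ
  have hm : m = n := by
    rw [← hn, ← hρ, Cfsg.Agent.Helper76.charDegree_character]
  subst hm
  obtain ⟨Φ, hΦ1⟩ := Cfsg.Agent.Helper89.Jordan.exists_unitary_hom m ρ
  have hΦinj : Function.Injective Φ := by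
    rw [injective_iff_map_eq_one]
    intro g hg
    apply hfaith
    have h1 := hΦ1 g hg
    rw [← hρ]
    simp only [Representation.character]
    rw [h1, ← map_one ρ]
  set c : ℂ := ((Real.sqrt 3 / 2 : ℝ) : ℂ) with hc
  let E := EuclideanSpace ℂ (Fin m)
  let T : Set G := {g | ‖((Φ g : unitary (E →L[ℂ] E)) : E →L[ℂ] E) - c • (1 : E →L[ℂ] E)‖ < 1 / 2}
  have hTconj : ∀ h g : G, g ∈ T → h * g * h⁻¹ ∈ T := by
    intro h g hg
    change ‖((Φ (h * g * h⁻¹) : unitary (E →L[ℂ] E)) : E →L[ℂ] E) - c • (1 : E →L[ℂ] E)‖ < 1 / 2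
    rw [map_mul, map_mul, map_inv, norm_conj_sub_smul]
    exact hg
  have hTcomm : ∀ x ∈ T, ∀ y ∈ T, x * y = y * x := by
    intro x hx y hy
    exact Cfsg.Agent.Helper97.JordanJA1.commute_of_norm_lt Φ hΦinj c x y hx (norm_one_sub_lt_sqrt_two _ hy)
  have hconjT : Group.conjugatesOfSet T = T := by
    apply Set.Subset.antisymm
    · intro x hx
      obtain ⟨a, ha, hax⟩ := Group.mem_conjugatesOfSet_iff.mp hx
      obtain ⟨d, hd⟩ := isConj_iff.mp hax
      rw [← hd]
      exact hTconj d a ha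
    · exact Group.subset_conjugatesOfSet
  let A : Subgroup G := Subgroup.normalClosure T
  have hAcl : A = Subgroup.closure T := by
    change Subgroup.closure (Group.conjugatesOfSet T) = _
    rw [hconjT]
  have hAcomm : ∀ x ∈ A, ∀ y ∈ A, x * y = y * x := by
    intro a ha b hb
    rw [hAcl] at ha hb
    have := Subgroup.isMulCommutative_closure hTcomm
    have h2 := mul_comm' (⟨a, ha⟩ : Subgroup.closure T) ⟨b, hb⟩
    exact congrArg Subtype.val h2
  have hJA2 : ∀ B : Subgroup G, (∀ x ∈ B, ∀ y ∈ B, x * y = y * x) → A.relIndex B ≤ 12 ^ m := by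
    intro B hB
    have := Cfsg.Agent.Helper25.JordanJA2.relIndex_le_of_comm Φ A (fun g hg => Subgroup.subset_normalClosure hg) B hB
    rwa [finrank_euclideanSpace_fin] at this
  refine ⟨A, Subgroup.normalClosure_normal, hAcomm, ?_⟩
  obtain ⟨H, hHab, hHπ, hHidx⟩ :=
    Cfsg.Agent.Helper95.Blich.blichfeldt χ hχ' hfaith m hn.le
  apply Cfsg.Agent.Helper37.Blich.jordan_arith A.index m (Nat.pos_of_ne_zero Subgroup.index_ne_zero_of_finite)
  · intro p hp hple
    have : Fact p.Prime := ⟨hp⟩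
    let P : Sylow p G := default
    -- the restricted character
    have hχP : IsCharacter (P : Subgroup G) (fun k => χ k) := by
      refine ⟨m, ρ.comp (P : Subgroup G).subtype, ?_⟩
      funext k
      rw [← hρ]
      rfl
    have hfP : ∀ g : (P : Subgroup G), (fun k : (P : Subgroup G) => χ k) g
        = (fun k : (P : Subgroup G) => χ k) 1 → g = 1 := by
      intro g hg
      exact Subtype.ext (hfaith g (by simpa using hg))
    have hdP : charDegree (fun k : (P : Subgroup G) => χ k) = m := by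
      simpa [charDegree] using hn
    have : Group.IsNilpotent (P : Subgroup G) := P.isPGroup'.isNilpotent
    obtain ⟨K, hKab, hKidx⟩ :=
      Cfsg.Agent.Helper33.BlichJB.exists_comm_subgroup_index_dvd_factorial (fun k : (P : Subgroup G) => χ k) hχP hfP m hdP
    obtain ⟨a, ha⟩ := IsPGroup.index P.isPGroup' K
    refine ⟨a, ha ▸ hKidx, ?_⟩
    let K' : Subgroup G := K.map (P : Subgroup G).subtype
    have hK'le : K' ≤ (P : Subgroup G) := Subgroup.map_subtype_le K
    have hK'ab : ∀ x ∈ K', ∀ y ∈ K', x * y = y * x := by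
      intro x hx y hy
      obtain ⟨x', hx', rfl⟩ := Subgroup.mem_map.mp hx
      obtain ⟨y', hy', rfl⟩ := Subgroup.mem_map.mp hy
      have := hKab x' hx' y' hy'
      exact congrArg Subtype.val this
    have hK'rel : K'.relIndex (P : Subgroup G) = p ^ a := by
      have : K'.subgroupOf (P : Subgroup G) = K := by
        ext x
        simp [K', Subgroup.mem_subgroupOf]
      rw [Subgroup.relIndex, this, ha]
    have h1 : ordProj[p] A.index ≤ A.relIndex (P : Subgroup G) := by
      apply Nat.le_of_dvd (Nat.pos_of_ne_zero Subgroup.index_ne_zero_of_finite)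
      apply ordProj_index_dvd_relIndex A (P : Subgroup G) p hp
      exact P.not_dvd_index
    have h2 : A.relIndex (P : Subgroup G) ≤ (A ⊓ K').relIndex (P : Subgroup G) := by
      apply Nat.le_of_dvd (Nat.pos_of_ne_zero Subgroup.index_ne_zero_of_finite)
      exact Subgroup.relIndex_dvd_of_le_left (P : Subgroup G) inf_le_left
    have h3 : (A ⊓ K').relIndex (P : Subgroup G) = A.relIndex K' * p ^ a := by
      rw [← Subgroup.relIndex_mul_relIndex (A ⊓ K') K' (P : Subgroup G) inf_le_right hK'le,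
        Subgroup.inf_relIndex_right, hK'rel]
    have h4 := hJA2 K' hK'ab
    calc ordProj[p] A.index ≤ A.relIndex K' * p ^ a := by rw [← h3]; exact h1.trans h2
      _ ≤ 12 ^ m * p ^ a := Nat.mul_le_mul_right _ h4
      _ = p ^ a * 12 ^ m := mul_comm _ _
  · refine ⟨A.relIndex H, Nat.pos_of_ne_zero Subgroup.index_ne_zero_of_finite, hJA2 H hHab, ?_⟩
    intro q hq hnq
    apply ordProj_index_dvd_relIndex A H q hq
    intro hd
    have := hHidx q hq hd
    omega

end Cfsg.Agent.Helper95.Jordan
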