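import Mathlib
import Cfsg.Agent.Helper15.IndChar

/-!
# Restriction congruences for characters (helper95)

* `sum_subgroup_eq`: for a character `χ` of a finite group and a subgroup `H`,
  `∑ h : H, χ h = |H| * m` for a natural number `m` (the multiplicity of `1_H`).
* `cong_b`: if `S` has order `8`, `t ∈ S`, `t ≠ 1` and `χ = d` on `S ∖ {1, t}`, then
  `8 ∣ χ(1) + χ(t) + 6 d` (integers).
* `cong_a`: if `x` has order `4` and `χ x = χ x⁻¹ = d = ±1`, then `4 ∣ χ(1) - χ(x²)`.

These are the two congruences used in the Brauer–Suzuki theorem for `Q8`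
(see `Cfsg.Agent.Helper95.QuatDescent.values_eq`).
-/

set_option autoImplicit false

namespace Cfsg.Agent.Helper95.QuatCong

open Cfsg
open scoped ComplexConjugate

universe u

variable {G : Type u} [Group G] [Finite G]

/-- The sum of a character over a subgroup is `|H|` times a natural number. -/
theorem sum_subgroup_eq {χ : G → ℂ} (hχ : IsCharacter G χ) (H : Subgroup G) [Fintype H] :
    ∃ m : ℕ, ∑ h : H, χ (h : G) = (Nat.card H : ℂ) * m := by
  have h1 : IsCharacter H (fun h : H => χ h) := Helper74.isCharacter_restrict H hχ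
  have h2 : IsCharacter H (fun _ : H => (1 : ℂ)) := Helper74.isCharacter_one
  obtain ⟨m, hm⟩ := Helper15.isCharacter_inner_nat h1 h2
  refine ⟨m, ?_⟩
  unfold classInner at hm
  simp only [map_one, mul_one] at hm
  have hne : (Nat.card H : ℂ) ≠ 0 := by
    exact_mod_cast (Nat.card_pos (α := H)).ne'
  rw [← hm]
  field_simp

/-- Congruence (b): if `χ` takes the constant value `d` on `S ∖ {1, t}` (`|S| = 8`), then
`8 ∣ χ(1) + χ(t) + 6 d`. -/
theorem cong_b {χ : G → ℂ} (hχ : IsCharacter G χ) (S : Subgroup G) (hS : Nat.card S = 8)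
    {t : G} (htS : t ∈ S) (ht1 : t ≠ 1) (f τ d : ℤ) (hf : χ 1 = f) (hτ : χ t = τ)
    (hd : ∀ s ∈ S, s ≠ 1 → s ≠ t → χ s = d) : (8 : ℤ) ∣ f + τ + 6 * d := by
  classical
  letI : Fintype S := Fintype.ofFinite S
  obtain ⟨m, hm⟩ := sum_subgroup_eq hχ S
  have hcard : Fintype.card S = 8 := by rw [← Nat.card_eq_fintype_card]; exact hS
  -- split the sum
  let o : S := 1
  let tt : S := ⟨t, htS⟩
  have hot : o ≠ tt := by
    intro h
    apply ht1
    have := congrArg Subtype.val h
    simpa [o, tt] using this.symm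
  have hsum : ∑ h : S, χ (h : G) = (f : ℂ) + τ + 6 * d := by
    rw [← Finset.sum_erase_add _ _ (Finset.mem_univ o)]
    rw [← Finset.sum_erase_add _ _ (Finset.mem_erase.mpr ⟨hot.symm, Finset.mem_univ tt⟩)]
    have hrest : ∀ s ∈ (Finset.univ.erase o).erase tt, χ (s : G) = (d : ℂ) := by
      intro s hs
      rw [Finset.mem_erase, Finset.mem_erase] at hs
      apply hd s s.2
      · intro h; exact hs.2.1 (Subtype.ext h)
      · intro h; exact hs.1 (Subtype.ext h)
    rw [Finset.sum_congr rfl hrest, Finset.sum_const]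
    have hc : ((Finset.univ.erase o).erase tt).card = 6 := by
      rw [Finset.card_erase_of_mem (Finset.mem_erase.mpr ⟨hot.symm, Finset.mem_univ tt⟩),
        Finset.card_erase_of_mem (Finset.mem_univ o), Finset.card_univ, hcard]
    rw [hc]
    simp only [o, tt, Subgroup.coe_one, hf, hτ]
    ring
  rw [hsum, hS] at hm
  refine ⟨m, ?_⟩
  have : ((f + τ + 6 * d : ℤ) : ℂ) = ((8 * (m : ℤ) : ℤ) : ℂ) := by
    push_cast
    rw [hm]
    push_cast
    ring
  exact_mod_cast this

/-- The sum of a function over the cyclic group generated by an element of order `4`. -/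
theorem sum_zpowers_four {x : G} (hx : orderOf x = 4) [Fintype (Subgroup.zpowers x)]
    (F : G → ℂ) :
    ∑ h : Subgroup.zpowers x, F (h : G) = F 1 + F x + F (x ^ 2) + F (x ^ 3) := by
  classical
  rw [← Equiv.sum_comp (finEquivZPowers (x := x) (isOfFinOrder_of_finite x))
    (fun h => F (h : G))]
  simp only [finEquivZPowers_apply]
  rw [Fin.sum_univ_eq_sum_range (fun i => F (x ^ i)) (orderOf x), hx]
  simp [Finset.sum_range_succ]

/-- Congruence (a): if `x` has order `4` and `χ x = χ x⁻¹ = d = ±1` then `4 ∣ χ 1 - χ (x ^ 2)`. -/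
theorem cong_a {χ : G → ℂ} (hχ : IsCharacter G χ) {x : G} (hx : orderOf x = 4)
    (f τ d : ℤ) (hf : χ 1 = f) (hτ : χ (x ^ 2) = τ) (hdx : χ x = d) (hdx' : χ x⁻¹ = d)
    (hd : d = 1 ∨ d = -1) : (4 : ℤ) ∣ f - τ := by
  classical
  letI : Fintype (Subgroup.zpowers x) := Fintype.ofFinite _
  have hcard : Nat.card (Subgroup.zpowers x) = 4 := by rw [Nat.card_zpowers, hx]
  have hx3 : x ^ 3 = x⁻¹ := by
    have h4 : x ^ 4 = 1 := by rw [← hx]; exact pow_orderOf_eq_one x
    have : x ^ 3 * x = 1 := by rw [← pow_succ]; exact h4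
    exact eq_inv_of_mul_eq_one_left this
  -- first congruence: f + τ + 2d = 4 m
  obtain ⟨m, hm⟩ := sum_subgroup_eq hχ (Subgroup.zpowers x)
  rw [sum_zpowers_four hx χ, hcard, hx3, hf, hτ, hdx, hdx'] at hm
  have e1 : f + d + τ + d = 4 * (m : ℤ) := by
    have : ((f + d + τ + d : ℤ) : ℂ) = ((4 * (m : ℤ) : ℤ) : ℂ) := by
      push_cast; rw [hm]; push_cast; ring
    exact_mod_cast this
  -- second congruence, for χ * χ
  obtain ⟨m', hm'⟩ := sum_subgroup_eq (Helper74.isCharacter_mul hχ hχ) (Subgroup.zpowers x)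
  rw [sum_zpowers_four hx (χ * χ), hcard] at hm'
  simp only [Pi.mul_apply, hx3, hf, hτ, hdx, hdx'] at hm'
  have e2 : f * f + d * d + τ * τ + d * d = 4 * (m' : ℤ) := by
    have : ((f * f + d * d + τ * τ + d * d : ℤ) : ℂ) = ((4 * (m' : ℤ) : ℤ) : ℂ) := by
      push_cast; rw [hm']; push_cast; ring
    exact_mod_cast this
  have hdd : d * d = 1 := by rcases hd with rfl | rfl <;> norm_num
  rw [hdd] at e2
  -- parity analysis
  obtain ⟨a, ha | ha⟩ := Int.even_or_odd' f
  · -- f even: then τ even (from e1) and f² + τ² + 2 ≡ 2 mod 4, contradiction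
    obtain ⟨b, hb | hb⟩ := Int.even_or_odd' τ
    · subst ha hb
      exfalso
      have : 4 * (a * a + b * b) + 2 = 4 * (m' : ℤ) := by linarith
      omega
    · subst ha hb
      exfalso
      rcases hd with rfl | rfl <;> omega
  · obtain ⟨b, hb | hb⟩ := Int.even_or_odd' τ
    · subst ha hb
      exfalso
      rcases hd with rfl | rfl <;> omega
    · subst ha hb
      rcases hd with rfl | rfl
      · obtain ⟨c, hc⟩ : ∃ c, a + b + 2 = 2 * c := ⟨(m : ℤ), by omega⟩
        exact ⟨a - c + 1, by omega⟩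
      · obtain ⟨c, hc⟩ : ∃ c, a + b = 2 * c := ⟨(m : ℤ), by omega⟩
        exact ⟨a - c, by omega⟩

end Cfsg.Agent.Helper95.QuatCong
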