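import Mathlib

/-!
# The arithmetic core of the Brauer–Suzuki theorem for `Q8` (helper95)

Let `d i = ±1`, `f i` odd integers and `k i` integers (`i = 1, 2, 3`) with

* (A) `d1 k1 + d2 k2 + d3 k3 = 0`,
* (B) `d1 k1² f2 f3 + d2 k2² f1 f3 + d3 k3² f1 f2 = 0`
  (that is `∑ d_i k_i² / f_i = 0` cleared of denominators),
* (C) `f i ≡ d i + 2 k i (mod 4)`.

Then `k1 = k2 = k3 = 0` (2-adic descent).
-/

namespace Cfsg.Agent.Helper95.QuatDescent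

/-- Finite check in `ZMod 4`. -/
theorem step_zmod4 : ∀ (d1 d2 d3 k1 k2 k3 c : ZMod 4),
    (d1 = 1 ∨ d1 = 3) → (d2 = 1 ∨ d2 = 3) → (d3 = 1 ∨ d3 = 3) →
    d1 * k1 + d2 * k2 + d3 * k3 = 0 →
    d1 * k1 ^ 2 * ((d2 + 2 * c * k2) * (d3 + 2 * c * k3)) +
      d2 * k2 ^ 2 * ((d1 + 2 * c * k1) * (d3 + 2 * c * k3)) +
      d3 * k3 ^ 2 * ((d1 + 2 * c * k1) * (d2 + 2 * c * k2)) = 0 →
    2 * k1 = 0 ∧ 2 * k2 = 0 ∧ 2 * k3 = 0 := by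
  decide

theorem cast_sign {d : ℤ} (hd : d = 1 ∨ d = -1) :
    ((d : ZMod 4) = 1 ∨ (d : ZMod 4) = 3) := by
  rcases hd with h | h
  · left; rw [h]; rfl
  · right; rw [h]; rfl

theorem even_of_two_mul_cast {k : ℤ} (h : (2 : ZMod 4) * (k : ZMod 4) = 0) : ∃ k', k = 2 * k' := by
  have h1 : ((2 * k : ℤ) : ZMod 4) = 0 := by push_cast; exact h
  rw [ZMod.intCast_zmod_eq_zero_iff_dvd] at h1
  obtain ⟨m, hm⟩ := h1
  exact ⟨m, by push_cast at hm; omega⟩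

/-- One descent step over `ℤ`, with an auxiliary integer `c` in the congruence. -/
theorem step_int (d1 d2 d3 f1 f2 f3 k1 k2 k3 c : ℤ)
    (hd1 : d1 = 1 ∨ d1 = -1) (hd2 : d2 = 1 ∨ d2 = -1) (hd3 : d3 = 1 ∨ d3 = -1)
    (hA : d1 * k1 + d2 * k2 + d3 * k3 = 0)
    (hB : d1 * k1 ^ 2 * (f2 * f3) + d2 * k2 ^ 2 * (f1 * f3) + d3 * k3 ^ 2 * (f1 * f2) = 0)
    (hC1 : (4 : ℤ) ∣ f1 - (d1 + 2 * c * k1)) (hC2 : (4 : ℤ) ∣ f2 - (d2 + 2 * c * k2))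
    (hC3 : (4 : ℤ) ∣ f3 - (d3 + 2 * c * k3)) :
    (∃ k', k1 = 2 * k') ∧ (∃ k', k2 = 2 * k') ∧ (∃ k', k3 = 2 * k') := by
  have e1 : (f1 : ZMod 4) = (d1 : ZMod 4) + 2 * (c : ZMod 4) * (k1 : ZMod 4) := by
    have := (ZMod.intCast_eq_intCast_iff_dvd_sub (d1 + 2 * c * k1) f1 4).mpr (by exact_mod_cast hC1)
    rw [← this]; push_cast; ring
  have e2 : (f2 : ZMod 4) = (d2 : ZMod 4) + 2 * (c : ZMod 4) * (k2 : ZMod 4) := by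
    have := (ZMod.intCast_eq_intCast_iff_dvd_sub (d2 + 2 * c * k2) f2 4).mpr (by exact_mod_cast hC2)
    rw [← this]; push_cast; ring
  have e3 : (f3 : ZMod 4) = (d3 : ZMod 4) + 2 * (c : ZMod 4) * (k3 : ZMod 4) := by
    have := (ZMod.intCast_eq_intCast_iff_dvd_sub (d3 + 2 * c * k3) f3 4).mpr (by exact_mod_cast hC3)
    rw [← this]; push_cast; ring
  have hA' : (d1 : ZMod 4) * k1 + d2 * k2 + d3 * k3 = 0 := by
    have := congrArg (Int.cast : ℤ → ZMod 4) hA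
    push_cast at this; exact this
  have hB' : (d1 : ZMod 4) * (k1 : ZMod 4) ^ 2 * (((d2 : ZMod 4) + 2 * c * k2) * ((d3 : ZMod 4) + 2 * c * k3)) +
      d2 * (k2 : ZMod 4) ^ 2 * (((d1 : ZMod 4) + 2 * c * k1) * ((d3 : ZMod 4) + 2 * c * k3)) +
      d3 * (k3 : ZMod 4) ^ 2 * (((d1 : ZMod 4) + 2 * c * k1) * ((d2 : ZMod 4) + 2 * c * k2)) = 0 := by
    have := congrArg (Int.cast : ℤ → ZMod 4) hB
    push_cast at this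
    rw [e1, e2, e3] at this
    exact this
  obtain ⟨h1, h2, h3⟩ := step_zmod4 _ _ _ _ _ _ _ (cast_sign hd1) (cast_sign hd2) (cast_sign hd3) hA' hB'
  exact ⟨even_of_two_mul_cast h1, even_of_two_mul_cast h2, even_of_two_mul_cast h3⟩

/-- The descent, by strong induction on `|k1| + |k2| + |k3|`. -/
theorem descent_aux (d1 d2 d3 f1 f2 f3 : ℤ)
    (hd1 : d1 = 1 ∨ d1 = -1) (hd2 : d2 = 1 ∨ d2 = -1) (hd3 : d3 = 1 ∨ d3 = -1) :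
    ∀ (n : ℕ) (k1 k2 k3 c : ℤ), k1.natAbs + k2.natAbs + k3.natAbs = n →
      d1 * k1 + d2 * k2 + d3 * k3 = 0 →
      d1 * k1 ^ 2 * (f2 * f3) + d2 * k2 ^ 2 * (f1 * f3) + d3 * k3 ^ 2 * (f1 * f2) = 0 →
      (4 : ℤ) ∣ f1 - (d1 + 2 * c * k1) → (4 : ℤ) ∣ f2 - (d2 + 2 * c * k2) →
      (4 : ℤ) ∣ f3 - (d3 + 2 * c * k3) →
      k1 = 0 ∧ k2 = 0 ∧ k3 = 0 := by
  intro n
  induction n using Nat.strong_induction_on with
  | _ n ih =>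
    intro k1 k2 k3 c hn hA hB hC1 hC2 hC3
    obtain ⟨⟨a1, ha1⟩, ⟨a2, ha2⟩, ⟨a3, ha3⟩⟩ :=
      step_int d1 d2 d3 f1 f2 f3 k1 k2 k3 c hd1 hd2 hd3 hA hB hC1 hC2 hC3
    by_cases hz : n = 0
    · subst hz
      have h1 : k1.natAbs = 0 := by omega
      have h2 : k2.natAbs = 0 := by omega
      have h3 : k3.natAbs = 0 := by omega
      exact ⟨Int.natAbs_eq_zero.mp h1, Int.natAbs_eq_zero.mp h2, Int.natAbs_eq_zero.mp h3⟩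
    · have hlt : a1.natAbs + a2.natAbs + a3.natAbs < n := by
        subst ha1 ha2 ha3
        simp only [Int.natAbs_mul] at hn
        have : (2 : ℤ).natAbs = 2 := rfl
        rw [this] at hn
        omega
      have hA' : d1 * a1 + d2 * a2 + d3 * a3 = 0 := by
        subst ha1 ha2 ha3
        have : 2 * (d1 * a1 + d2 * a2 + d3 * a3) = 0 := by linarith
        omega
      have hB' : d1 * a1 ^ 2 * (f2 * f3) + d2 * a2 ^ 2 * (f1 * f3) + d3 * a3 ^ 2 * (f1 * f2) = 0 := by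
        subst ha1 ha2 ha3
        have : 4 * (d1 * a1 ^ 2 * (f2 * f3) + d2 * a2 ^ 2 * (f1 * f3) + d3 * a3 ^ 2 * (f1 * f2)) = 0 := by
          linarith
        omega
      have hC1' : (4 : ℤ) ∣ f1 - (d1 + 2 * (2 * c) * a1) := by
        subst ha1; convert hC1 using 1; ring
      have hC2' : (4 : ℤ) ∣ f2 - (d2 + 2 * (2 * c) * a2) := by
        subst ha2; convert hC2 using 1; ring
      have hC3' : (4 : ℤ) ∣ f3 - (d3 + 2 * (2 * c) * a3) := by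
        subst ha3; convert hC3 using 1; ring
      obtain ⟨z1, z2, z3⟩ := ih _ hlt a1 a2 a3 (2 * c) rfl hA' hB' hC1' hC2' hC3'
      subst ha1 ha2 ha3
      simp [z1, z2, z3]

/-- **2-adic descent**: `d i = ±1`, (A) `∑ d_i k_i = 0`, (B) `∑ d_i k_i² ∏_{j ≠ i} f_j = 0`,
(C) `f_i ≡ d_i + 2 k_i (mod 4)` force `k_1 = k_2 = k_3 = 0`. -/
theorem descent (d1 d2 d3 f1 f2 f3 k1 k2 k3 : ℤ)
    (hd1 : d1 = 1 ∨ d1 = -1) (hd2 : d2 = 1 ∨ d2 = -1) (hd3 : d3 = 1 ∨ d3 = -1)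
    (hA : d1 * k1 + d2 * k2 + d3 * k3 = 0)
    (hB : d1 * k1 ^ 2 * (f2 * f3) + d2 * k2 ^ 2 * (f1 * f3) + d3 * k3 ^ 2 * (f1 * f2) = 0)
    (hC1 : (4 : ℤ) ∣ f1 - (d1 + 2 * k1)) (hC2 : (4 : ℤ) ∣ f2 - (d2 + 2 * k2))
    (hC3 : (4 : ℤ) ∣ f3 - (d3 + 2 * k3)) :
    k1 = 0 ∧ k2 = 0 ∧ k3 = 0 := by
  refine descent_aux d1 d2 d3 f1 f2 f3 hd1 hd2 hd3 _ k1 k2 k3 1 rfl hA hB ?_ ?_ ?_
  · convert hC1 using 1; ring
  · convert hC2 using 1; ring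
  · convert hC3 using 1; ring

/-- **Character-value form.**  `f i = X_i(1)`, `τ i = X_i(t)`, `d i = X_i(x) = ±1` with
R1 `1 + ∑ d_i f_i = 0`, R2 `1 + ∑ d_i τ_i = 0`, R3 `1 + ∑ d_i τ_i² / f_i = 0` (cleared of
denominators), (a) `4 ∣ f_i - τ_i` and (b) `8 ∣ f_i + τ_i + 6 d_i`.  Then `τ_i = f_i`. -/
theorem values_eq (d1 d2 d3 f1 f2 f3 t1 t2 t3 : ℤ)
    (hd1 : d1 = 1 ∨ d1 = -1) (hd2 : d2 = 1 ∨ d2 = -1) (hd3 : d3 = 1 ∨ d3 = -1)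
    (hR1 : 1 + d1 * f1 + d2 * f2 + d3 * f3 = 0)
    (hR2 : 1 + d1 * t1 + d2 * t2 + d3 * t3 = 0)
    (hR3 : f1 * f2 * f3 + d1 * t1 ^ 2 * (f2 * f3) + d2 * t2 ^ 2 * (f1 * f3)
      + d3 * t3 ^ 2 * (f1 * f2) = 0)
    (ha1 : (4 : ℤ) ∣ f1 - t1) (ha2 : (4 : ℤ) ∣ f2 - t2) (ha3 : (4 : ℤ) ∣ f3 - t3)
    (hb1 : (8 : ℤ) ∣ f1 + t1 + 6 * d1) (hb2 : (8 : ℤ) ∣ f2 + t2 + 6 * d2)
    (hb3 : (8 : ℤ) ∣ f3 + t3 + 6 * d3) :
    t1 = f1 ∧ t2 = f2 ∧ t3 = f3 := by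
  obtain ⟨k1, hk1⟩ := ha1
  obtain ⟨k2, hk2⟩ := ha2
  obtain ⟨k3, hk3⟩ := ha3
  have e1 : t1 = f1 - 4 * k1 := by linarith
  have e2 : t2 = f2 - 4 * k2 := by linarith
  have e3 : t3 = f3 - 4 * k3 := by linarith
  subst e1 e2 e3
  have hA : d1 * k1 + d2 * k2 + d3 * k3 = 0 := by
    have : 4 * (d1 * k1 + d2 * k2 + d3 * k3) = 0 := by linarith
    omega
  have hB : d1 * k1 ^ 2 * (f2 * f3) + d2 * k2 ^ 2 * (f1 * f3) + d3 * k3 ^ 2 * (f1 * f2) = 0 := by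
    have h16 : 16 * (d1 * k1 ^ 2 * (f2 * f3) + d2 * k2 ^ 2 * (f1 * f3) + d3 * k3 ^ 2 * (f1 * f2))
        = 0 := by
      have hx : f1 * f2 * f3 * (1 + d1 * f1 + d2 * f2 + d3 * f3) = 0 := by rw [hR1]; ring
      have hy : 8 * (f1 * f2 * f3) * (d1 * k1 + d2 * k2 + d3 * k3) = 0 := by rw [hA]; ring
      linear_combination hR3 - hx + hy
    omega
  have hC : ∀ (f k d : ℤ), (d = 1 ∨ d = -1) → (8 : ℤ) ∣ f + (f - 4 * k) + 6 * d →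
      (4 : ℤ) ∣ f - (d + 2 * k) := by
    intro f k d hd h
    obtain ⟨m, hm⟩ := h
    rcases hd with rfl | rfl
    · exact ⟨m - 1, by linarith⟩
    · exact ⟨m + 1, by linarith⟩
  obtain ⟨z1, z2, z3⟩ := descent d1 d2 d3 f1 f2 f3 k1 k2 k3 hd1 hd2 hd3 hA hB
    (hC f1 k1 d1 hd1 hb1) (hC f2 k2 d2 hd2 hb2) (hC f3 k3 d3 hd3 hb3)
  subst z1 z2 z3
  simp

end Cfsg.Agent.Helper95.QuatDescent
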