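import Mathlib

/-!
# A finite combinatorial lemma (helper95)

If `v : ι → ℤ` has `∑_{i ∈ s} (v i)^2 = 4` and `v o = 1` for some `o ∈ s`, then exactly three other
indices `a, b, c ∈ s` have `v = ±1` and `v` vanishes on the rest of `s`; consequently
`∑_{i ∈ s} v i * F i = F o + v a * F a + v b * F b + v c * F c` for every `F`.
-/

set_option autoImplicit false

namespace Cfsg.Agent.Helper95.QuatThree

variable {ι : Type*} [DecidableEq ι]

theorem exists_three (s : Finset ι) (v : ι → ℤ) (o : ι) (ho : o ∈ s) (hvo : v o = 1)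
    (hsum : ∑ i ∈ s, (v i) ^ 2 = 4) :
    ∃ a b c : ι, a ∈ s ∧ b ∈ s ∧ c ∈ s ∧ a ≠ o ∧ b ≠ o ∧ c ≠ o ∧ a ≠ b ∧ a ≠ c ∧ b ≠ c ∧
      (v a = 1 ∨ v a = -1) ∧ (v b = 1 ∨ v b = -1) ∧ (v c = 1 ∨ v c = -1) ∧
      ∀ i ∈ s, i ≠ o → i ≠ a → i ≠ b → i ≠ c → v i = 0 := by
  have h3 : ∑ i ∈ s.erase o, (v i) ^ 2 = 3 := by
    have := Finset.add_sum_erase s (fun i => (v i) ^ 2) ho
    simp only [hvo] at this
    linarith
  -- every term is 0 or 1
  have hterm : ∀ i ∈ s.erase o, (v i) ^ 2 = 0 ∨ (v i) ^ 2 = 1 := by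
    intro i hi
    have hle : (v i) ^ 2 ≤ 3 := by
      rw [← h3]
      exact Finset.single_le_sum (f := fun i => (v i) ^ 2) (fun j _ => sq_nonneg (v j)) hi
    have hlt : |v i| < 2 := by
      by_contra hge
      push Not at hge
      have : (2 : ℤ) ^ 2 ≤ |v i| ^ 2 := by gcongr
      rw [sq_abs] at this
      omega
    have : v i = 0 ∨ v i = 1 ∨ v i = -1 := by
      rw [abs_lt] at hlt
      omega
    rcases this with h | h | h <;> simp [h]
  -- the support has exactly three elements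
  have hcard : ((s.erase o).filter (fun i => v i ≠ 0)).card = 3 := by
    have h1 : ∑ i ∈ s.erase o, (v i) ^ 2 = ∑ i ∈ s.erase o, (if v i ≠ 0 then (1 : ℤ) else 0) := by
      apply Finset.sum_congr rfl
      intro i hi
      by_cases hv : v i = 0
      · simp [hv]
      · rcases hterm i hi with h | h
        · exact absurd (by simpa using h) hv
        · simp [hv, h]
    rw [h1, Finset.sum_ite, Finset.sum_const_zero, add_zero, Finset.sum_const] at h3
    have : (((s.erase o).filter (fun i => v i ≠ 0)).card : ℤ) = 3 := by simpa using h3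
    exact_mod_cast this
  obtain ⟨a, b, c, hab, hac, hbc, habc⟩ := Finset.card_eq_three.mp hcard
  have hmem : ∀ i, i ∈ ({a, b, c} : Finset ι) ↔ (i ∈ s ∧ i ≠ o) ∧ v i ≠ 0 := by
    intro i
    rw [← habc, Finset.mem_filter, Finset.mem_erase]
    tauto
  have ha := (hmem a).mp (by simp)
  have hb := (hmem b).mp (by simp)
  have hc := (hmem c).mp (by simp)
  have hpm : ∀ i, (i ∈ s ∧ i ≠ o) ∧ v i ≠ 0 → (v i = 1 ∨ v i = -1) := by
    intro i hi
    rcases hterm i (Finset.mem_erase.mpr ⟨hi.1.2, hi.1.1⟩) with h | h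
    · exact absurd (by simpa using h) hi.2
    · have : (v i - 1) * (v i + 1) = 0 := by ring_nf; linarith
      rcases mul_eq_zero.mp this with h1 | h1
      · left; linarith
      · right; linarith
  refine ⟨a, b, c, ha.1.1, hb.1.1, hc.1.1, ha.1.2, hb.1.2, hc.1.2, hab, hac, hbc,
    hpm a ha, hpm b hb, hpm c hc, ?_⟩
  intro i his hio hia hib hic
  by_contra hv
  have := (hmem i).mpr ⟨⟨his, hio⟩, hv⟩
  simp only [Finset.mem_insert, Finset.mem_singleton] at this
  tauto

/-- The corresponding evaluation of weighted sums. -/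
theorem sum_eq {R : Type*} [CommRing R] (s : Finset ι) (v : ι → ℤ) (o a b c : ι) (ho : o ∈ s)
    (ha : a ∈ s) (hb : b ∈ s) (hc : c ∈ s)
    (hao : a ≠ o) (hbo : b ≠ o) (hco : c ≠ o) (hab : a ≠ b) (hac : a ≠ c) (hbc : b ≠ c)
    (hvo : v o = 1)
    (hz : ∀ i ∈ s, i ≠ o → i ≠ a → i ≠ b → i ≠ c → v i = 0) (F : ι → R) :
    ∑ i ∈ s, (v i : R) * F i = F o + (v a : R) * F a + (v b : R) * F b + (v c : R) * F c := by
  have hsub : ({o, a, b, c} : Finset ι) ⊆ s := by
    intro i hi
    simp only [Finset.mem_insert, Finset.mem_singleton] at hi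
    rcases hi with rfl | rfl | rfl | rfl <;> assumption
  rw [← Finset.sum_subset hsub]
  · rw [Finset.sum_insert, Finset.sum_insert, Finset.sum_insert, Finset.sum_singleton, hvo]
    · push_cast; ring
    · simp [hbc]
    · simp [hab, hac]
    · simp [hao.symm, hbo.symm, hco.symm]
  · intro i his hi
    simp only [Finset.mem_insert, Finset.mem_singleton, not_or] at hi
    rw [hz i his hi.1 hi.2.1 hi.2.2.1 hi.2.2.2]
    simp

end Cfsg.Agent.Helper95.QuatThree
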