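import Mathlib
import Cfsg.Agent.S0947
import Cfsg.Agent.S0925
import Cfsg.Agent.Helper95.QuatFused
import Cfsg.Agent.Helper95.QuatCong
import Cfsg.Agent.Helper95.QuatDescent
import Cfsg.Agent.Helper53.NormalComplement
import Cfsg.Agent.Helper20.Quat8b
import Cfsg.Agent.Helper74.DefectZero
import Cfsg.Agent.Helper82.GaloisRat
import Cfsg.Agent.Helper75.TIFN
import Cfsg.Agent.Helper81.GlaubP2
import Cfsg.Agent.Helper79.PrincipalCrit
import Cfsg.Agent.Helper3.QuatKer
import Cfsg.Agent.Helper48.ZStarA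
import Cfsg.Agent.Helper95.QuatThree

/-!
# Brauer–Suzuki for `Q8`: the character-theoretic fused case (helper95)
-/

set_option autoImplicit false
set_option linter.unusedSectionVars false
set_option linter.style.haveILetI false

namespace Cfsg.Agent.Helper95.QuatChar

open Cfsg
open Cfsg.Agent.Helper95.QuatInduct

universe u

variable {G : Type u} [Group G] [Finite G]

/-- Sylow `2`-subgroups of `C_G(x)`, `x ∈ S ≅ Q8` of order `4`, have order `4`. -/
theorem card_sylow_centralizer (S : Sylow 2 G) (e : (S : Subgroup G) ≃* QuaternionGroup 2)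
    {t : G} (h : Q8Data (S : Subgroup G) t) {x : G}
    (hx : x ∈ (S : Subgroup G)) (hox : orderOf x = 4)
    (Q : Sylow 2 (Subgroup.centralizer ({x} : Set G))) : Nat.card Q = 4 := by
  classical
  have hxC : x ∈ Subgroup.centralizer ({x} : Set G) := by
    rw [Subgroup.mem_centralizer_iff]
    intro y hy
    rw [Set.mem_singleton_iff.mp hy]
  -- lower bound
  have hcomm : ∀ c : Subgroup.centralizer ({x} : Set G), c * ⟨x, hxC⟩ = ⟨x, hxC⟩ * c := by
    intro c
    apply Subtype.ext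
    have := (Subgroup.mem_centralizer_iff.mp c.2) x (Set.mem_singleton x)
    simpa using this.symm
  have hn : (Subgroup.zpowers (⟨x, hxC⟩ : Subgroup.centralizer ({x} : Set G))).Normal := by
    constructor
    intro n hn c
    obtain ⟨k, rfl⟩ := Subgroup.mem_zpowers_iff.mp hn
    have hc : Commute c (⟨x, hxC⟩ : Subgroup.centralizer ({x} : Set G)) := hcomm c
    have e1 : c * (⟨x, hxC⟩ : Subgroup.centralizer ({x} : Set G)) ^ k * c⁻¹ = ⟨x, hxC⟩ ^ k :=
      mul_inv_eq_iff_eq_mul.mpr (hc.zpow_right k).eq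
    rw [e1]
    exact Subgroup.zpow_mem _ (Subgroup.mem_zpowers _) k
  have hoC : orderOf (⟨x, hxC⟩ : Subgroup.centralizer ({x} : Set G)) = 4 := by
    rw [Subgroup.orderOf_mk, hox]
  have hp2 : IsPGroup 2 (Subgroup.zpowers (⟨x, hxC⟩ : Subgroup.centralizer ({x} : Set G))) := by
    apply IsPGroup.of_card (n := 2)
    rw [Nat.card_zpowers, hoC]; norm_num
  have hle := Cfsg.Agent.Helper3.Quat.le_sylow_of_normal_isPGroup Q _ hn hp2
  have hdvd : 4 ∣ Nat.card Q := by
    have := Subgroup.card_dvd_of_le hle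
    rwa [Nat.card_zpowers, hoC] at this
  -- upper bound
  have hQ' : IsPGroup 2 ((Q : Subgroup _).map (Subgroup.centralizer ({x} : Set G)).subtype) :=
    Q.isPGroup'.map _
  obtain ⟨g, hg⟩ := Cfsg.Agent.Helper3.Quat.exists_conj_mem S _ hQ'
  have hx' : g⁻¹ * x * g ∈ (S : Subgroup G) := by
    apply hg
    exact ⟨⟨x, hxC⟩, hle (Subgroup.mem_zpowers _), rfl⟩
  have hox' : orderOf (g⁻¹ * x * g) = 4 := by
    rw [Cfsg.Agent.Helper3.Quat.orderOf_conj_inv, hox]
  have hx'2 : (g⁻¹ * x * g) * (g⁻¹ * x * g) ≠ 1 := by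
    intro hc
    have : orderOf (g⁻¹ * x * g) ∣ 2 := orderOf_dvd_of_pow_eq_one (by rw [pow_two]; exact hc)
    rw [hox'] at this
    omega
  let T : Finset G := {1, t, g⁻¹ * x * g, (g⁻¹ * x * g)⁻¹}
  have hmem : ∀ q : Q, g⁻¹ * ((q : Subgroup.centralizer ({x} : Set G)) : G) * g ∈ T := by
    intro q
    have hqS : g⁻¹ * ((q : Subgroup.centralizer ({x} : Set G)) : G) * g ∈ (S : Subgroup G) :=
      hg _ ⟨q.1, q.2, rfl⟩
    have hqc : (g⁻¹ * x * g) * (g⁻¹ * ((q : Subgroup.centralizer ({x} : Set G)) : G) * g)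
        = (g⁻¹ * ((q : Subgroup.centralizer ({x} : Set G)) : G) * g) * (g⁻¹ * x * g) := by
      have h1 := (Subgroup.mem_centralizer_iff.mp q.1.2) x (Set.mem_singleton x)
      calc (g⁻¹ * x * g) * (g⁻¹ * ((q : Subgroup.centralizer ({x} : Set G)) : G) * g)
          = g⁻¹ * (x * ((q : Subgroup.centralizer ({x} : Set G)) : G)) * g := by group
        _ = g⁻¹ * (((q : Subgroup.centralizer ({x} : Set G)) : G) * x) * g := by rw [h1]
        _ = _ := by group
    by_cases hr2 : (g⁻¹ * ((q : Subgroup.centralizer ({x} : Set G)) : G) * g)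
        * (g⁻¹ * ((q : Subgroup.centralizer ({x} : Set G)) : G) * g) = 1
    · rcases h.unique _ hqS hr2 with h1 | h1
      · rw [h1]; simp [T]
      · rw [h1]; simp [T]
    · rcases Cfsg.Agent.Helper20.quat_centralizer_order4 (S : Subgroup G) e hx' hqS hx'2 hqc hr2
        with h1 | h1
      · rw [h1]; simp [T]
      · rw [h1]; simp [T]
  have hinj : Function.Injective (fun q : Q =>
      (⟨g⁻¹ * ((q : Subgroup.centralizer ({x} : Set G)) : G) * g, hmem q⟩ : {y : G // y ∈ T})) := by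
    intro q₁ q₂ hq
    have h1 := congrArg Subtype.val hq
    simp only at h1
    have h2 := mul_left_cancel (mul_right_cancel h1)
    exact Subtype.ext (Subtype.ext h2)
  have hle4 : Nat.card Q ≤ 4 := by
    have h1 := Nat.card_le_card_of_injective _ hinj
    have h2 : Nat.card {y : G // y ∈ T} ≤ 4 := by
      rw [Nat.card_eq_fintype_card, Fintype.card_coe]
      exact Finset.card_le_four
    exact le_trans h1 h2
  exact Nat.le_antisymm hle4 (Nat.le_of_dvd Nat.card_pos hdvd)

/-- The involution of a quaternion Sylow `2`-subgroup is isolated. -/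
theorem isIsolated_of_q8Data {S : Sylow 2 G} {t : G} (h : Q8Data (S : Subgroup G) t) :
    IsIsolated t := by
  intro g hc
  have hto : orderOf t = 2 := h.orderOf_t
  have hso : orderOf (g * t * g⁻¹) = 2 := by
    rw [Cfsg.Agent.Helper3.Quat.orderOf_conj', hto]
  have hp1 : IsPGroup 2 (Subgroup.zpowers t) :=
    Cfsg.Agent.Helper3.Quat.isPGroup_zpowers_of_orderOf_two hto
  have hp2 : IsPGroup 2 (Subgroup.zpowers (g * t * g⁻¹)) :=
    Cfsg.Agent.Helper3.Quat.isPGroup_zpowers_of_orderOf_two hso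
  have hle : Subgroup.zpowers t ≤ Subgroup.normalizer (Subgroup.zpowers (g * t * g⁻¹)) := by
    rw [Subgroup.zpowers_le]
    rw [Subgroup.mem_normalizer_iff]
    intro k
    have e1 : t * k * t⁻¹ ∈ Subgroup.zpowers (g * t * g⁻¹) ↔ k ∈ Subgroup.zpowers (g * t * g⁻¹) := by
      constructor
      · intro hk
        obtain ⟨n, hn⟩ := Subgroup.mem_zpowers_iff.mp hk
        have hcn : Commute t ((g * t * g⁻¹) ^ n) := hc.zpow_right n
        have : k = (g * t * g⁻¹) ^ n := by
          have h1 : k = t⁻¹ * (t * k * t⁻¹) * t := by group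
          rw [h1, ← hn]
          rw [mul_assoc, ← hcn.eq, ← mul_assoc, inv_mul_cancel, one_mul]
        rw [this]
        exact Subgroup.zpow_mem _ (Subgroup.mem_zpowers _) n
      · intro hk
        obtain ⟨n, hn⟩ := Subgroup.mem_zpowers_iff.mp hk
        have hcn : Commute t ((g * t * g⁻¹) ^ n) := hc.zpow_right n
        rw [← hn, hcn.eq, mul_inv_cancel_right]
        exact Subgroup.zpow_mem _ (Subgroup.mem_zpowers _) n
    exact e1.symm
  have hp := IsPGroup.to_sup_of_normal_right' hp1 hp2 hle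
  obtain ⟨y, hy⟩ := Cfsg.Agent.Helper3.Quat.exists_conj_mem S _ hp
  have h1 := hy t (Subgroup.mem_sup_left (Subgroup.mem_zpowers t))
  have h2 := hy (g * t * g⁻¹) (Subgroup.mem_sup_right (Subgroup.mem_zpowers _))
  have e1 := h.eq_of_involution h1 (by rw [Cfsg.Agent.Helper3.Quat.orderOf_conj_inv, hto])
  have e2 := h.eq_of_involution h2 (by rw [Cfsg.Agent.Helper3.Quat.orderOf_conj_inv, hso])
  have := e2.trans e1.symm
  exact mul_left_cancel (mul_right_cancel this)

/-- An element of order `4` in `S ≅ Q8`. -/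
theorem exists_orderOf_four (S : Subgroup G) (e : S ≃* QuaternionGroup 2) :
    ∃ x ∈ S, orderOf x = 4 := by
  refine ⟨(e.symm (QuaternionGroup.a 1) : S), (e.symm (QuaternionGroup.a 1)).2, ?_⟩
  rw [Subgroup.orderOf_coe, MulEquiv.orderOf_eq, QuaternionGroup.orderOf_a_one]

/-- The square of an element of order `4` of `S` is the involution. -/
theorem sq_eq_t {S : Subgroup G} {t : G} (h : Q8Data S t) {x : G} (hx : x ∈ S)
    (hox : orderOf x = 4) : x ^ 2 = t := by
  apply h.eq_of_involution (Subgroup.pow_mem _ hx 2)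
  rw [orderOf_pow, hox]
  rfl

/-- Elements of `S` other than `1`, `t` have order `4`. -/
theorem orderOf_eq_four {S : Subgroup G} {t : G} (h : Q8Data S t) {s : G} (hs : s ∈ S)
    (hs1 : s ≠ 1) (hst : s ≠ t) : orderOf s = 4 := by
  have h4 : s ^ 4 = 1 := h.pow_four s hs
  have hd : orderOf s ∣ 4 := orderOf_dvd_of_pow_eq_one h4
  have hn2 : ¬ orderOf s ∣ 2 := by
    intro h2
    have : s * s = 1 := by rw [← pow_two]; exact orderOf_dvd_iff_pow_eq_one.mp h2
    rcases h.unique s hs this with h1 | h1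
    · exact hs1 h1
    · exact hst h1
  have hle : orderOf s ≤ 4 := Nat.le_of_dvd (by norm_num) hd
  interval_cases hos : orderOf s
  · simp at hd
  · exact absurd (one_dvd 2) hn2
  · exact absurd (dvd_refl 2) hn2
  · norm_num at hd
  · rfl

/-- The norm sum of the principal `2`-block at an element of order `4`. -/
theorem norm_sum_at_x (S : Sylow 2 G) (e : (S : Subgroup G) ≃* QuaternionGroup 2)
    {t : G} (h : Q8Data (S : Subgroup G) t) {x : G}
    (hx : x ∈ (S : Subgroup G)) (hox : orderOf x = 4)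
    (M : Ideal AlgInt) (hM : IsPModular 2 M) :
    ∑ᶠ ζ ∈ principalBlock M G, ‖(ζ : G → ℂ) x‖ ^ 2 = 4 := by
  classical
  have : Fact (Nat.Prime 2) := ⟨Nat.prime_two⟩
  have hx1 : x ≠ 1 := by
    intro h1
    rw [h1, orderOf_one] at hox
    omega
  have hxC : x ∈ Subgroup.centralizer ({x} : Set G) := by
    rw [Subgroup.mem_centralizer_iff]
    intro y hy
    rw [Set.mem_singleton_iff.mp hy]
  obtain ⟨Q⟩ : Nonempty (Sylow 2 (Subgroup.centralizer ({x} : Set G))) := inferInstance
  have hQ4 : Nat.card Q = 4 := card_sylow_centralizer S e h hx hox Q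
  -- `Q` is cyclic
  have hp2 : IsPGroup 2 (Subgroup.zpowers (⟨x, hxC⟩ : Subgroup.centralizer ({x} : Set G))) := by
    apply IsPGroup.of_card (n := 2)
    rw [Nat.card_zpowers, Subgroup.orderOf_mk, hox]; norm_num
  obtain ⟨Q', hQ'⟩ := hp2.exists_le_sylow
  have hQ'4 : Nat.card Q' = 4 := card_sylow_centralizer S e h hx hox Q'
  have hcyc : IsCyclic Q' := by
    have hmem : (⟨x, hxC⟩ : Subgroup.centralizer ({x} : Set G)) ∈ (Q' : Subgroup _) :=
      hQ' (Subgroup.mem_zpowers _)
    refine isCyclic_of_orderOf_eq_card (⟨⟨x, hxC⟩, hmem⟩ : Q') (Eq.trans ?_ hQ'4.symm)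
    rw [Subgroup.orderOf_mk, Subgroup.orderOf_mk, hox]
  obtain ⟨P, N, hN, hcomp⟩ := Cfsg.Agent.Helper53.hasNormalPComplement_two_of_isCyclic Q' hcyc
  have hP4 : Nat.card P = 4 := card_sylow_centralizer S e h hx hox P
  have hNodd : (Nat.card N).Coprime 2 := by
    rw [← hcomp.index_eq_card]
    rw [Nat.coprime_comm, Nat.Prime.coprime_iff_not_dvd Nat.prime_two]
    exact P.not_dvd_index
  have hle : N ≤ pPrimeCore 2 (Subgroup.centralizer ({x} : Set G)) :=
    Cfsg.Agent.Lib.le_pPrimeCore hN hNodd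
  have hdvd : (pPrimeCore 2 (Subgroup.centralizer ({x} : Set G))).index ∣ 2 ^ 2 := by
    have h1 := Subgroup.index_dvd_of_le hle
    rw [hcomp.symm.index_eq_card, hP4] at h1
    exact h1
  obtain ⟨k, -, hk⟩ := (Nat.dvd_prime_pow Nat.prime_two).mp hdvd
  have key := (Cfsg.Agent.S0947.result 2 M hM x ⟨2, by rw [hox]; norm_num⟩ hx1
    (1 : Subgroup.centralizer ({x} : Set G)) (by simp)).2 ⟨k, hk⟩
  rw [← Q.card_eq_multiplicity, hQ4] at key
  simpa using key

/-- class functions and the `g⁻¹ * x * g` convention. -/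
theorem irr_conj_inv (ζ : IrrCharacter G) (x g : G) :
    (ζ : G → ℂ) (g⁻¹ * x * g) = (ζ : G → ℂ) x := by
  have := Cfsg.Agent.Helper74.irr_isClassFunction ζ x g⁻¹
  rwa [inv_inv] at this

/-- Values of irreducible characters at a real element of order `4` are integers. -/
theorem exists_int_of_order_four (ζ : IrrCharacter G) {x : G} (hox : orderOf x = 4)
    (hinv : ∃ r : G, r⁻¹ * x * r = x⁻¹) : ∃ m : ℤ, (ζ : G → ℂ) x = m := by
  classical
  letI : Fintype G := Fintype.ofFinite G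
  obtain ⟨r, hr⟩ := hinv
  have h4 : x ^ 4 = 1 := by rw [← hox]; exact pow_orderOf_eq_one x
  have hx3 : x ^ 3 = x⁻¹ := by
    have : x ^ 3 * x = 1 := by rw [← pow_succ]; exact h4
    exact eq_inv_of_mul_eq_one_left this
  obtain ⟨q, hq⟩ := Cfsg.Agent.Helper82.char_rational_of_pow_eq
    (Cfsg.Agent.Helper74.isCharacter_of_isIrr ζ.2) x 4 (by norm_num) h4 (by
      intro k hk hcop
      interval_cases k
      · simp at hcop
      · rw [pow_one]
      · norm_num at hcop
      · rw [hx3, ← hr, irr_conj_inv])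
  exact Cfsg.Agent.Helper75.tf_int_of_rat_integral q hq (Cfsg.Agent.Helper81.irr_isIntegral ζ x)

/-- Values of irreducible characters at an involution are integers. -/
theorem exists_int_of_sq (ζ : IrrCharacter G) {t : G} (ht : t * t = 1) :
    ∃ m : ℤ, (ζ : G → ℂ) t = m := by
  classical
  letI : Fintype G := Fintype.ofFinite G
  obtain ⟨q, hq⟩ := Cfsg.Agent.Helper82.char_rational_of_pow_eq
    (Cfsg.Agent.Helper74.isCharacter_of_isIrr ζ.2) t 2 (by norm_num) (by rw [pow_two, ht]) (by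
      intro k hk hcop
      interval_cases k
      · simp at hcop
      · rw [pow_one])
  exact Cfsg.Agent.Helper75.tf_int_of_rat_integral q hq (Cfsg.Agent.Helper81.irr_isIntegral ζ t)

/-- Degrees are positive integers. -/
theorem exists_int_degree (ζ : IrrCharacter G) : ∃ m : ℤ, 0 < m ∧ (ζ : G → ℂ) 1 = m := by
  obtain ⟨d, hd, h⟩ := Cfsg.Agent.Helper15.irr_degree_pos ζ.2
  exact ⟨d, by exact_mod_cast hd, by rw [h]; simp⟩

/-- Block orthogonality for the principal `2`-block. -/
theorem principal_block_orth (M : Ideal AlgInt) (hM : IsPModular 2 M) (g h x y : G)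
    (hg : IsPPart 2 g x) (hh : IsPPart 2 h y) (hne : ¬ IsConj x y) :
    ∑ᶠ χ ∈ principalBlock M G, (χ : G → ℂ) g * (χ : G → ℂ) h⁻¹ = 0 := by
  have : Fact (Nat.Prime 2) := ⟨Nat.prime_two⟩
  exact (Cfsg.Agent.S0925.result 2 M hM).2 g h x y hg hh hne _
    ⟨Cfsg.Agent.Helper79.principalIrr G, rfl⟩

theorem isPPart_self {x : G} {k : ℕ} (hx : orderOf x = 2 ^ k) : IsPPart 2 x x :=
  ⟨1, mul_one x, Commute.one_right x, ⟨k, hx⟩, by simp⟩

theorem isPPart_one_of_odd {y : G} (hy : Odd (orderOf y)) : IsPPart 2 y 1 :=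
  ⟨y, one_mul y, Commute.one_left y, ⟨0, by simp⟩, by
    intro h2
    exact (Nat.not_even_iff_odd.mpr hy) (even_iff_two_dvd.mpr h2)⟩

set_option maxHeartbeats 1600000 in
/-- **The fused case of Brauer–Suzuki for `Q8`.** -/
theorem fusedCase : FusedCase.{u} := by
  intro G _ _ S e hO hfused
  classical
  letI : Fintype G := Fintype.ofFinite G
  haveI : Fact (Nat.Prime 2) := ⟨Nat.prime_two⟩
  obtain ⟨t, h⟩ := exists_q8Data (S : Subgroup G) e
  obtain ⟨x, hxS, hox⟩ := exists_orderOf_four (S : Subgroup G) e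
  have hxt : x ^ 2 = t := sq_eq_t h hxS hox
  obtain ⟨M, hM⟩ := Cfsg.Agent.Helper74.exists_isPModular 2 Nat.prime_two
  have hto : orderOf t = 2 := h.orderOf_t
  have hx1 : x ≠ 1 := by
    intro h1
    rw [h1, orderOf_one] at hox
    omega
  have hinvx : ∃ r : G, r⁻¹ * x * r = x⁻¹ := by
    obtain ⟨r, -, hr⟩ := exists_inv_conj (S : Subgroup G) e hxS
    exact ⟨r, hr⟩
  have htinv : t⁻¹ = t := inv_eq_of_mul_eq_one_left h.sq
  -- integer-valued functions
  choose v hv using fun ζ : IrrCharacter G => exists_int_of_order_four ζ hox hinvx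
  choose τ hτ using fun ζ : IrrCharacter G => exists_int_of_sq ζ h.sq
  choose f hfpos hf using fun ζ : IrrCharacter G => exists_int_degree ζ
  haveI : Finite (IrrCharacter G) := Cfsg.Agent.Helper79.irr_finite
  have hBfin : (principalBlock M G).Finite := Set.toFinite _
  obtain ⟨s, hs⟩ : ∃ s : Finset (IrrCharacter G), s = hBfin.toFinset := ⟨_, rfl⟩
  obtain ⟨o, hodef⟩ : ∃ o : IrrCharacter G, o = Cfsg.Agent.Helper79.principalIrr G := ⟨_, rfl⟩
  have hoval : ∀ g : G, (o : G → ℂ) g = 1 := by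
    intro g
    rw [hodef]
    rfl
  have ho : o ∈ s := by
    rw [hs, hodef]
    exact hBfin.mem_toFinset.mpr (Cfsg.Agent.Helper79.principalIrr_mem hM)
  have hvo : v o = 1 := by
    have h1 := hv o
    rw [hoval] at h1
    exact_mod_cast h1.symm
  have hτo : τ o = 1 := by
    have h1 := hτ o
    rw [hoval] at h1
    exact_mod_cast h1.symm
  have hfo : f o = 1 := by
    have h1 := hf o
    rw [hoval] at h1
    exact_mod_cast h1.symm
  have hsum : ∑ i ∈ s, (v i) ^ 2 = 4 := by
    have h1 := norm_sum_at_x S e h hxS hox M hM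
    rw [finsum_mem_eq_finite_toFinset_sum _ hBfin, ← hs] at h1
    have h2 : ∀ i ∈ s, ‖(i : G → ℂ) x‖ ^ 2 = (((v i) ^ 2 : ℤ) : ℝ) := by
      intro i _
      rw [hv i, Complex.norm_intCast, sq_abs]
      push_cast
      ring
    rw [Finset.sum_congr rfl h2] at h1
    exact_mod_cast h1
  obtain ⟨a, b, c, ha, hb, hc, hao, hbo, hco, hab, hac, hbc, hda, hdb, hdc, hz⟩ :=
    Cfsg.Agent.Helper95.QuatThree.exists_three s v o ho hvo hsum
  -- the general relation
  have hrel : ∀ F : IrrCharacter G → ℂ,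
      ∑ᶠ χ ∈ principalBlock M G, (χ : G → ℂ) x * F χ = 0 →
      F o + (v a : ℂ) * F a + (v b : ℂ) * F b + (v c : ℂ) * F c = 0 := by
    intro F hF
    rw [finsum_mem_eq_finite_toFinset_sum _ hBfin, ← hs] at hF
    rw [← Cfsg.Agent.Helper95.QuatThree.sum_eq s v o a b c ho ha hb hc hao hbo hco hab hac hbc
      hvo hz F, ← hF]
    apply Finset.sum_congr rfl
    intro i _
    rw [hv i]
  have hPx : IsPPart 2 x x := isPPart_self (k := 2) (by rw [hox]; norm_num)
  have hPt : IsPPart 2 t t := isPPart_self (k := 1) (by rw [hto]; norm_num)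
  have hP1 : IsPPart 2 (1 : G) 1 := isPPart_self (k := 0) (by simp)
  -- R1
  have hR1 : 1 + v a * f a + v b * f b + v c * f c = 0 := by
    have h1 := hrel (fun χ => (χ : G → ℂ) (1 : G)⁻¹)
      (principal_block_orth M hM x 1 x 1 hPx hP1 (by
        intro hc
        exact hx1 (isConj_one_left.mp hc)))
    simp only [inv_one] at h1
    rw [hf a, hf b, hf c, hoval] at h1
    exact_mod_cast h1
  -- R2
  have hR2 : 1 + v a * τ a + v b * τ b + v c * τ c = 0 := by
    have h1 := hrel (fun χ => (χ : G → ℂ) t⁻¹)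
      (principal_block_orth M hM x t x t hPx hPt (by
        intro hc
        obtain ⟨g, hg⟩ := isConj_iff.mp hc
        have : orderOf (g * x * g⁻¹) = orderOf x := Cfsg.Agent.Helper3.Quat.orderOf_conj' g x
        rw [hg, hto, hox] at this
        omega))
    simp only [htinv] at h1
    rw [hτ a, hτ b, hτ c, hoval] at h1
    exact_mod_cast h1
  -- R3
  have hiso : IsIsolated t := isIsolated_of_q8Data h
  have hR3g : ∀ g : G, (o : G → ℂ) (t * (g * t * g⁻¹)) + (v a : ℂ) * (a : G → ℂ) (t * (g * t * g⁻¹))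
      + (v b : ℂ) * (b : G → ℂ) (t * (g * t * g⁻¹))
      + (v c : ℂ) * (c : G → ℂ) (t * (g * t * g⁻¹)) = 0 := by
    intro g
    have hodd : Odd (orderOf (t * (g * t * g⁻¹))⁻¹) := by
      rw [orderOf_inv]
      exact Cfsg.Agent.Helper48.ZStar.odd_orderOf_mul_conj h.sq hiso g
    have h1 := hrel (fun χ => (χ : G → ℂ) ((t * (g * t * g⁻¹))⁻¹)⁻¹)
      (principal_block_orth M hM x _ x 1 hPx (isPPart_one_of_odd hodd) (by
        intro hc
        exact hx1 (isConj_one_left.mp hc)))
    simp only [inv_inv] at h1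
    exact h1
  have hN : (Nat.card G : ℂ) ≠ 0 := by
    have : Nat.card G ≠ 0 := Nat.card_pos.ne'
    exact_mod_cast this
  have hR3 : f a * f b * f c + v a * τ a ^ 2 * (f b * f c) + v b * τ b ^ 2 * (f a * f c)
      + v c * τ c ^ 2 * (f a * f b) = 0 := by
    have hsumg := Finset.sum_congr (s₁ := (Finset.univ : Finset G)) rfl (fun g _ => hR3g g)
    rw [Finset.sum_add_distrib, Finset.sum_add_distrib, Finset.sum_add_distrib,
      ← Finset.mul_sum, ← Finset.mul_sum, ← Finset.mul_sum,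
      Cfsg.Agent.Helper3.Quat.sum_irr_mul_conj o.2, Cfsg.Agent.Helper3.Quat.sum_irr_mul_conj a.2,
      Cfsg.Agent.Helper3.Quat.sum_irr_mul_conj b.2, Cfsg.Agent.Helper3.Quat.sum_irr_mul_conj c.2,
      hoval, hoval, hτ a, hτ b, hτ c, hf a, hf b, hf c, Finset.sum_const_zero] at hsumg
    have hfa : (f a : ℂ) ≠ 0 := by exact_mod_cast (hfpos a).ne'
    have hfb : (f b : ℂ) ≠ 0 := by exact_mod_cast (hfpos b).ne'
    have hfc : (f c : ℂ) ≠ 0 := by exact_mod_cast (hfpos c).ne'
    have key : ((f a : ℂ) * f b * f c + v a * (τ a : ℂ) ^ 2 * (f b * f c)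
        + v b * (τ b : ℂ) ^ 2 * (f a * f c) + v c * (τ c : ℂ) ^ 2 * (f a * f b)) * (Nat.card G : ℂ)
        = (f a : ℂ) * f b * f c * ((Nat.card G : ℂ) * 1 / 1 * 1
          + (v a : ℂ) * ((Nat.card G : ℂ) * τ a / f a * τ a)
          + (v b : ℂ) * ((Nat.card G : ℂ) * τ b / f b * τ b)
          + (v c : ℂ) * ((Nat.card G : ℂ) * τ c / f c * τ c)) := by
      field_simp
    rw [hsumg, mul_zero] at key
    have := (mul_eq_zero.mp key).resolve_right hN
    exact_mod_cast this
  -- congruences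
  have hca : ∀ i : IrrCharacter G, (v i = 1 ∨ v i = -1) → (4 : ℤ) ∣ f i - τ i := by
    intro i hd
    refine Cfsg.Agent.Helper95.QuatCong.cong_a (Cfsg.Agent.Helper74.isCharacter_of_isIrr i.2) hox
      (f i) (τ i) (v i) (hf i) (by rw [hxt]; exact hτ i) (hv i) ?_ hd
    obtain ⟨r, hr⟩ := hinvx
    rw [← hr, irr_conj_inv]
    exact hv i
  have hcb : ∀ i : IrrCharacter G, (8 : ℤ) ∣ f i + τ i + 6 * v i := by
    intro i
    refine Cfsg.Agent.Helper95.QuatCong.cong_b (Cfsg.Agent.Helper74.isCharacter_of_isIrr i.2)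
      (S : Subgroup G) h.card h.mem h.ne_one (f i) (τ i) (v i) (hf i) (hτ i) ?_
    intro y hy hy1 hyt
    obtain ⟨g, hg⟩ := hfused x hxS y hy hox (orderOf_eq_four h hy hy1 hyt)
    rw [← hg, irr_conj_inv]
    exact hv i
  obtain ⟨hta, -, -⟩ := Cfsg.Agent.Helper95.QuatDescent.values_eq (v a) (v b) (v c) (f a) (f b) (f c)
    (τ a) (τ b) (τ c) hda hdb hdc hR1 hR2 hR3 (hca a hda) (hca b hdb) (hca c hdc)
    (hcb a) (hcb b) (hcb c)
  -- the kernel of `a`
  obtain ⟨N, hNn, hNmem⟩ := Cfsg.Agent.Helper75.fk_exists_normal_kernel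
    (Cfsg.Agent.Helper74.isCharacter_of_isIrr a.2)
  refine ⟨N, hNn, ?_, t, ?_, hto⟩
  · intro htop
    have hall : ∀ g : G, (a : G → ℂ) g = (a : G → ℂ) 1 := fun g =>
      (hNmem g).mp (by rw [htop]; exact Subgroup.mem_top g)
    have h1 := hall x
    rw [hv a, hf a] at h1
    have h2 : v a = f a := by exact_mod_cast h1
    have hfa1 : f a = 1 := by
      have := hfpos a
      rcases hda with h3 | h3
      · rw [← h2, h3]
      · rw [← h2, h3] at this
        omega
    apply hao
    apply Subtype.ext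
    funext g
    rw [hall g, hf a, hfa1, hoval]
    simp
  · rw [hNmem t, hτ a, hf a, hta]

end Cfsg.Agent.Helper95.QuatChar
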