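import Mathlib

set_option autoImplicit false

namespace Cfsg.Agent.Helper95

section
variable (F K : Type*) [Field F] [Field K] [Algebra F K]

/-- The Singer group: multiplications by non-zero elements of `K`, inside `GL_F(K)`. -/
abbrev singer : Subgroup (Module.End F K)ˣ :=
  (Units.map ((Algebra.lmul F K : K →ₐ[F] Module.End F K) : K →* Module.End F K)).range

variable {F K}

lemma mem_singer_iff (u : (Module.End F K)ˣ) :
    u ∈ singer F K ↔ ∃ a : K, a ≠ 0 ∧ ∀ x : K, (u : Module.End F K) x = a * x := by
  constructor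
  · rintro ⟨a, rfl⟩
    exact ⟨(a : K), a.ne_zero, fun x => by simp⟩
  · rintro ⟨a, ha, h⟩
    refine ⟨Units.mk0 a ha, ?_⟩
    ext x
    simp [h x]

lemma unit_inv_apply (g : (Module.End F K)ˣ) (x : K) :
    ((g⁻¹ : (Module.End F K)ˣ) : Module.End F K) ((g : Module.End F K) x) = x := by
  have : ((g⁻¹ : (Module.End F K)ˣ) : Module.End F K) * (g : Module.End F K) = 1 := by
    rw [← Units.val_mul, inv_mul_cancel, Units.val_one]
  calc _ = (((g⁻¹ : (Module.End F K)ˣ) : Module.End F K) * (g : Module.End F K)) x := rfl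
    _ = x := by rw [this]; rfl

lemma unit_apply_inv (g : (Module.End F K)ˣ) (x : K) :
    (g : Module.End F K) (((g⁻¹ : (Module.End F K)ˣ) : Module.End F K) x) = x := by
  have : (g : Module.End F K) * ((g⁻¹ : (Module.End F K)ˣ) : Module.End F K) = 1 := by
    rw [← Units.val_mul, mul_inv_cancel, Units.val_one]
  calc _ = ((g : Module.End F K) * ((g⁻¹ : (Module.End F K)ˣ) : Module.End F K)) x := rfl
    _ = x := by rw [this]; rfl

/-- membership in the conjugate of the Singer group -/
lemma mem_map_conj_singer_iff (g u : (Module.End F K)ˣ) :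
    u ∈ (singer F K).map (MulAut.conj g).toMonoidHom ↔
      ∃ c : K, c ≠ 0 ∧ ∀ x : K, ((g⁻¹ : (Module.End F K)ˣ) : Module.End F K)
        ((u : Module.End F K) ((g : Module.End F K) x)) = c * x := by
  constructor
  · rintro ⟨v, hv, rfl⟩
    obtain ⟨c, hc, h⟩ := (mem_singer_iff v).mp hv
    refine ⟨c, hc, fun x => ?_⟩
    show ((g⁻¹ : (Module.End F K)ˣ) : Module.End F K)
      (((g * v * g⁻¹ : (Module.End F K)ˣ) : Module.End F K) ((g : Module.End F K) x)) = c * x
    rw [Units.val_mul, Units.val_mul, Module.End.mul_apply, Module.End.mul_apply, unit_inv_apply,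
      unit_inv_apply, h]
  · rintro ⟨c, hc, h⟩
    refine ⟨g⁻¹ * u * g, (mem_singer_iff _).mpr ⟨c, hc, fun x => ?_⟩, ?_⟩
    · rw [Units.val_mul, Units.val_mul, Module.End.mul_apply, Module.End.mul_apply, h]
    · show g * (g⁻¹ * u * g) * g⁻¹ = u
      group

end

section
variable {F K : Type*} [Field F] [Field K] [Algebra F K]

/-- The subalgebra of those `b` for which `g⁻¹ ∘ (b * ·) ∘ g` is again a multiplication. -/
def fixAlg (g : (Module.End F K)ˣ) : Subalgebra F K where
  carrier := {b | ∃ c : K, ∀ x : K, ((g⁻¹ : (Module.End F K)ˣ) : Module.End F K)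
        (b * (g : Module.End F K) x) = c * x}
  mul_mem' := by
    rintro b b' ⟨c, hc⟩ ⟨c', hc'⟩
    refine ⟨c * c', fun x => ?_⟩
    have h1 : b' * (g : Module.End F K) x = (g : Module.End F K) (c' * x) := by
      rw [← hc' x, unit_apply_inv]
    rw [mul_assoc, h1, hc, mul_assoc]
  one_mem' := ⟨1, fun x => by rw [one_mul, one_mul, unit_inv_apply]⟩
  add_mem' := by
    rintro b b' ⟨c, hc⟩ ⟨c', hc'⟩
    refine ⟨c + c', fun x => ?_⟩
    rw [add_mul, map_add, hc, hc', add_mul]
  zero_mem' := ⟨0, fun x => by rw [zero_mul, zero_mul, map_zero]⟩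
  algebraMap_mem' := fun r => ⟨algebraMap F K r, fun x => by
    rw [← Algebra.smul_def, ← Algebra.smul_def, map_smul, unit_inv_apply]⟩

lemma mem_fixAlg_iff (g : (Module.End F K)ˣ) (b : K) :
    b ∈ fixAlg g ↔ ∃ c : K, ∀ x : K, ((g⁻¹ : (Module.End F K)ˣ) : Module.End F K)
        (b * (g : Module.End F K) x) = c * x := Iff.rfl

/-- if `fixAlg g` is everything then `g⁻¹` conjugates the Singer group into itself -/
lemma singer_le_map_conj_of_fixAlg_eq_top (g : (Module.End F K)ˣ) (h : fixAlg g = ⊤) :
    singer F K ≤ (singer F K).map (MulAut.conj g).toMonoidHom := by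
  intro u hu
  obtain ⟨b, hb, hub⟩ := (mem_singer_iff u).mp hu
  rw [mem_map_conj_singer_iff]
  have hbE : b ∈ fixAlg g := by rw [h]; trivial
  obtain ⟨c, hc⟩ := hbE
  refine ⟨c, ?_, fun x => by rw [hub, hc]⟩
  rintro rfl
  have h1 := hc 1
  rw [zero_mul] at h1
  have h2 : b * (g : Module.End F K) 1 = 0 := by
    have := congrArg (g : Module.End F K) h1
    rwa [unit_apply_inv, map_zero] at this
  rcases mul_eq_zero.mp h2 with h3 | h3
  · exact hb h3
  · have := congrArg ((g⁻¹ : (Module.End F K)ˣ) : Module.End F K) h3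
    rw [unit_inv_apply, map_zero] at this
    exact one_ne_zero this

end

section finite
variable {F K : Type*} [Field F] [Field K] [Algebra F K] [Finite K]

lemma map_conj_singer_eq_of_fixAlg_eq_top (g : (Module.End F K)ˣ) (h : fixAlg g = ⊤) :
    (singer F K).map (MulAut.conj g).toMonoidHom = singer F K := by
  have hle := singer_le_map_conj_of_fixAlg_eq_top g h
  symm
  have hfin : Finite (Module.End F K)ˣ := by
    have : Finite (Module.End F K) := Finite.of_injective (fun f : Module.End F K => (f : K → K))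
      (fun f f' hff' => LinearMap.ext (congrFun hff'))
    exact Finite.of_injective (fun u : (Module.End F K)ˣ => (u : Module.End F K)) (fun _ _ h => Units.ext h)
  apply Subgroup.eq_of_le_of_card_ge hle
  rw [Subgroup.card_map_of_injective (MulAut.conj g).injective]

/-- the intermediate field attached to `g` -/
noncomputable def fixField (g : (Module.End F K)ˣ) : IntermediateField F K :=
  Subalgebra.toIntermediateField' (fixAlg g) (Finite.isField_of_domain _)

lemma mem_fixField_iff (g : (Module.End F K)ˣ) (b : K) : b ∈ fixField g ↔ b ∈ fixAlg g := Iff.rfl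

lemma apply_one_mem (g : (Module.End F K)ˣ)
    (u : ↥((singer F K).map (MulAut.conj g).toMonoidHom ⊓ singer F K)) :
    ((u : (Module.End F K)ˣ) : Module.End F K) 1 ∈ fixField g ∧
    ((u : (Module.End F K)ˣ) : Module.End F K) 1 ≠ 0 ∧
    ∀ x : K, ((u : (Module.End F K)ˣ) : Module.End F K) x =
      ((u : (Module.End F K)ˣ) : Module.End F K) 1 * x := by
  obtain ⟨u, hu1, hu2⟩ := u
  obtain ⟨a, ha, hua⟩ := (mem_singer_iff u).mp hu2
  obtain ⟨c, hc, huc⟩ := (mem_map_conj_singer_iff g u).mp hu1
  have h1 : (u : Module.End F K) 1 = a := by rw [hua, mul_one]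
  simp only
  rw [h1]
  refine ⟨?_, ha, hua⟩
  rw [mem_fixField_iff, mem_fixAlg_iff]
  exact ⟨c, fun x => by rw [← hua, huc]⟩

/-- the embedding of the intersection into the units of the intermediate field -/
noncomputable def interHom (g : (Module.End F K)ˣ) :
    ↥((singer F K).map (MulAut.conj g).toMonoidHom ⊓ singer F K) →* (fixField g)ˣ :=
  MonoidHom.mk' (fun u => Units.mk0 ⟨((u : (Module.End F K)ˣ) : Module.End F K) 1, (apply_one_mem g u).1⟩
      (fun h => (apply_one_mem g u).2.1 (congrArg Subtype.val h)))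
    (by
      intro u v
      apply Units.ext
      apply Subtype.ext
      show ((((u * v : ↥((singer F K).map (MulAut.conj g).toMonoidHom ⊓ singer F K)) :
        (Module.End F K)ˣ)) : Module.End F K) 1 = _ * _
      rw [Subgroup.coe_mul, Units.val_mul, Module.End.mul_apply, (apply_one_mem g u).2.2]
      rfl)

lemma interHom_injective (g : (Module.End F K)ˣ) : Function.Injective (interHom g) := by
  intro u v h
  have h1 : ((u : (Module.End F K)ˣ) : Module.End F K) 1 = ((v : (Module.End F K)ˣ) : Module.End F K) 1 := by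
    have := congrArg (fun w : (fixField g)ˣ => ((w : fixField g) : K)) h
    exact this
  apply Subtype.ext
  apply Units.ext
  ext x
  rw [(apply_one_mem g u).2.2, (apply_one_mem g v).2.2, h1]

theorem singer_inter_card_dvd [Finite F] (n : ℕ) (hdim : Module.finrank F K = n)
    (g : (Module.End F K)ˣ)
    (hg : (singer F K).map (MulAut.conj g).toMonoidHom ≠ singer F K) :
    ∃ r : ℕ, 1 ≤ r ∧ r ∣ n ∧ r < n ∧
      Nat.card ↥((singer F K).map (MulAut.conj g).toMonoidHom ⊓ singer F K) ∣ Nat.card F ^ r - 1 := by
  have hfd : FiniteDimensional F K := Module.Finite.of_finite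
  refine ⟨Module.finrank F (fixField g), ?_, ?_, ?_, ?_⟩
  · exact Module.finrank_pos
  · exact ⟨Module.finrank (fixField g) K, by rw [← hdim, Module.finrank_mul_finrank]⟩
  · rw [← hdim]
    apply lt_of_le_of_ne
    · exact Submodule.finrank_le (fixField g).toSubalgebra.toSubmodule
    · intro heq
      apply hg
      apply map_conj_singer_eq_of_fixAlg_eq_top
      have h1 : (fixField g).toSubalgebra.toSubmodule = ⊤ := Submodule.eq_top_of_finrank_eq heq
      rw [eq_top_iff]
      intro b _
      have : b ∈ (fixField g).toSubalgebra.toSubmodule := by rw [h1]; trivial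
      exact this
  · have h1 := Subgroup.card_dvd_of_injective (interHom g) (interHom_injective g)
    rwa [Nat.card_units, Module.natCard_eq_pow_finrank (K := F) (V := fixField g)] at h1

end finite

end Cfsg.Agent.Helper95
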