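import Mathlib
import Cfsg.Agent.Helper95.Singer

set_option autoImplicit false

namespace Cfsg.Agent.Helper95

section
variable {F K : Type*} [Field F] [Field K] [Algebra F K]

/-- the semilinear maps `x ↦ a * σ x` as units of `End_F(K)` -/
noncomputable def gammaL (σ : K ≃ₐ[F] K) (a : Kˣ) : (Module.End F K)ˣ where
  val := (LinearMap.mulLeft F (a : K)) ∘ₗ σ.toLinearMap
  inv := σ.symm.toLinearMap ∘ₗ (LinearMap.mulLeft F ((a⁻¹ : Kˣ) : K))
  val_inv := by
    ext x
    simp
  inv_val := by
    ext x
    simp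

lemma gammaL_apply (σ : K ≃ₐ[F] K) (a : Kˣ) (x : K) :
    ((gammaL σ a : (Module.End F K)ˣ) : Module.End F K) x = (a : K) * σ x := rfl

lemma gammaL_inv_apply (σ : K ≃ₐ[F] K) (a : Kˣ) (x : K) :
    (((gammaL σ a)⁻¹ : (Module.End F K)ˣ) : Module.End F K) x = σ.symm (((a⁻¹ : Kˣ) : K) * x) := rfl

lemma gammaL_injective : Function.Injective (fun p : (K ≃ₐ[F] K) × Kˣ => gammaL p.1 p.2) := by
  rintro ⟨σ, a⟩ ⟨σ', a'⟩ h
  have h1 : ∀ x : K, (a : K) * σ x = (a' : K) * σ' x := by
    intro x
    have := congrArg (fun u : (Module.End F K)ˣ => (u : Module.End F K) x) h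
    exact this
  have ha : a = a' := by
    apply Units.ext
    have := h1 1
    simpa using this
  subst ha
  have hσ : σ = σ' := by
    ext x
    exact mul_left_cancel₀ a.ne_zero (h1 x)
  rw [hσ]

lemma gammaL_mem_normalizer (σ : K ≃ₐ[F] K) (a : Kˣ) :
    gammaL σ a ∈ Subgroup.normalizer ((singer F K : Subgroup (Module.End F K)ˣ) : Set (Module.End F K)ˣ) := by
  rw [Subgroup.mem_normalizer_iff]
  intro h
  constructor
  · intro hh
    obtain ⟨b, hb, hhb⟩ := (mem_singer_iff h).mp hh
    refine (mem_singer_iff _).mpr ⟨σ b, by simpa using hb, fun x => ?_⟩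
    rw [Units.val_mul, Units.val_mul, Module.End.mul_apply, Module.End.mul_apply, gammaL_apply,
      gammaL_inv_apply, hhb]
    simp only [map_mul, AlgEquiv.apply_symm_apply]
    have := a.ne_zero
    simp only [Units.val_inv_eq_inv_val]
    field_simp
  · intro hh
    obtain ⟨c, hc, hhc⟩ := (mem_singer_iff _).mp hh
    refine (mem_singer_iff _).mpr ⟨σ.symm c, by simpa using hc, fun x => ?_⟩
    have h1 := hhc ((a : K) * σ x)
    rw [Units.val_mul, Units.val_mul, Module.End.mul_apply, Module.End.mul_apply, gammaL_apply,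
      gammaL_inv_apply] at h1
    simp only [Units.val_inv_eq_inv_val] at h1
    rw [inv_mul_cancel_left₀ a.ne_zero, AlgEquiv.symm_apply_apply] at h1
    have h2 : σ ((h : Module.End F K) x) = c * σ x := by
      apply mul_left_cancel₀ a.ne_zero
      rw [h1]; ring
    have h3 := congrArg σ.symm h2
    rw [AlgEquiv.symm_apply_apply] at h3
    rw [h3]
    simp

/-- the linear map `b ↦ g (b * g⁻¹ 1)` -/
noncomputable def tauLin (g : (Module.End F K)ˣ) : K →ₗ[F] K :=
  (g : Module.End F K) ∘ₗ (LinearMap.mulRight F (((g⁻¹ : (Module.End F K)ˣ) : Module.End F K) 1))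

lemma tauLin_apply (g : (Module.End F K)ˣ) (b : K) :
    tauLin g b = (g : Module.End F K) (b * ((g⁻¹ : (Module.End F K)ˣ) : Module.End F K) 1) := rfl

lemma tauLin_spec (g : (Module.End F K)ˣ)
    (hg : g ∈ Subgroup.normalizer ((singer F K : Subgroup (Module.End F K)ˣ) : Set (Module.End F K)ˣ))
    (b x : K) :
    (g : Module.End F K) (b * ((g⁻¹ : (Module.End F K)ˣ) : Module.End F K) x) = tauLin g b * x := by
  by_cases hb : b = 0
  · subst hb; simp [tauLin_apply]
  · rw [Subgroup.mem_normalizer_iff] at hg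
    have hmem : (Units.mk0 b hb).map ((Algebra.lmul F K : K →ₐ[F] Module.End F K) : K →* Module.End F K) ∈ singer F K :=
      ⟨Units.mk0 b hb, rfl⟩
    have h1 := (hg _).mp hmem
    obtain ⟨c, hc, h2⟩ := (mem_singer_iff _).mp h1
    have h3 : ∀ y : K, (g : Module.End F K) (b * ((g⁻¹ : (Module.End F K)ˣ) : Module.End F K) y) = c * y := by
      intro y
      rw [← h2 y, Units.val_mul, Units.val_mul, Module.End.mul_apply, Module.End.mul_apply]
      simp
    rw [h3 x, tauLin_apply, h3 1, mul_one]

variable [FiniteDimensional F K]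

/-- the algebra automorphism induced by a normalizing element -/
noncomputable def tauAlg (g : (Module.End F K)ˣ)
    (hg : g ∈ Subgroup.normalizer ((singer F K : Subgroup (Module.End F K)ˣ) : Set (Module.End F K)ˣ)) :
    K ≃ₐ[F] K :=
  AlgEquiv.ofBijective
    (AlgHom.ofLinearMap (tauLin g) (by rw [tauLin_apply, one_mul, unit_apply_inv])
      (by
        intro b b'
        have h1 := tauLin_spec g hg (b * b') 1
        rw [mul_one] at h1
        rw [← h1, mul_assoc]
        have h2 := tauLin_spec g hg b' 1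
        have h3 : b' * ((g⁻¹ : (Module.End F K)ˣ) : Module.End F K) 1 =
            ((g⁻¹ : (Module.End F K)ˣ) : Module.End F K) (tauLin g b' * 1) := by
          rw [← h2, unit_inv_apply]
        rw [h3, tauLin_spec g hg b, mul_one]))
    (AlgHom.bijective _)

lemma tauAlg_apply (g : (Module.End F K)ˣ)
    (hg : g ∈ Subgroup.normalizer ((singer F K : Subgroup (Module.End F K)ˣ) : Set (Module.End F K)ˣ))
    (b : K) : tauAlg g hg b = tauLin g b := rfl

lemma exists_gammaL_eq (g : (Module.End F K)ˣ)
    (hg : g ∈ Subgroup.normalizer ((singer F K : Subgroup (Module.End F K)ˣ) : Set (Module.End F K)ˣ)) :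
    ∃ p : (K ≃ₐ[F] K) × Kˣ, gammaL p.1 p.2 = g := by
  have hne : (g : Module.End F K) 1 ≠ 0 := by
    intro h0
    have := congrArg ((g⁻¹ : (Module.End F K)ˣ) : Module.End F K) h0
    rw [unit_inv_apply, map_zero] at this
    exact one_ne_zero this
  refine ⟨(tauAlg g hg, Units.mk0 _ hne), ?_⟩
  apply Units.ext
  ext x
  rw [gammaL_apply, tauAlg_apply, Units.val_mk0]
  have h1 := tauLin_spec g hg x ((g : Module.End F K) 1)
  rw [unit_inv_apply, mul_one] at h1
  rw [h1, mul_comm]

theorem card_normalizer_singer [Finite K] :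
    Nat.card (Subgroup.normalizer ((singer F K : Subgroup (Module.End F K)ˣ) : Set (Module.End F K)ˣ)) =
      Module.finrank F K * (Nat.card K - 1) := by
  have hset : ((Subgroup.normalizer ((singer F K : Subgroup (Module.End F K)ˣ) : Set (Module.End F K)ˣ) :
      Subgroup (Module.End F K)ˣ) : Set (Module.End F K)ˣ) =
      Set.range (fun p : (K ≃ₐ[F] K) × Kˣ => gammaL p.1 p.2) := by
    ext g
    constructor
    · intro hg
      exact exists_gammaL_eq g hg
    · rintro ⟨p, rfl⟩
      exact gammaL_mem_normalizer p.1 p.2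
  have h1 : Nat.card (Subgroup.normalizer ((singer F K : Subgroup (Module.End F K)ˣ) : Set (Module.End F K)ˣ)) =
      Nat.card (Set.range (fun p : (K ≃ₐ[F] K) × Kˣ => gammaL p.1 p.2)) := by
    rw [← hset]; rfl
  rw [h1, Nat.card_range_of_injective gammaL_injective, Nat.card_prod, IsGalois.card_aut_eq_finrank,
    Nat.card_units]

end
end Cfsg.Agent.Helper95
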