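import Mathlib
import Cfsg.Prelude.Def_OddOrderLocal

/-!
# TI Hall subgroups in `π`-separable groups, part 1: the conjugation lemma

`ti_conj`: if `H` is a TI-subgroup, `W` a normal subgroup of order coprime to `|H|`, and a
non-identity element of `H` lies in `H^g W`, then `g ∈ W N(H)`.
-/

set_option autoImplicit false

namespace Cfsg.Agent.Helper95.TIHall

open Subgroup
open scoped Pointwise

variable {G : Type*} [Group G]

/-- Elements of coprime order: a common element is trivial. -/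
theorem eq_one_of_mem_of_coprime [Finite G] {A B : Subgroup G}
    (hcop : (Nat.card A).Coprime (Nat.card B)) {x : G} (hA : x ∈ A) (hB : x ∈ B) : x = 1 := by
  have h1 : orderOf x ∣ Nat.card A := by
    have := orderOf_dvd_natCard (⟨x, hA⟩ : A)
    rwa [Subgroup.orderOf_mk] at this
  have h2 : orderOf x ∣ Nat.card B := by
    have := orderOf_dvd_natCard (⟨x, hB⟩ : B)
    rwa [Subgroup.orderOf_mk] at this
  have h3 : orderOf x ∣ 1 := by
    have := Nat.dvd_gcd h1 h2
    rwa [hcop] at this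
  exact orderOf_eq_one_iff.mp (Nat.dvd_one.mp h3)

/-- **The conjugation lemma.** -/
theorem ti_conj [Finite G] (H W : Subgroup G) [hWn : W.Normal]
    (hTI : Cfsg.IsTISubset (H : Set G)) (hcop : (Nat.card W).Coprime (Nat.card H))
    {g h h' w : G} (hh : h ∈ H) (hh1 : h ≠ 1) (hh' : h' ∈ H) (hw : w ∈ W)
    (heq : h = g * h' * g⁻¹ * w) :
    ∃ u ∈ W, u⁻¹ * g ∈ normalizer (H : Set G) := by
  -- a prime dividing the order of `h`
  have hord : orderOf h ≠ 1 := fun h0 => hh1 (orderOf_eq_one_iff.mp h0)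
  obtain ⟨p, hp, hpd⟩ := Nat.exists_prime_and_dvd hord
  have : Fact p.Prime := ⟨hp⟩
  have hord0 : orderOf h ≠ 0 := (orderOf_pos h).ne'
  obtain ⟨k, hk⟩ : ∃ k : ℕ, k = orderOf h / p := ⟨_, rfl⟩
  have hyord : orderOf (h ^ k) = p := by rw [hk]; exact orderOf_pow_orderOf_div hord0 hpd
  have hyH : h ^ k ∈ H := H.pow_mem hh k
  have hy'H : h' ^ k ∈ H := H.pow_mem hh' k
  -- `y = t * w''`
  have hmk : (QuotientGroup.mk' W) (h ^ k) = (QuotientGroup.mk' W) (g * h' ^ k * g⁻¹) := by
    have h1 : (QuotientGroup.mk' W) w = 1 := (QuotientGroup.eq_one_iff w).mpr hw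
    have h2 : g * h' ^ k * g⁻¹ = (g * h' * g⁻¹) ^ k := (conj_pow).symm
    rw [h2, map_pow, map_pow, heq, map_mul, h1, mul_one]
  have hw'' : (g * h' ^ k * g⁻¹)⁻¹ * h ^ k ∈ W := by
    have := QuotientGroup.eq.mp hmk.symm
    exact this
  -- `y ∉ W`
  have hyW : h ^ k ∉ W := by
    intro h0
    have h1 := eq_one_of_mem_of_coprime hcop h0 hyH
    rw [h1, orderOf_one] at hyord
    exact hp.one_lt.ne hyord
  -- `y' ≠ 1`
  have hy'1 : h' ^ k ≠ 1 := by
    intro h0
    rw [h0, mul_one, mul_inv_cancel, inv_one, one_mul] at hw''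
    exact hyW hw''
  -- the group `E`
  obtain ⟨y, hy⟩ : ∃ y : G, y = h ^ k := ⟨_, rfl⟩
  obtain ⟨t, ht⟩ : ∃ t : G, t = g * h' ^ k * g⁻¹ := ⟨_, rfl⟩
  rw [← hy] at hyord hyH hyW hw''
  rw [← ht] at hw''
  obtain ⟨E, hE⟩ : ∃ E : Subgroup G, E = W ⊔ zpowers y := ⟨_, rfl⟩
  have hWE : W ≤ E := by rw [hE]; exact le_sup_left
  have hyE : y ∈ E := by rw [hE]; exact (le_sup_right : zpowers y ≤ _) (mem_zpowers y)
  have htE : t ∈ E := by
    have h1 : t = y * (t⁻¹ * y)⁻¹ := by group
    rw [h1]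
    exact E.mul_mem hyE (E.inv_mem (hWE hw''))
  -- `t ^ p = 1`
  have htp : t ^ p = 1 := by
    have h1 : t ^ p ∈ W := by
      have h2 : (QuotientGroup.mk' W) t = (QuotientGroup.mk' W) y := QuotientGroup.eq.mpr hw''
      have h3 : (QuotientGroup.mk' W) (t ^ p) = 1 := by
        rw [map_pow, h2, ← map_pow, ← hyord, pow_orderOf_eq_one, map_one]
      exact (QuotientGroup.eq_one_iff _).mp h3
    have h2 : t ^ p ∈ MulAut.conj g • H := by
      rw [Subgroup.mem_smul_pointwise_iff_exists]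
      refine ⟨(h' ^ k) ^ p, H.pow_mem hy'H p, ?_⟩
      rw [MulAut.smul_def, MulAut.conj_apply, ht, conj_pow]
    have h3 : Nat.card (MulAut.conj g • H : Subgroup G) = Nat.card H := by
      exact (Nat.card_congr (Subgroup.equivSMul (MulAut.conj g) H).toEquiv).symm
    exact eq_one_of_mem_of_coprime (by rw [h3]; exact hcop) h1 h2
  -- cardinality of `E`
  have hcardE : Nat.card E ∣ Nat.card W * p := by
    have h1 := Subgroup.relIndex_mul_relIndex ⊥ W E bot_le hWE
    rw [Subgroup.relIndex_bot_left, Subgroup.relIndex_bot_left] at h1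
    rw [← h1]
    apply Nat.mul_dvd_mul_left
    rw [hE, Subgroup.relIndex_sup_left]
    have h2 := Subgroup.relIndex_dvd_card W (zpowers y)
    rwa [Nat.card_zpowers, hyord] at h2
  have hpW : ¬ p ∣ Nat.card W := by
    intro h0
    have h1 : p ∣ Nat.card H := by
      rw [← hyord]
      have := orderOf_dvd_natCard (⟨y, hyH⟩ : H)
      rwa [Subgroup.orderOf_mk] at this
    have h2 := Nat.dvd_gcd h0 h1
    rw [hcop] at h2
    exact hp.one_lt.ne' (Nat.dvd_one.mp h2)
  -- Sylow subgroups of `E`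
  have hPp : IsPGroup p ((zpowers y).subgroupOf E) := by
    have h1 : IsPGroup p (zpowers y) := by
      apply IsPGroup.of_card (n := 1)
      rw [Nat.card_zpowers, hyord, pow_one]
    exact h1.comap_subtype
  have hTp : IsPGroup p ((zpowers t).subgroupOf E) := by
    have h1 : IsPGroup p (zpowers t) := by
      have h2 : orderOf t ∣ p := orderOf_dvd_of_pow_eq_one htp
      rcases (Nat.dvd_prime hp).mp h2 with h3 | h3
      · apply IsPGroup.of_card (n := 0)
        rw [Nat.card_zpowers, h3, pow_zero]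
      · apply IsPGroup.of_card (n := 1)
        rw [Nat.card_zpowers, h3, pow_one]
    exact h1.comap_subtype
  obtain ⟨S, hPS⟩ := hPp.exists_le_sylow
  obtain ⟨S', hTS'⟩ := hTp.exists_le_sylow
  obtain ⟨e, he⟩ := MulAction.exists_smul_eq E S S'
  -- `S = P`
  have hcardP : Nat.card ((zpowers y).subgroupOf E) = p := by
    have h1 : zpowers y ≤ E := by rw [hE]; exact le_sup_right
    rw [Nat.card_congr (Subgroup.subgroupOfEquivOfLe h1).toEquiv, Nat.card_zpowers, hyord]
  have hcardS : Nat.card (S : Subgroup E) ∣ p := by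
    obtain ⟨n, hn⟩ := IsPGroup.iff_card.mp S.2
    have h1 : Nat.card (S : Subgroup E) ∣ Nat.card W * p :=
      (Subgroup.card_subgroup_dvd_card _).trans hcardE
    have h2 : (Nat.card (S : Subgroup E)).Coprime (Nat.card W) := by
      rw [hn]
      exact Nat.Coprime.pow_left n ((Nat.Prime.coprime_iff_not_dvd hp).mpr hpW)
    exact h2.dvd_of_dvd_mul_left h1
  have hSP : (zpowers y).subgroupOf E = (S : Subgroup E) := by
    apply Subgroup.eq_of_le_of_card_ge hPS
    rw [hcardP]
    exact Nat.le_of_dvd hp.pos hcardS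
  -- `t` is conjugate into `⟨y⟩`
  have htS' : (⟨t, htE⟩ : E) ∈ (S' : Subgroup E) := by
    apply hTS'
    rw [Subgroup.mem_subgroupOf]
    exact mem_zpowers t
  rw [← he, Sylow.coe_subgroup_smul, ← hSP, Subgroup.mem_smul_pointwise_iff_exists] at htS'
  obtain ⟨s, hs, hse⟩ := htS'
  rw [Subgroup.mem_subgroupOf] at hs
  rw [MulAut.smul_def, MulAut.conj_apply] at hse
  have hse' : (e : G) * (s : G) * (e : G)⁻¹ = t := by
    have := congrArg (Subtype.val : E → G) hse
    simpa using this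
  -- apply TI
  have hsH : (s : G) ∈ H := by
    obtain ⟨j, hj⟩ := Subgroup.mem_zpowers_iff.mp hs
    rw [← hj]
    exact H.zpow_mem hyH j
  have hN : (e : G)⁻¹ * g ∈ normalizer (H : Set G) := by
    by_contra hcon
    apply hy'1
    apply hTI _ hcon (h' ^ k) hy'H
    have h1 : (e : G)⁻¹ * g * h' ^ k * ((e : G)⁻¹ * g)⁻¹ = (e : G)⁻¹ * t * (e : G) := by
      rw [ht]; group
    rw [h1, ← hse']
    have h2 : (e : G)⁻¹ * ((e : G) * (s : G) * (e : G)⁻¹) * (e : G) = s := by group
    rw [h2]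
    exact hsH
  -- decompose `e`
  have heE : (e : G) ∈ W ⊔ zpowers y := by rw [← hE]; exact e.2
  rw [Subgroup.mem_sup_of_normal_left] at heE
  obtain ⟨u, hu, z, hz, huz⟩ := heE
  refine ⟨u, hu, ?_⟩
  have hzH : z ∈ H := by
    obtain ⟨j, hj⟩ := Subgroup.mem_zpowers_iff.mp hz
    rw [← hj]
    exact H.zpow_mem hyH j
  have h1 : u⁻¹ * g = z * ((e : G)⁻¹ * g) := by rw [← huz]; group
  rw [h1]
  exact (normalizer (H : Set G)).mul_mem (Subgroup.le_normalizer hzH) hN

end Cfsg.Agent.Helper95.TIHall
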