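import Mathlib
import Cfsg.Agent.Helper95.TIHall1

/-!
# TI Hall subgroups in `π`-separable groups, part 2: passing to the quotient by a normal
`π'`-subgroup
-/

set_option autoImplicit false

namespace Cfsg.Agent.Helper95.TIHall

open Subgroup
open scoped Pointwise

variable {G : Type*} [Group G]

/-- `N(HW) ⊆ W N(H)`. -/
theorem exists_mul_mem_normalizer [Finite G] (H W : Subgroup G) [hWn : W.Normal]
    (hTI : Cfsg.IsTISubset (H : Set G)) (hcop : (Nat.card W).Coprime (Nat.card H))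
    (hH1 : H ≠ ⊥) {g : G} (hg : g ∈ normalizer ((H ⊔ W : Subgroup G) : Set G)) :
    ∃ u ∈ W, u⁻¹ * g ∈ normalizer (H : Set G) := by
  obtain ⟨⟨h, hh⟩, hh1⟩ := Subgroup.ne_bot_iff_exists_ne_one.mp hH1
  have hh1' : h ≠ 1 := fun h0 => hh1 (Subtype.ext h0)
  have h1 : g⁻¹ * h * g ∈ H ⊔ W := by
    rw [Subgroup.mem_normalizer_iff] at hg
    rw [hg (g⁻¹ * h * g)]
    have : g * (g⁻¹ * h * g) * g⁻¹ = h := by group
    rw [this]
    exact (le_sup_left : H ≤ H ⊔ W) hh
  rw [Subgroup.mem_sup_of_normal_right] at h1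
  obtain ⟨h', hh', w', hw', heq⟩ := h1
  apply ti_conj H W hTI hcop hh hh1' hh' (hWn.conj_mem w' hw' g)
  have : g * h' * g⁻¹ * (g * w' * g⁻¹) = g * (h' * w') * g⁻¹ := by group
  rw [this, heq]
  group

/-- The image of `H` in `G ⧸ W` has the same order as `H`. -/
theorem card_map_mk [Finite G] (H W : Subgroup G) [hWn : W.Normal]
    (hcop : (Nat.card W).Coprime (Nat.card H)) :
    Nat.card (H.map (QuotientGroup.mk' W)) = Nat.card H := by
  have h1 := Subgroup.relIndex_comap (⊥ : Subgroup (G ⧸ W)) (QuotientGroup.mk' W) H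
  rw [Subgroup.relIndex_bot_left, MonoidHom.comap_bot, QuotientGroup.ker_mk'] at h1
  rw [← h1, ← Subgroup.inf_relIndex_right]
  have h2 : W ⊓ H = ⊥ := by
    rw [eq_bot_iff]
    intro x hx
    rw [Subgroup.mem_bot]
    exact eq_one_of_mem_of_coprime hcop hx.1 hx.2
  rw [h2, Subgroup.relIndex_bot_left]

/-- The image of a TI-subgroup in the quotient by a normal subgroup of coprime order is TI. -/
theorem ti_map_mk [Finite G] (H W : Subgroup G) [hWn : W.Normal]
    (hTI : Cfsg.IsTISubset (H : Set G)) (hcop : (Nat.card W).Coprime (Nat.card H)) :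
    Cfsg.IsTISubset ((H.map (QuotientGroup.mk' W) : Subgroup (G ⧸ W)) : Set (G ⧸ W)) := by
  intro gb hgb xb hxb hconj
  obtain ⟨g, rfl⟩ := QuotientGroup.mk'_surjective W gb
  obtain ⟨x, hx, rfl⟩ := hxb
  obtain ⟨h, hh, hhx⟩ := hconj
  by_contra hx1
  have hxW : x ∉ W := fun h0 => hx1 ((QuotientGroup.eq_one_iff x).mpr h0)
  have hw : h⁻¹ * (g * x * g⁻¹) ∈ W := by
    have h0 : (QuotientGroup.mk' W) h = (QuotientGroup.mk' W) (g * x * g⁻¹) := by
      rw [hhx, map_mul, map_mul, map_inv]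
    exact QuotientGroup.eq.mp h0
  have hh1 : h ≠ 1 := by
    intro h0
    rw [h0, inv_one, one_mul] at hw
    apply hxW
    have := hWn.conj_mem _ hw g⁻¹
    have h2 : g⁻¹ * (g * x * g⁻¹) * g⁻¹⁻¹ = x := by group
    rwa [h2] at this
  obtain ⟨u, hu, hug⟩ := ti_conj H W hTI hcop (g := g) (h' := x) hh hh1 hx (W.inv_mem hw)
    (by group)
  apply hgb
  have hu1 : (QuotientGroup.mk' W) u = 1 := (QuotientGroup.eq_one_iff u).mpr hu
  have h3 : (QuotientGroup.mk' W) g = (QuotientGroup.mk' W) (u⁻¹ * g) := by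
    rw [map_mul, map_inv, hu1, inv_one, one_mul]
  rw [h3]
  exact Subgroup.le_normalizer_map _ ⟨_, hug, rfl⟩

/-- The Hall condition passes to the quotient. -/
theorem hall_map_mk [Finite G] (H W : Subgroup G) [hWn : W.Normal]
    (hTI : Cfsg.IsTISubset (H : Set G)) (hcop : (Nat.card W).Coprime (Nat.card H))
    (hH1 : H ≠ ⊥)
    (hHall : (Nat.card H).Coprime (H.subgroupOf (normalizer (H : Set G))).index) :
    (Nat.card (H.map (QuotientGroup.mk' W))).Coprime
      ((H.map (QuotientGroup.mk' W)).subgroupOf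
        (normalizer ((H.map (QuotientGroup.mk' W) : Subgroup (G ⧸ W)) : Set (G ⧸ W)))).index := by
  rw [card_map_mk H W hcop]
  apply Nat.Coprime.coprime_dvd_right _ hHall
  change (H.map (QuotientGroup.mk' W)).relIndex _ ∣ H.relIndex _
  -- `N(H̄) ≤ image of N(H)`
  have hle : normalizer ((H.map (QuotientGroup.mk' W) : Subgroup (G ⧸ W)) : Set (G ⧸ W)) ≤
      (normalizer (H : Set G)).map (QuotientGroup.mk' W) := by
    intro gb hgb
    obtain ⟨g, rfl⟩ := QuotientGroup.mk'_surjective W gb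
    have h1 : g ∈ normalizer ((H ⊔ W : Subgroup G) : Set G) := by
      have h2 : g ∈ (normalizer ((H.map (QuotientGroup.mk' W) : Subgroup (G ⧸ W)) :
          Set (G ⧸ W))).comap (QuotientGroup.mk' W) := hgb
      rw [Subgroup.comap_normalizer_eq_of_surjective _ (QuotientGroup.mk'_surjective W),
        Subgroup.comap_map_eq, QuotientGroup.ker_mk'] at h2
      exact h2
    obtain ⟨u, hu, hug⟩ := exists_mul_mem_normalizer H W hTI hcop hH1 h1
    have hu1 : (QuotientGroup.mk' W) u = 1 := (QuotientGroup.eq_one_iff u).mpr hu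
    refine ⟨u⁻¹ * g, hug, ?_⟩
    rw [map_mul, map_inv, hu1, inv_one, one_mul]
  have hHN : H.map (QuotientGroup.mk' W) ≤
      normalizer ((H.map (QuotientGroup.mk' W) : Subgroup (G ⧸ W)) : Set (G ⧸ W)) :=
    Subgroup.le_normalizer
  have h1 := Subgroup.relIndex_mul_relIndex ⊥ _ _ bot_le hHN
  have h2 := Subgroup.relIndex_mul_relIndex ⊥ H (normalizer (H : Set G)) bot_le
    Subgroup.le_normalizer
  rw [Subgroup.relIndex_bot_left, Subgroup.relIndex_bot_left] at h1 h2
  rw [card_map_mk H W hcop] at h1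
  have h3 : Nat.card (normalizer ((H.map (QuotientGroup.mk' W) : Subgroup (G ⧸ W)) :
      Set (G ⧸ W))) ∣ Nat.card (normalizer (H : Set G)) :=
    (Subgroup.card_dvd_of_le hle).trans (Subgroup.card_map_dvd _ _)
  rw [← h1, ← h2] at h3
  exact Nat.dvd_of_mul_dvd_mul_left Nat.card_pos h3

end Cfsg.Agent.Helper95.TIHall
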