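import Mathlib
import Cfsg.Agent.Helper95.TIHall2
import Cfsg.Agent.Helper60.TIHallT3

/-!
# TI Hall subgroups in `π`-separable groups, part 3: `G = O N(H)` and `O H ⊴ G`
-/

set_option autoImplicit false

namespace Cfsg.Agent.Helper95.TIHall

open Subgroup
open scoped Pointwise

variable {G : Type*} [Group G]

/-- `Nat.card H * H.relIndex K = Nat.card K` for `H ≤ K`. -/
theorem card_mul_relIndex_of_le {H K : Subgroup G} (h : H ≤ K) :
    Nat.card H * H.relIndex K = Nat.card K := by
  have h1 := Subgroup.relIndex_mul_relIndex ⊥ H K bot_le h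
  rwa [Subgroup.relIndex_bot_left, Subgroup.relIndex_bot_left] at h1

/-- From the `π`-separable series: a normal subgroup `V ≰ O` with `|V O / O|` a `π`-number. -/
theorem exists_pi_section [Finite G] (H O : Subgroup G) [hOn : O.Normal]
    (hOcop : (Nat.card O).Coprime (Nat.card H))
    (hOmax : ∀ K : Subgroup G, K.Normal → (Nat.card K).Coprime (Nat.card H) → K ≤ O)
    (hH1 : H ≠ ⊥)
    (hsep : ∃ (n : ℕ) (M : Fin (n + 1) → Subgroup G), M 0 = ⊥ ∧ M (Fin.last n) = ⊤ ∧ Monotone M ∧
      (∀ i, (M i).Normal) ∧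
      ∀ i : Fin n, (∀ q : ℕ, q.Prime → q ∣ (M i.castSucc).relIndex (M i.succ) → q ∣ Nat.card H) ∨
        ((M i.castSucc).relIndex (M i.succ)).Coprime (Nat.card H)) :
    ∃ V : Subgroup G, V.Normal ∧ ¬ V ≤ O ∧
      ∀ q : ℕ, q.Prime → q ∣ O.relIndex V → q ∣ Nat.card H := by
  obtain ⟨n, M, hM0, hMl, hMmono, hMn, hfac⟩ := hsep
  -- `H ≰ O`
  have hHO : ¬ H ≤ O := by
    intro h0
    apply hH1
    rw [eq_bot_iff]
    intro x hx
    rw [Subgroup.mem_bot]
    exact eq_one_of_mem_of_coprime hOcop (h0 hx) hx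
  -- some step leaves `O`
  have hex : ∃ j : Fin n, M j.castSucc ≤ O ∧ ¬ M j.succ ≤ O := by
    by_contra hcon
    push Not at hcon
    have hall : ∀ i : Fin (n + 1), M i ≤ O := by
      intro i
      induction i using Fin.induction with
      | zero => rw [hM0]; exact bot_le
      | succ j ih => exact hcon j ih
    have := hall (Fin.last n)
    rw [hMl] at this
    exact hHO (le_top.trans this)
  obtain ⟨j, hj1, hj2⟩ := hex
  have hle : M j.castSucc ≤ M j.succ := hMmono (Fin.castSucc_le_succ j)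
  refine ⟨M j.succ, hMn _, hj2, ?_⟩
  rcases hfac j with hpi | hcop
  · intro q hq hqd
    apply hpi q hq
    exact hqd.trans (Subgroup.relIndex_dvd_of_le_left _ hj1)
  · exfalso
    apply hj2
    apply hOmax _ (hMn _)
    rw [← card_mul_relIndex_of_le hle]
    apply Nat.Coprime.mul_left _ hcop
    exact Nat.Coprime.coprime_dvd_left (Subgroup.card_dvd_of_le hj1) hOcop

/-- **Parts (a) and (b).** -/
theorem part_ab [Finite G] (H O : Subgroup G) [hOn : O.Normal]
    (hTI : Cfsg.IsTISubset (H : Set G)) (hnn : ¬ H.Normal)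
    (hHall : (Nat.card H).Coprime (H.subgroupOf (normalizer (H : Set G))).index)
    (hOcop : (Nat.card O).Coprime (Nat.card H))
    (hOmax : ∀ K : Subgroup G, K.Normal → (Nat.card K).Coprime (Nat.card H) → K ≤ O)
    (hsep : ∃ (n : ℕ) (M : Fin (n + 1) → Subgroup G), M 0 = ⊥ ∧ M (Fin.last n) = ⊤ ∧ Monotone M ∧
      (∀ i, (M i).Normal) ∧
      ∀ i : Fin n, (∀ q : ℕ, q.Prime → q ∣ (M i.castSucc).relIndex (M i.succ) → q ∣ Nat.card H) ∨
        ((M i.castSucc).relIndex (M i.succ)).Coprime (Nat.card H)) :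
    O ⊔ normalizer (H : Set G) = ⊤ ∧ (O ⊔ H).Normal := by
  have hH1 : H ≠ ⊥ := by
    intro h0
    apply hnn
    rw [h0]
    infer_instance
  obtain ⟨V, hVn, hVO, hVpi⟩ := exists_pi_section H O hOcop hOmax hH1 hsep
  -- the quotient
  have hUn : (V.map (QuotientGroup.mk' O)).Normal :=
    hVn.map _ (QuotientGroup.mk'_surjective O)
  have hU1 : V.map (QuotientGroup.mk' O) ≠ ⊥ := by
    intro h0
    rw [Subgroup.map_eq_bot_iff, QuotientGroup.ker_mk'] at h0
    exact hVO h0
  have hcardU : Nat.card (V.map (QuotientGroup.mk' O)) = O.relIndex V := by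
    have h1 := Subgroup.relIndex_comap (⊥ : Subgroup (G ⧸ O)) (QuotientGroup.mk' O) V
    rw [Subgroup.relIndex_bot_left, MonoidHom.comap_bot, QuotientGroup.ker_mk'] at h1
    exact h1.symm
  have hnormal : (H.map (QuotientGroup.mk' O)).Normal := by
    apply Cfsg.Agent.Helper60.TIHallT3.normal_of_ti_of_normal_pi _ (V.map (QuotientGroup.mk' O))
      (ti_map_mk H O hTI hOcop) (hall_map_mk H O hTI hOcop hH1 hHall) hU1
    intro q hq hqd
    rw [card_map_mk H O hOcop]
    rw [hcardU] at hqd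
    exact hVpi q hq hqd
  have hb : (O ⊔ H).Normal := by
    have h1 := hnormal.comap (QuotientGroup.mk' O)
    rw [Subgroup.comap_map_eq, QuotientGroup.ker_mk', sup_comm] at h1
    exact h1
  refine ⟨?_, hb⟩
  rw [eq_top_iff]
  intro g _
  have hb' : (H ⊔ O).Normal := by rw [sup_comm]; exact hb
  have hg : g ∈ normalizer ((H ⊔ O : Subgroup G) : Set G) := by
    rw [Subgroup.normalizer_eq_top]
    exact Subgroup.mem_top g
  obtain ⟨u, hu, hug⟩ := exists_mul_mem_normalizer H O hTI hOcop hH1 hg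
  have : g = u * (u⁻¹ * g) := by group
  rw [this]
  exact (O ⊔ normalizer (H : Set G)).mul_mem ((le_sup_left : O ≤ _) hu)
    ((le_sup_right : normalizer (H : Set G) ≤ _) hug)

end Cfsg.Agent.Helper95.TIHall
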