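import Mathlib
import Cfsg.Agent.Helper95.FrobCompl6
import Cfsg.Agent.S0016
import Cfsg.Agent.Helper24.ZasOdd

set_option autoImplicit false

namespace Cfsg.Agent.Helper95.TIHallPG

open Subgroup Cfsg.Agent.Helper95.FrobCompl

theorem pgroup_struct {H : Type*} [Group H] [Finite H] (hF : FCLike H) (p : ℕ)
    [hp : Fact p.Prime] (T : Subgroup H) (hT : IsPGroup p T) :
    IsCyclic T ∨ (p = 2 ∧ ∃ n : ℕ, Nonempty (T ≃* QuaternionGroup (2 ^ n))) := by
  by_cases hp2 : p = 2
  · subst hp2
    apply Cfsg.Agent.S0016.result 2 hT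
    have key : ∀ A : Subgroup T, Nat.card A = 2 → ∃ a : T, a ∈ A ∧ a ≠ 1 ∧ a ^ 2 = 1 ∧
        A = zpowers a := by
      intro A hA
      have : Nontrivial A := Finite.one_lt_card_iff_nontrivial.mp (by rw [hA]; norm_num)
      obtain ⟨⟨a, haA⟩, ha1⟩ := exists_ne (1 : A)
      have ha1' : a ≠ 1 := fun h0 => ha1 (Subtype.ext h0)
      have ha2 : a ^ 2 = 1 := by
        have h1 := pow_card_eq_one' (G := A) (x := ⟨a, haA⟩)
        rw [hA] at h1
        have := congrArg Subtype.val h1
        simpa using this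
      refine ⟨a, haA, ha1', ha2, ?_⟩
      symm
      apply Subgroup.eq_of_le_of_card_ge
      · rw [Subgroup.zpowers_le]; exact haA
      · rw [hA, Nat.card_zpowers, orderOf_eq_prime ha2 ha1']
    intro A B hA hB
    obtain ⟨a, -, ha1, ha2, rfl⟩ := key A hA
    obtain ⟨b, -, hb1, hb2, rfl⟩ := key B hB
    have hab : (a : H) = (b : H) := by
      apply hF.invol
      · have := congrArg Subtype.val ha2
        simpa using this
      · have := congrArg Subtype.val hb2
        simpa using this
      · intro h0; exact ha1 (Subtype.ext h0)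
      · intro h0; exact hb1 (Subtype.ext h0)
    rw [Subtype.ext hab]
  · left
    exact Cfsg.Agent.Helper24.Zas.AbelR.pgroup_cyclic hF.abel p hp2 T hT

end Cfsg.Agent.Helper95.TIHallPG
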