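import Mathlib
import Cfsg.Agent.Helper95.FrobCompl6

/-!
# A fixed-point-free section gives a Frobenius-complement-like group (piece (C1c) for S4118)
-/

set_option autoImplicit false

namespace Cfsg.Agent.Helper95.TIHallSec

open Subgroup Cfsg.Agent.Helper95.FrobCompl
open scoped commutatorElement

variable {G : Type*} [Group G]

/-- `C_A(H)` as a subgroup of `↥A`. -/
def fixSub (H A : Subgroup G) : Subgroup ↥A := (centralizer (H : Set G)).subgroupOf A

theorem mem_fixSub {H A : Subgroup G} {a : ↥A} :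
    a ∈ fixSub H A ↔ ∀ k ∈ H, k * (a : G) = (a : G) * k := by
  unfold fixSub
  rw [Subgroup.mem_subgroupOf, Subgroup.mem_centralizer_iff]
  rfl

theorem fixSub_normal (H A : Subgroup G)
    (hder : H ≤ centralizer ((⁅A, A⁆ : Subgroup G) : Set G)) : (fixSub H A).Normal := by
  refine ⟨fun e he a => ?_⟩
  rw [mem_fixSub] at he ⊢
  intro k hk
  have h1 : ⁅(a : G), (e : G)⁆ ∈ ⁅A, A⁆ := Subgroup.commutator_mem_commutator a.2 e.2
  have h2 : ⁅(a : G), (e : G)⁆ * k = k * ⁅(a : G), (e : G)⁆ :=
    (Subgroup.mem_centralizer_iff.mp (hder hk)) _ h1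
  have h3 : ((a * e * a⁻¹ : ↥A) : G) = ⁅(a : G), (e : G)⁆ * (e : G) := by
    rw [commutatorElement_def]
    push_cast
    group
  rw [h3, ← mul_assoc, ← h2, mul_assoc, he k hk, mul_assoc]

theorem conjNormal_fixSub (H A : Subgroup G) [hAn : A.Normal] {h : G} (hh : h ∈ H) :
    (fixSub H A).map ((MulAut.conjNormal h : ↥A ≃* ↥A) : ↥A →* ↥A) = fixSub H A := by
  have key : ∀ e ∈ fixSub H A, (MulAut.conjNormal h : ↥A ≃* ↥A) e = e := by
    intro e he
    apply Subtype.ext
    rw [MulAut.conjNormal_apply]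
    rw [mem_fixSub] at he
    rw [he h hh]
    group
  ext x
  constructor
  · rintro ⟨e, he, rfl⟩
    show (MulAut.conjNormal h : ↥A ≃* ↥A) e ∈ _
    rw [key e he]
    exact he
  · intro hx
    exact ⟨x, hx, key x hx⟩

variable (H A : Subgroup G) [hAn : A.Normal]
  (hder : H ≤ centralizer ((⁅A, A⁆ : Subgroup G) : Set G))

/-- Conjugation by `h ∈ H` on `A ⧸ C_A(H)`. -/
noncomputable def rhoFun (h : ↥H) :
    haveI := fixSub_normal H A hder
    (↥A ⧸ fixSub H A) ≃* (↥A ⧸ fixSub H A) :=
  haveI := fixSub_normal H A hder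
  QuotientGroup.congr (fixSub H A) (fixSub H A) (MulAut.conjNormal (h : G) : ↥A ≃* ↥A)
    (conjNormal_fixSub H A h.2)

theorem rhoFun_mk (h : ↥H) (a : ↥A) :
    haveI := fixSub_normal H A hder
    rhoFun H A hder h (QuotientGroup.mk a) = QuotientGroup.mk (MulAut.conjNormal (h : G) a) :=
  haveI := fixSub_normal H A hder
  QuotientGroup.congr_mk _ _ _ _ _

/-- The action of `H` on `A ⧸ C_A(H)`. -/
noncomputable def rho :
    haveI := fixSub_normal H A hder
    ↥H →* MulAut (↥A ⧸ fixSub H A) :=
  haveI := fixSub_normal H A hder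
  { toFun := fun h => rhoFun H A hder h
    map_one' := by
      ext x
      induction x using QuotientGroup.induction_on with
      | H x => rw [rhoFun_mk, Subgroup.coe_one, map_one]; rfl
    map_mul' := fun g h => by
      ext x
      induction x using QuotientGroup.induction_on with
      | H x =>
        rw [MulAut.mul_apply, rhoFun_mk, rhoFun_mk, rhoFun_mk, Subgroup.coe_mul, map_mul]
        rfl }

theorem rho_mk (h : ↥H) (a : ↥A) :
    haveI := fixSub_normal H A hder
    rho H A hder h (QuotientGroup.mk a) = QuotientGroup.mk (MulAut.conjNormal (h : G) a) :=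
  rhoFun_mk H A hder h a

omit hAn in
/-- Coprime "b^n trick": if `h a h⁻¹ = a e` with `h` commuting with `e ∈ A`, then `e = 1`. -/
theorem eq_one_of_conj_eq_mul [Finite G]
    (hcop : (Nat.card A).Coprime (Nat.card H)) {h a e : G} (hh : h ∈ H) (he : e ∈ A)
    (hcomm : h * e = e * h) (hconj : h * a * h⁻¹ = a * e) : e = 1 := by
  have hpow : ∀ j : ℕ, h ^ j * a * (h ^ j)⁻¹ = a * e ^ j := by
    intro j
    induction j with
    | zero => simp
    | succ j ih =>
      have hce : h * e ^ j * h⁻¹ = e ^ j := by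
        have : Commute h (e ^ j) := (show Commute h e from hcomm).pow_right j
        rw [this.eq]; group
      calc h ^ (j + 1) * a * (h ^ (j + 1))⁻¹ = h * (h ^ j * a * (h ^ j)⁻¹) * h⁻¹ := by
            rw [pow_succ']; group
        _ = h * (a * e ^ j) * h⁻¹ := by rw [ih]
        _ = (h * a * h⁻¹) * (h * e ^ j * h⁻¹) := by group
        _ = a * e ^ (j + 1) := by rw [hconj, hce, pow_succ', mul_assoc]
  have h1 := hpow (orderOf h)
  rw [pow_orderOf_eq_one, one_mul, inv_one, mul_one] at h1
  have h2 : e ^ orderOf h = 1 := by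
    have : a * 1 = a * e ^ orderOf h := by rw [mul_one]; exact h1
    exact (mul_left_cancel this).symm
  have h3 : orderOf e ∣ orderOf h := orderOf_dvd_of_pow_eq_one h2
  have h4 : orderOf h ∣ Nat.card H := by
    have := orderOf_dvd_natCard (⟨h, hh⟩ : H)
    rwa [Subgroup.orderOf_mk] at this
  have h5 : orderOf e ∣ Nat.card A := by
    have := orderOf_dvd_natCard (⟨e, he⟩ : A)
    rwa [Subgroup.orderOf_mk] at this
  have h6 : orderOf e ∣ 1 := by
    have := Nat.dvd_gcd h5 (h3.trans h4)
    rwa [hcop] at this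
  exact orderOf_eq_one_iff.mp (Nat.dvd_one.mp h6)

include hder in
/-- **Piece (C1c).** -/
theorem fclike_of_section [Finite G]
    (hcop : (Nat.card A).Coprime (Nat.card H))
    (hfix : ∀ h ∈ H, h ≠ 1 → ∀ a ∈ A, a * h = h * a → ∀ k ∈ H, a * k = k * a)
    (hnc : ¬ H ≤ centralizer (A : Set G)) : FCLike H := by
  have hEn := fixSub_normal H A hder
  -- the quotient is nontrivial
  have hnt : Nontrivial (↥A ⧸ fixSub H A) := by
    by_contra hcon
    rw [not_nontrivial_iff_subsingleton] at hcon
    apply hnc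
    rw [Subgroup.le_centralizer_iff]
    intro a ha
    have h1 : (QuotientGroup.mk (⟨a, ha⟩ : ↥A) : ↥A ⧸ fixSub H A) = 1 := Subsingleton.elim _ _
    have h2 := (QuotientGroup.eq_one_iff _).mp h1
    rw [mem_fixSub] at h2
    rw [Subgroup.mem_centralizer_iff]
    exact h2
  -- fixed-point-freeness
  have hfpf0 : ∀ h : ↥H, h ≠ 1 → ∀ x : ↥A ⧸ fixSub H A, rho H A hder h x = x → x = 1 := by
    intro h hh1 x hx
    induction x using QuotientGroup.induction_on with
    | H a =>
      rw [rho_mk] at hx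
      have h1 : a⁻¹ * (MulAut.conjNormal (h : G) a : ↥A) ∈ fixSub H A :=
        QuotientGroup.eq.mp hx.symm
      have h2 := mem_fixSub.mp h1
      have hval : ((a⁻¹ * (MulAut.conjNormal (h : G) a : ↥A) : ↥A) : G) =
          (a : G)⁻¹ * ((h : G) * (a : G) * (h : G)⁻¹) := by
        rw [Subgroup.coe_mul, Subgroup.coe_inv, MulAut.conjNormal_apply]
      rw [hval] at h2
      have he1 := eq_one_of_conj_eq_mul H A hcop (h := (h : G)) (a := (a : G))
        (e := (a : G)⁻¹ * ((h : G) * (a : G) * (h : G)⁻¹)) h.2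
        (by
          have := (a⁻¹ * (MulAut.conjNormal (h : G) a : ↥A) : ↥A).2
          rwa [hval] at this)
        (h2 h h.2) (by group)
      have hcomm : (a : G) * (h : G) = (h : G) * (a : G) := by
        have h3 : (h : G) * (a : G) * (h : G)⁻¹ = (a : G) := (inv_mul_eq_one.mp he1).symm
        calc (a : G) * (h : G) = ((h : G) * (a : G) * (h : G)⁻¹) * (h : G) := by rw [h3]
          _ = (h : G) * (a : G) := by group
      have hh1' : (h : G) ≠ 1 := fun h0 => hh1 (Subtype.ext h0)
      have h4 := hfix h h.2 hh1' a a.2 hcomm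
      apply (QuotientGroup.eq_one_iff _).mpr
      rw [mem_fixSub]
      intro k hk
      exact (h4 k hk).symm
  have hinj : Function.Injective (rho H A hder) := by
    rw [injective_iff_map_eq_one]
    intro h hh
    by_contra hh1
    obtain ⟨k, hk⟩ := exists_ne (1 : ↥A ⧸ fixSub H A)
    apply hk
    apply hfpf0 h hh1 k
    rw [hh]
    rfl
  have hfpf : ∀ φ ∈ (rho H A hder).range, φ ≠ 1 → ∀ k : ↥A ⧸ fixSub H A, φ k = k → k = 1 := by
    rintro _ ⟨h, rfl⟩ hφ k hk
    apply hfpf0 h _ k hk
    intro h0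
    apply hφ
    rw [h0, map_one]
  have hΓ := fclike_of_fpf (rho H A hder).range hfpf
  exact FCLike.of_equiv (MonoidHom.ofInjective hinj) hΓ

end Cfsg.Agent.Helper95.TIHallSec
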