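import Mathlib
import Cfsg.Agent.Helper95.TIHall3
import Cfsg.Agent.Helper95.TIHallSec
import Cfsg.Agent.Helper95.TIHallPG
import Cfsg.Agent.Helper33.FrobPieces
import Cfsg.Agent.Helper69.TIHallAut2
import Cfsg.Agent.Helper10.TIHallAut
import Cfsg.Agent.Helper95.FrobCompl6
import Cfsg.Agent.Helper53.Conj
import Cfsg.Agent.Helper21.Fitting
import Cfsg.Agent.Lib.Cores
import Cfsg.Agent.Helper46.PSL2Solv

/-!
# TI Hall subgroups in `π`-separable groups, part 4: the solvability criterion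
-/

set_option autoImplicit false

namespace Cfsg.Agent.Helper95.TIHall

open Subgroup Cfsg.Agent.Helper95.FrobCompl Cfsg.Agent.Helper95.TIHallSec Cfsg.Agent.Helper95.TIHallPG
open Cfsg.Agent.Helper33.FrobPieces Cfsg.Agent.Helper69.TIHallAut2 Cfsg.Agent.Helper10.TIHallAut
open scoped Pointwise commutatorElement

variable {G : Type*} [Group G]

/-- `SL(2,5)` is not solvable. -/
theorem not_isSolvable_SL5 : ¬ Group.IsSolvable SL5 := by
  intro h
  have : Fact (Nat.Prime 5) := ⟨by norm_num⟩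
  have h1 : Group.IsSolvable PSL5 :=
    Group.isSolvable_of_surjective (f := QuotientGroup.mk' (Subgroup.center SL5))
      (QuotientGroup.mk'_surjective _)
  apply Cfsg.Agent.Helper46.Dk.not_isSolvable_PSL2 (F := ZMod 5) _ h1
  rw [ZMod.card]
  norm_num

/-- `C_O(h) = C_O(H)` for `h ∈ H`, `h ≠ 1`. -/
theorem commute_of_ti [Finite G] (H O : Subgroup G) [hOn : O.Normal]
    (hTI : Cfsg.IsTISubset (H : Set G)) (hcop : (Nat.card O).Coprime (Nat.card H))
    {h : G} (hh : h ∈ H) (hh1 : h ≠ 1) {a : G} (ha : a ∈ O) (hah : a * h = h * a) :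
    ∀ k ∈ H, a * k = k * a := by
  have haN : a ∈ normalizer (H : Set G) := by
    by_contra hcon
    apply hh1
    apply hTI a hcon h hh
    have : a * h * a⁻¹ = h := by rw [hah]; group
    rw [this]
    exact hh
  intro k hk
  have h1 : a * k * a⁻¹ * k⁻¹ ∈ H :=
    H.mul_mem ((Subgroup.mem_normalizer_iff.mp haN k).mp hk) (H.inv_mem hk)
  have h2 : a * k * a⁻¹ * k⁻¹ ∈ O := by
    have : a * k * a⁻¹ * k⁻¹ = a * (k * a⁻¹ * k⁻¹) := by group
    rw [this]
    exact O.mul_mem ha (hOn.conj_mem _ (O.inv_mem ha) k)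
  have h3 := eq_one_of_mem_of_coprime hcop h2 h1
  calc a * k = (a * k * a⁻¹ * k⁻¹) * (k * a) := by group
    _ = k * a := by rw [h3, one_mul]

/-- `H` is "Frobenius-complement-like". -/
theorem fclike_of_ti [Finite G] (H O : Subgroup G) [hOn : O.Normal]
    (hTI : Cfsg.IsTISubset (H : Set G)) (hnn : ¬ H.Normal)
    (hcop : (Nat.card O).Coprime (Nat.card H)) (hn : (O ⊔ H).Normal)
    (hsol : Group.IsSolvable O) : FCLike H := by
  have hnc : ¬ H ≤ centralizer (O : Set G) := fun hc =>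
    hnn (normal_of_centralizes H O hcop hn hc)
  obtain ⟨A, hAn, hAO, hAnc, hAder⟩ := exists_min_noncentralized H O hsol hnc
  have := hAn
  apply fclike_of_section H A hAder
    (Nat.Coprime.coprime_dvd_left (Subgroup.card_dvd_of_le hAO) hcop) _ hAnc
  intro h hh hh1 a ha hah
  exact commute_of_ti H O hTI hcop hh hh1 (hAO ha) hah

/-- A `FCLike` subgroup without `SL(2,5)` is solvable. -/
theorem isSolvable_of_fclike [Finite G] {H : Subgroup G} (hF : FCLike H)
    (hno : ∀ K : Subgroup G, K ≤ H →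
      ¬ Nonempty (K ≃* Matrix.SpecialLinearGroup (Fin 2) (ZMod 5))) :
    Group.IsSolvable H := by
  by_contra hns
  obtain ⟨L, -, z, i, j, -, ⟨e⟩, -⟩ := exists_core hF hns
  apply hno (L.map H.subtype) (Subgroup.map_subtype_le L)
  exact ⟨(L.equivMapOfInjective H.subtype H.subtype_injective).symm.trans e⟩

/-- `Q'` centralizes `O_p(H)`. -/
theorem commutator_le_centralizer_pCore [Finite G] (H Q : Subgroup G) (hF : FCLike H)
    (hQN : Q ≤ normalizer (H : Set G)) (hcop : (Nat.card Q).Coprime (Nat.card H))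
    (p : ℕ) (hp : p.Prime) :
    ⁅Q, Q⁆ ≤ centralizer (((Cfsg.pCore p ↥H).map H.subtype : Subgroup G) : Set G) := by
  have : Fact p.Prime := ⟨hp⟩
  have hQP : Q ≤ normalizer (((Cfsg.pCore p ↥H).map H.subtype : Subgroup G) : Set G) :=
    hQN.trans (Cfsg.Agent.Helper53.char_map_normalizer_le H _
      (Cfsg.Agent.Lib.pCore_characteristic p))
  rcases pgroup_struct hF p (Cfsg.pCore p ↥H) (Cfsg.Agent.Lib.isPGroup_pCore p) with
    hc | ⟨-, n, ⟨e⟩⟩
  · have : IsCyclic ↥((Cfsg.pCore p ↥H).map H.subtype) :=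
      isCyclic_of_surjective
        ((Cfsg.pCore p ↥H).equivMapOfInjective H.subtype H.subtype_injective)
        (MulEquiv.surjective _)
    rw [Subgroup.commutator_le]
    intro x hx y hy
    rw [commutatorElement_def]
    exact commutator_mem_centralizer_of_isCyclic _ (hQP hx) (hQP hy)
  · have e' : ↥((Cfsg.pCore p ↥H).map H.subtype) ≃* QuaternionGroup (2 ^ n) :=
      ((Cfsg.pCore p ↥H).equivMapOfInjective H.subtype H.subtype_injective).symm.trans e
    have hodd : Odd (Nat.card Q) := by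
      have h2 : 2 ∣ Nat.card H := by
        have h3 : Nat.card (Cfsg.pCore p ↥H) = 4 * 2 ^ n := by
          rw [Nat.card_congr e.toEquiv, Nat.card_eq_fintype_card, QuaternionGroup.card]
        have h4 : Nat.card (Cfsg.pCore p ↥H) ∣ Nat.card H := Subgroup.card_subgroup_dvd_card _
        rw [h3] at h4
        exact (Dvd.intro (2 * 2 ^ n) (by ring)).trans h4
      exact (Nat.Coprime.coprime_dvd_right h2 hcop).odd_of_right
    exact commutator_le_centralizer_of_quaternion _ Q n e' hQP hodd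

/-- `Q'` centralizes `H`. -/
theorem commutator_le_centralizer [Finite G] (H Q : Subgroup G) (hF : FCLike H)
    (hsol : Group.IsSolvable H) (hQN : Q ≤ normalizer (H : Set G))
    (hcop : (Nat.card Q).Coprime (Nat.card H)) : ⁅Q, Q⁆ ≤ centralizer (H : Set G) := by
  have hle : ⁅Q, Q⁆ ≤ Q := Cfsg.Agent.Helper21.commutator_self_le Q
  apply le_centralizer_of_le_centralizer_fitting H ⁅Q, Q⁆ hsol (hle.trans hQN)
    (Nat.Coprime.coprime_dvd_left (Subgroup.card_dvd_of_le hle) hcop)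
  apply le_centralizer_fitting_of_pCore
  intro p hp
  exact commutator_le_centralizer_pCore H Q hF hQN hcop p hp

/-- closure under conjugation by `g` and `g⁻¹` gives membership in the normalizer. -/
theorem mem_normalizer_of_forall {K : Subgroup G} {g : G} (h1 : ∀ x ∈ K, g * x * g⁻¹ ∈ K)
    (h2 : ∀ x ∈ K, g⁻¹ * x * g ∈ K) : g ∈ normalizer (K : Set G) := by
  rw [Subgroup.mem_normalizer_iff]
  intro x
  refine ⟨h1 x, fun hx => ?_⟩
  have := h2 _ hx
  have h3 : g⁻¹ * (g * x * g⁻¹) * g = x := by group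
  rwa [h3] at this

/-- `C_Q(H) ≤ O`. -/
theorem inf_centralizer_le [Finite G] (H O Q : Subgroup G) [hOn : O.Normal]
    (hOmax : ∀ K : Subgroup G, K.Normal → (Nat.card K).Coprime (Nat.card H) → K ≤ O)
    (hOcop : (Nat.card O).Coprime (Nat.card H))
    (ha : O ⊔ normalizer (H : Set G) = ⊤)
    (hQN : Q ≤ normalizer (H : Set G)) (hQcop : (Nat.card Q).Coprime (Nat.card H))
    (hHQ : H ⊔ Q = normalizer (H : Set G)) :
    Q ⊓ centralizer (H : Set G) ≤ O := by
  have hconj : ∀ q ∈ Q, ∀ c ∈ Q ⊓ centralizer (H : Set G),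
      q * c * q⁻¹ ∈ Q ⊓ centralizer (H : Set G) := by
    intro q hq c hc
    refine Subgroup.mem_inf.mpr ⟨Q.mul_mem (Q.mul_mem hq hc.1) (Q.inv_mem hq), ?_⟩
    rw [Subgroup.mem_centralizer_iff]
    intro h hh
    have hh' : q⁻¹ * h * q ∈ H := by
      have := (Subgroup.mem_normalizer_iff.mp (hQN (Q.inv_mem hq)) h).mp hh
      rwa [inv_inv] at this
    have hc2 := (Subgroup.mem_centralizer_iff.mp hc.2) _ hh'
    calc h * (q * c * q⁻¹) = q * ((q⁻¹ * h * q) * c) * q⁻¹ := by group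
      _ = q * (c * (q⁻¹ * h * q)) * q⁻¹ := by rw [hc2]
      _ = q * c * q⁻¹ * h := by group
  have hQQ1 : Q ≤ normalizer ((Q ⊓ centralizer (H : Set G) : Subgroup G) : Set G) := by
    intro q hq
    apply mem_normalizer_of_forall (hconj q hq)
    intro x hx
    have := hconj q⁻¹ (Q.inv_mem hq) x hx
    rwa [inv_inv] at this
  have hHQ1 : H ≤ normalizer ((Q ⊓ centralizer (H : Set G) : Subgroup G) : Set G) := by
    refine le_trans ?_ (Subgroup.centralizer_le_normalizer _)
    rw [Subgroup.le_centralizer_iff]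
    exact inf_le_right
  have hnormal : (Q ⊓ centralizer (H : Set G) ⊔ O).Normal := by
    rw [← Subgroup.normalizer_eq_top_iff, eq_top_iff, ← ha, ← hHQ]
    apply sup_le
    · exact (le_sup_right : O ≤ Q ⊓ centralizer (H : Set G) ⊔ O).trans Subgroup.le_normalizer
    · apply Cfsg.Agent.Helper21.le_normalizer_sup (sup_le hHQ1 hQQ1)
      rw [Subgroup.normalizer_eq_top]
      exact le_top
  have hcard : (Nat.card (Q ⊓ centralizer (H : Set G) ⊔ O : Subgroup G)).Coprime (Nat.card H) :=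
    Cfsg.Agent.Lib.card_sup_coprime_of_normal
      (Nat.Coprime.coprime_dvd_left (Subgroup.card_dvd_of_le inf_le_left) hQcop) hOcop
  exact le_sup_left.trans (hOmax _ hnormal hcard)

/-- **Part (c), the hard direction.** -/
theorem part_c_mpr [Finite G] (H O : Subgroup G) [hOn : O.Normal]
    (hTI : Cfsg.IsTISubset (H : Set G)) (hnn : ¬ H.Normal)
    (hHall : (Nat.card H).Coprime (H.subgroupOf (normalizer (H : Set G))).index)
    (hOcop : (Nat.card O).Coprime (Nat.card H))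
    (hOmax : ∀ K : Subgroup G, K.Normal → (Nat.card K).Coprime (Nat.card H) → K ≤ O)
    (ha : O ⊔ normalizer (H : Set G) = ⊤) (hb : (O ⊔ H).Normal)
    (hOsol : Group.IsSolvable O)
    (hno : ∀ K : Subgroup G, K ≤ H →
      ¬ Nonempty (K ≃* Matrix.SpecialLinearGroup (Fin 2) (ZMod 5))) :
    Group.IsSolvable G := by
  have hF := fclike_of_ti H O hTI hnn hOcop hb hOsol
  have hHsol := isSolvable_of_fclike hF hno
  obtain ⟨Q, hQN, hQcop, hHQ⟩ := exists_complement_in_normalizer H hHall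
  have hcomm := commutator_le_centralizer H Q hF hHsol hQN hQcop
  have hQ1 := inf_centralizer_le H O Q hOmax hOcop ha hQN hQcop hHQ
  have htop : (O ⊔ H) ⊔ Q = ⊤ := by rw [sup_assoc, hHQ, ha]
  have hdec : ∀ g : G, ∃ q ∈ Q, (QuotientGroup.mk' (O ⊔ H)) g = (QuotientGroup.mk' (O ⊔ H)) q := by
    intro g
    have hg : g ∈ (O ⊔ H) ⊔ Q := by rw [htop]; exact Subgroup.mem_top g
    rw [Subgroup.mem_sup_of_normal_left] at hg
    obtain ⟨m, hm, q, hq, rfl⟩ := hg
    have hm1 : (QuotientGroup.mk' (O ⊔ H)) m = 1 := (QuotientGroup.eq_one_iff m).mpr hm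
    exact ⟨q, hq, by rw [map_mul, hm1, one_mul]⟩
  have hGM : ∀ a b : G ⧸ (O ⊔ H), a * b = b * a := by
    intro a b
    obtain ⟨g₁, rfl⟩ := QuotientGroup.mk'_surjective (O ⊔ H) a
    obtain ⟨g₂, rfl⟩ := QuotientGroup.mk'_surjective (O ⊔ H) b
    obtain ⟨q₁, hq₁, e₁⟩ := hdec g₁
    obtain ⟨q₂, hq₂, e₂⟩ := hdec g₂
    rw [e₁, e₂, ← map_mul, ← map_mul]
    apply QuotientGroup.eq.mpr
    have h1 : (q₁ * q₂)⁻¹ * (q₂ * q₁) = ⁅q₂⁻¹, q₁⁻¹⁆ := by
      rw [commutatorElement_def]; group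
    rw [h1]
    have h2 : ⁅q₂⁻¹, q₁⁻¹⁆ ∈ ⁅Q, Q⁆ :=
      Subgroup.commutator_mem_commutator (Q.inv_mem hq₂) (Q.inv_mem hq₁)
    have h3 : ⁅q₂⁻¹, q₁⁻¹⁆ ∈ Q ⊓ centralizer (H : Set G) :=
      Subgroup.mem_inf.mpr ⟨Cfsg.Agent.Helper21.commutator_self_le Q h2, hcomm h2⟩
    exact (le_sup_left : O ≤ O ⊔ H) (hQ1 h3)
  have hs1 : Group.IsSolvable (G ⧸ (O ⊔ H)) := Group.isSolvable_of_comm hGM
  have hs2 : Group.IsSolvable ↥(O ⊔ H) := by
    have h1 : Group.IsSolvable ↥(H ⊔ O) := by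
      apply Cfsg.Agent.Helper21.isSolvable_sup hHsol hOsol
      rw [Subgroup.normalizer_eq_top]
      exact le_top
    rwa [sup_comm] at h1
  exact Group.isSolvable_of_ker_le_range (O ⊔ H).subtype (QuotientGroup.mk' (O ⊔ H))
    (by rw [QuotientGroup.ker_mk', Subgroup.range_subtype])

end Cfsg.Agent.Helper95.TIHall
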