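import Mathlib
import Cfsg.Agent.Helper95.ZassAbelian2

/-!
# Zassenhaus groups with abelian kernel: the version with the order of the field (helper95)
-/

set_option autoImplicit false
set_option linter.unusedSectionVars false
set_option linter.style.haveILetI false

namespace Cfsg.Agent.Helper95.ZassAbelian

open Cfsg MulAction

universe u v

variable {G : Type u} {Ω : Type v} [Group G] [MulAction G Ω]

/-- **Zassenhaus groups with abelian kernel** (given Feit's inequality), with the order of the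
field. -/
theorem abelian_kernel_card (hfeit : FeitHyp.{u, v}) [Finite G] [Finite Ω]
    (hZ : Cfsg.IsZassenhausGroup G Ω) (x : Ω) (F : Subgroup G)
    (hFle : F ≤ stabilizer G x) (hFn : (F.subgroupOf (stabilizer G x)).Normal)
    (hFab : IsMulCommutative F)
    (hreg : ∀ y z : Ω, y ≠ x → z ≠ x → ∃! u : F, (u : G) • y = z) :
    (IsMultiplyPretransitive G Ω 3 ∧ ∀ t : Fin 3 ↪ Ω, stabilizer G t = ⊥) ∨
      ∃ (p f : ℕ) (K : Type) (_ : Field K) (_ : Fintype K), p.Prime ∧ p ≠ 2 ∧
        Fintype.card K = p ^ f ∧ Nat.card Ω = p ^ f + 1 ∧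
        Nonempty (G ≃* Matrix.ProjectiveSpecialLinearGroup (Fin 2) K) := by
  classical
  haveI : Fintype Ω := Fintype.ofFinite Ω
  obtain ⟨hf, h2, h3f, -, -⟩ := id hZ
  have h3 := Cfsg.Agent.Helper60.Zassenhaus.three_le_card hZ
  have hFcard : Nat.card F + 1 = Fintype.card Ω := by
    have := Cfsg.Agent.Helper95.ZassEven.card_eq hZ F hFle hreg
    rw [Nat.card_eq_fintype_card] at this
    omega
  have hFfix : ∀ u ∈ F, u ≠ 1 → ∀ c : Ω, u • c = c → c = x := fun u hu hu1 c hc =>
    Cfsg.Agent.Helper95.ZassEven.eq_of_fix F hreg hu hu1 hc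
  have hFn' : ∀ h ∈ stabilizer G x, ∀ u ∈ F, h * u * h⁻¹ ∈ F := by
    intro h hh u hu
    have := hFn.conj_mem ⟨u, hFle hu⟩ (Subgroup.mem_subgroupOf.mpr hu) ⟨h, hh⟩
    rw [Subgroup.mem_subgroupOf] at this
    exact this
  have hFab' : ∀ u ∈ F, ∀ v ∈ F, u * v = v * u := by
    intro u hu v hv
    have := hFab.is_comm.comm (⟨u, hu⟩ : F) ⟨v, hv⟩
    exact congrArg Subtype.val this
  -- a second point
  obtain ⟨b, hxb⟩ : ∃ b : Ω, x ≠ b := by
    by_contra hcon
    push Not at hcon
    have : Fintype.card Ω ≤ 1 := Fintype.card_le_one_iff.mpr (fun y z => by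
      rw [← hcon y, ← hcon z])
    omega
  have hdvd := card_stab2_dvd_sub_two h3f hxb
  have hdpos : 0 < Nat.card ↥(stabilizer G x ⊓ stabilizer G b : Subgroup G) := Nat.card_pos
  -- the inequality `n - 1 ≤ 2 d`
  have hineq : Fintype.card Ω - 2 ≤
      2 * Nat.card ↥(stabilizer G x ⊓ stabilizer G b : Subgroup G) := by
    rcases Nat.even_or_odd (Nat.card ↥(stabilizer G x ⊓ stabilizer G b : Subgroup G)) with
      heven | hodd
    · exact Cfsg.Agent.S0741.result hZ hxb heven
    · exact feit_abelian hfeit hZ hxb hodd F hFle hFcard hFfix hFab'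
  obtain ⟨m, hm⟩ := hdvd
  have hm12 : m = 1 ∨ m = 2 := by
    have hm0 : m ≠ 0 := by
      rintro rfl
      rw [mul_zero] at hm
      omega
    have hm2 : m ≤ 2 := by
      by_contra hcon
      push Not at hcon
      have : Nat.card ↥(stabilizer G x ⊓ stabilizer G b : Subgroup G) * 3 ≤
          Nat.card ↥(stabilizer G x ⊓ stabilizer G b : Subgroup G) * m :=
        Nat.mul_le_mul_left _ hcon
      omega
    omega
  rcases hm12 with rfl | rfl
  · -- sharply triply transitive
    left
    rw [mul_one] at hm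
    exact sharp_of_card h2 h3f hxb hm.symm
  · right
    have h2d : 2 * Nat.card ↥(stabilizer G x ⊓ stabilizer G b : Subgroup G) =
        Fintype.card Ω - 2 := by rw [hm, mul_comm]
    rcases Nat.even_or_odd (Nat.card ↥(stabilizer G x ⊓ stabilizer G b : Subgroup G)) with
      heven | hodd
    · obtain ⟨p, f, K, hKf, hKfin, hp, hp2, hKcard, hΩcard, hiso⟩ :=
        Cfsg.Agent.S0742.result hZ hxb heven (le_of_eq h2d)
      exact ⟨p, f, K, hKf, hKfin, hp, hp2, hKcard, by rw [Nat.card_eq_fintype_card, hΩcard], hiso⟩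
    · -- the new case: `d` odd
      haveI hsimple : IsSimpleGroup G :=
        simple_of_abelian hfeit hZ hxb hodd h2d F hFle hFcard hFfix hFab'
      have hnil := Cfsg.Agent.Helper15.Zass.hnil_of_simple hZ hxb
      obtain ⟨hcyc, -, hinv⟩ := Cfsg.Agent.S0739.result hZ hxb hodd hnil
      obtain ⟨⟨s, hs2, hsx, hsb⟩, -, -⟩ := Cfsg.Agent.S0740.result hZ hxb
      have D := zdata hZ hxb F hFle hFn' hreg
      have hHab : ∀ h ∈ Cfsg.Agent.Helper61.Zs.stabH G x b,
          ∀ h' ∈ Cfsg.Agent.Helper61.Zs.stabH G x b, h * h' = h' * h := by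
        intro h hh h' hh'
        haveI := hcyc
        letI := IsCyclic.commGroup (α := ↥(stabilizer G x ⊓ stabilizer G b : Subgroup G))
        have := mul_comm (⟨h, hh⟩ : ↥(stabilizer G x ⊓ stabilizer G b : Subgroup G)) ⟨h', hh'⟩
        exact congrArg Subtype.val this
      have hss : s * s = 1 := by
        have := pow_orderOf_eq_one s
        rwa [hs2, pow_two] at this
      have h2d' : 2 * Nat.card ↥(Cfsg.Agent.Helper61.Zs.stabH G x b) + 1 = Nat.card F := by
        show 2 * Nat.card ↥(stabilizer G x ⊓ stabilizer G b : Subgroup G) + 1 = Nat.card F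
        omega
      obtain ⟨R, hRf, hRfin, hRΩ, hR4, ⟨e⟩⟩ :=
        Cfsg.Agent.Helper95.ZsOdd.iso_psl_odd D hFab' hHab hodd h2d' (s := s) ⟨hsx, hsb⟩ hss
          (fun h hh => hinv s hsx hsb h hh)
      obtain ⟨p, f, K, hKf, hKfin, hp, hKcard, hRcard, hiso⟩ :=
        Cfsg.Agent.Helper61.Zs.exists_galois_psl e
      refine ⟨p, f, K, hKf, hKfin, hp, ?_, hKcard, ?_, hiso⟩
      · rintro rfl
        rw [hRcard] at hR4
        rcases f with _ | _ | f
        · norm_num at hR4
        · norm_num at hR4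
        · rw [pow_succ, pow_succ, mul_assoc] at hR4
          omega
      · rw [Nat.card_eq_fintype_card, ← hRΩ, hRcard]

end Cfsg.Agent.Helper95.ZassAbelian
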